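import Mathlib
import Groth.Prelude.Def_Smoothing

/-! Base change of marked presentations. -/

set_option autoImplicit false
universe u

noncomputable section

namespace Groth.Agent.SmoothingLib

open MvPolynomial TensorProduct Smoothing

variable {R A : Type u} (R' : Type u) [CommRing R] [CommRing A] [Algebra R A] [CommRing R'] [Algebra R R']

/-- Base change of the map of a marked presentation. -/
def homBaseChange (P : MarkedPresentation R A) : MvPolynomial (Fin P.n) R' →ₐ[R'] R' ⊗[R] A :=
  (Algebra.TensorProduct.map (AlgHom.id R' R') P.hom).comp (MvPolynomial.algebraTensorAlgEquiv R R').symm.toAlgHom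

theorem algebraTensorAlgEquiv_includeRight {n : ℕ} (p : MvPolynomial (Fin n) R) :
    MvPolynomial.algebraTensorAlgEquiv R R' ((1 : R') ⊗ₜ[R] p) = MvPolynomial.map (algebraMap R R') p := by
  simp

theorem homBaseChange_map (P : MarkedPresentation R A) (p : MvPolynomial (Fin P.n) R) :
    homBaseChange R' P (MvPolynomial.map (algebraMap R R') p) = (1 : R') ⊗ₜ[R] P.hom p := by
  rw [← algebraTensorAlgEquiv_includeRight]
  change Algebra.TensorProduct.map (AlgHom.id R' R') P.hom
    ((MvPolynomial.algebraTensorAlgEquiv R R').symm (MvPolynomial.algebraTensorAlgEquiv R R' _)) = _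
  rw [AlgEquiv.symm_apply_apply, Algebra.TensorProduct.map_tmul]
  rfl

/-- Base change of a marked presentation. -/
def baseChangeMarked (P : MarkedPresentation R A) : MarkedPresentation R' (R' ⊗[R] A) where
  n := P.n
  m := P.m
  c := P.c
  hcn := P.hcn
  hcm := P.hcm
  rel := fun j => MvPolynomial.map (algebraMap R R') (P.rel j)
  hom := homBaseChange R' P
  surj := by
    intro z
    obtain ⟨w, hw⟩ := Algebra.TensorProduct.map_surjective (AlgHom.id R' R') P.hom Function.surjective_id P.surj z
    refine ⟨MvPolynomial.algebraTensorAlgEquiv R R' w, ?_⟩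
    change Algebra.TensorProduct.map (AlgHom.id R' R') P.hom
      ((MvPolynomial.algebraTensorAlgEquiv R R').symm (MvPolynomial.algebraTensorAlgEquiv R R' w)) = z
    rw [AlgEquiv.symm_apply_apply]
    exact hw
  ker_eq := by
    let e := MvPolynomial.algebraTensorAlgEquiv R R' (σ := Fin P.n)
    let F := Algebra.TensorProduct.map (AlgHom.id R' R') P.hom
    have h1 : RingHom.ker F.toRingHom = Ideal.map (Algebra.TensorProduct.includeRight
        (R := R) (A := R') (B := MvPolynomial (Fin P.n) R)).toRingHom (RingHom.ker P.hom.toRingHom) := by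
      have := Algebra.TensorProduct.lTensor_ker (A := R') P.hom P.surj
      exact this
    have h2 : RingHom.ker (homBaseChange R' P).toRingHom = Ideal.comap e.symm.toRingEquiv.toRingHom (RingHom.ker F.toRingHom) :=
      rfl
    rw [h2, h1, P.ker_eq, Ideal.map_span, ← Set.range_comp]
    have h3 : Ideal.comap e.symm.toRingEquiv.toRingHom = Ideal.map e.toRingEquiv.toRingHom :=
      funext fun J => (Ideal.map_symm (f := e.symm.toRingEquiv) (I := J)).symm
    rw [h3, Ideal.map_span, ← Set.range_comp]
    congr 2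
    funext j
    exact algebraTensorAlgEquiv_includeRight R' (P.rel j)

theorem jacobianMinor_map {n m c : ℕ} (f : Fin m → MvPolynomial (Fin n) R) (rows : Fin c → Fin m) (cols : Fin c → Fin n) :
    jacobianMinor (fun j => MvPolynomial.map (algebraMap R R') (f j)) rows cols =
      MvPolynomial.map (algebraMap R R') (jacobianMinor f rows cols) := by
  rw [jacobianMinor, jacobianMinor, RingHom.map_det]
  congr 1
  ext j k
  simp [MvPolynomial.pderiv_map]

theorem killsTail_baseChange (P : MarkedPresentation R A) {a : A} (h : KillsTail P a) :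
    KillsTail (baseChangeMarked R' P) ((1 : R') ⊗ₜ[R] a) := by
  intro (a' : MvPolynomial (Fin P.n) R') (ha' : homBaseChange R' P a' = _) (j : Fin P.m) (hj : P.c ≤ (j : ℕ))
  obtain ⟨a₀, ha₀⟩ := P.surj a
  let μ := MvPolynomial.map (σ := Fin P.n) (algebraMap R R')
  let qr : Fin P.m → MvPolynomial (Fin P.n) R' := fun j => μ (P.rel j)
  have hker : RingHom.ker (homBaseChange R' P).toRingHom = Ideal.span (Set.range qr) := (baseChangeMarked R' P).ker_eq
  have hd : a' - μ a₀ ∈ Ideal.span (Set.range qr) := by
    rw [← hker, RingHom.mem_ker, map_sub, sub_eq_zero]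
    refine ha'.trans ?_
    change _ = homBaseChange R' P (μ a₀)
    rw [homBaseChange_map, ha₀]
  have h1 : (a' - μ a₀) * qr j ∈ Ideal.span (Set.range qr) ^ 2 := by
    rw [pow_two]
    exact Ideal.mul_mem_mul hd (Ideal.subset_span ⟨j, rfl⟩)
  have h2 := Ideal.mem_map_of_mem μ (h a₀ ha₀ j hj)
  rw [Ideal.map_sup, Ideal.map_pow, Ideal.map_span, Ideal.map_span, ← Set.range_comp, ← Set.image_comp, map_mul] at h2
  have h3 : μ a₀ * qr j ∈ Ideal.span (qr '' {j' : Fin P.m | (j' : ℕ) < P.c}) ⊔
      Ideal.span (Set.range qr) ^ 2 := h2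
  have e : a' * qr j = μ a₀ * qr j + (a' - μ a₀) * qr j := by ring
  change a' * qr j ∈ Ideal.span (qr '' {j' : Fin P.m | (j' : ℕ) < P.c}) ⊔ Ideal.span (Set.range qr) ^ 2
  rw [e]
  exact add_mem h3 (Submodule.mem_sup_right h1)

theorem isElementaryStandard_baseChange {a : A} (h : IsElementaryStandard R A a) :
    IsElementaryStandard R' (R' ⊗[R] A) ((1 : R') ⊗ₜ[R] a) := by
  obtain ⟨P, ⟨a', ha'⟩, hk⟩ := h
  refine ⟨baseChangeMarked R' P, ⟨(1 : R') ⊗ₜ[R] a', ?_⟩, killsTail_baseChange R' P hk⟩
  change _ = _ * homBaseChange R' P (jacobianMinor (fun j => MvPolynomial.map (algebraMap R R') (P.rel j))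
    (Fin.castLE P.hcm) (Fin.castLE P.hcn))
  rw [jacobianMinor_map, homBaseChange_map, Algebra.TensorProduct.tmul_mul_tmul, one_mul, ← ha']

theorem isStrictlyStandard_baseChange {a : A} (h : IsStrictlyStandard R A a) :
    IsStrictlyStandard R' (R' ⊗[R] A) ((1 : R') ⊗ₜ[R] a) := by
  obtain ⟨P, ha, hk⟩ := h
  refine ⟨baseChangeMarked R' P, ?_, killsTail_baseChange R' P hk⟩
  have h1 := Ideal.mem_map_of_mem (Algebra.TensorProduct.includeRight (R := R) (A := R') (B := A)) ha
  rw [Ideal.map_span, ← Set.range_comp] at h1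
  refine (Ideal.span_mono ?_) h1
  rintro _ ⟨cols, rfl⟩
  refine ⟨cols, ?_⟩
  change homBaseChange R' P (jacobianMinor (fun j => MvPolynomial.map (algebraMap R R') (P.rel j)) _ cols) = _
  rw [jacobianMinor_map, homBaseChange_map]
  rfl

end Groth.Agent.SmoothingLib
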