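import Mathlib
import Groth.Prelude.Def_Smoothing
import Groth.Agent.NeronLib.Grad

/-! A Jacobian minor at a smooth point of a finitely presented algebra (no Noetherian hypothesis). -/

set_option autoImplicit false
universe u

noncomputable section

namespace Groth.Agent.SmoothingLib

open MvPolynomial IsLocalRing TensorProduct

/-- Formal smoothness of a quotient of a local ring: elements of the kernel with differential in `m Ω` lie in `m I`. -/
theorem mem_mul_ker_of_formallySmooth {R P S : Type u} [CommRing R] [CommRing P] [IsLocalRing P] [Algebra R P]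
    [CommRing S] [Algebra R S] [Algebra P S] [IsScalarTower R P S] [Algebra.FormallySmooth R P]
    [Algebra.FormallySmooth R S] (hsurj : Function.Surjective (algebraMap P S))
    (hker : RingHom.ker (algebraMap P S) ≤ maximalIdeal P) {x : P} (hx : x ∈ RingHom.ker (algebraMap P S))
    (hD : KaehlerDifferential.D R P x ∈ maximalIdeal P • (⊤ : Submodule P (KaehlerDifferential R P))) :
    x ∈ maximalIdeal P * RingHom.ker (algebraMap P S) := by
  set I := RingHom.ker (algebraMap P S)
  obtain ⟨l, hl⟩ := (Algebra.FormallySmooth.iff_split_injection (R := R) hsurj).1 inferInstance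
  let Φ : KaehlerDifferential R P →ₗ[P] I.Cotangent := l ∘ₗ TensorProduct.mk P S (KaehlerDifferential R P) 1
  have hΦ : Φ (KaehlerDifferential.D R P x) = I.toCotangent ⟨x, hx⟩ := by
    have := LinearMap.congr_fun hl (I.toCotangent ⟨x, hx⟩)
    rwa [LinearMap.comp_apply, KaehlerDifferential.kerCotangentToTensor_toCotangent] at this
  have h1 := Submodule.mem_map_of_mem (f := Φ) hD
  rw [Submodule.map_smul'', hΦ] at h1
  have h3 : Submodule.map Φ ⊤ ≤ Submodule.map I.toCotangent ⊤ := by
    rw [Submodule.map_top (f := I.toCotangent), LinearMap.range_eq_top.2 I.toCotangent_surjective]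
    exact le_top
  have h1' := Submodule.smul_mono le_rfl h3 h1
  rw [← Submodule.map_smul''] at h1'
  obtain ⟨y, hy, hyz⟩ := Submodule.mem_map.1 h1'
  have hy' : (y : P) ∈ maximalIdeal P * I := by
    have h4 := Submodule.mem_map_of_mem (f := I.subtype) hy
    rw [Submodule.map_smul'', Submodule.map_top, Submodule.range_subtype] at h4
    exact h4
  have h5 := (Ideal.toCotangent_eq I).1 hyz
  have h6 : (y : P) - x ∈ maximalIdeal P * I := by
    rw [pow_two] at h5
    exact Ideal.mul_mono_left hker h5
  simpa using sub_mem hy' h6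

theorem sum_rearrange {P M : Type u} [CommRing P] [AddCommGroup M] [Module P M] {n c : ℕ} (a : Fin n → P)
    (z : Fin c → P) (b : Fin c → Fin n → P) (v : Fin n → M) (S : M) :
    ∑ k, a k • v k - ((∑ i, z i • ∑ k, b i k • v k) + S) = (∑ k, (a k - ∑ i, z i * b i k) • v k) - S := by
  simp only [sub_smul, Finset.sum_smul, Finset.sum_sub_distrib, mul_smul, Finset.smul_sum]
  rw [Finset.sum_comm (γ := Fin c)]
  abel

theorem D_sub_sum_mem {R P : Type u} [CommRing R] [CommRing P] [IsLocalRing P] [Algebra R P] {n c : ℕ}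
    (u : P) (v z : Fin c → P) (a : Fin n → P) (b : Fin c → Fin n → P) (dX : Fin n → KaehlerDifferential R P)
    (hu : KaehlerDifferential.D R P u = ∑ k, a k • dX k)
    (hv : ∀ i, KaehlerDifferential.D R P (v i) = ∑ k, b i k • dX k) (hvm : ∀ i, v i ∈ maximalIdeal P)
    (hab : ∀ k, a k - ∑ i, z i * b i k ∈ maximalIdeal P) :
    KaehlerDifferential.D R P (u - ∑ i, z i * v i) ∈
      maximalIdeal P • (⊤ : Submodule P (KaehlerDifferential R P)) := by
  have h : KaehlerDifferential.D R P (u - ∑ i, z i * v i) =
      (∑ k, (a k - ∑ i, z i * b i k) • dX k) - ∑ i, v i • KaehlerDifferential.D R P (z i) := by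
    simp only [map_sub, map_sum, Derivation.leibniz, Finset.sum_add_distrib, hu, hv]
    exact sum_rearrange _ _ _ _ _
  rw [h]
  exact sub_mem (Submodule.sum_mem _ fun k _ => Submodule.smul_mem_smul (hab k) Submodule.mem_top)
    (Submodule.sum_mem _ fun i _ => Submodule.smul_mem_smul (hvm i) Submodule.mem_top)

variable {R A : Type u} [CommRing R] [CommRing A] [Algebra R A] {n m : ℕ}

theorem exists_rows_cols (f : Fin m → MvPolynomial (Fin n) R) (φ : MvPolynomial (Fin n) R →ₐ[R] A)
    (hφ : Function.Surjective φ) (hker : RingHom.ker φ.toRingHom = Ideal.span (Set.range f))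
    (q : Ideal A) [q.IsPrime] [Algebra.IsSmoothAt R q] :
    ∃ (c : ℕ) (rows : Fin c ↪ Fin m) (cols : Fin c ↪ Fin n) (s : MvPolynomial (Fin n) R),
      φ (Smoothing.jacobianMinor f rows cols) ∉ q ∧ φ s ∉ q ∧
        ∀ l, s * f l ∈ Ideal.span (Set.range (f ∘ rows)) := by
  classical
  let Pn := MvPolynomial (Fin n) R
  let p : Ideal Pn := q.comap φ.toRingHom
  let κ := p.ResidueField
  let P := Localization.AtPrime p
  let ev : Pn →+* κ := algebraMap _ κ
  have hev : ∀ x, ev x = 0 ↔ φ x ∈ q := fun x => Ideal.algebraMap_residueField_eq_zero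
  let w : Fin m → Fin n → κ := fun i k => ev (pderiv k (f i))
  obtain ⟨ι, a, ha, hspan, hli⟩ := exists_linearIndependent' κ w
  haveI : Finite ι := Finite.of_injective a ha
  obtain ⟨c, ⟨e⟩⟩ := Finite.exists_equiv_fin ι
  let rows : Fin c ↪ Fin m := ⟨a ∘ e.symm, ha.comp e.symm.injective⟩
  have hli' : LinearIndependent κ (w ∘ rows) := hli.comp _ e.symm.injective
  have hspan' : Submodule.span κ (Set.range (w ∘ rows)) = Submodule.span κ (Set.range w) := by
    rw [← hspan, show (w ∘ rows : Fin c → _) = (w ∘ a) ∘ e.symm from rfl, Set.range_comp _ e.symm,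
      e.symm.surjective.range_eq, Set.image_univ]
  -- columns
  let col : Fin n → Fin c → κ := fun k i => w (rows i) k
  obtain ⟨ι', b, hb, hspanb, hlib⟩ := exists_linearIndependent' κ col
  obtain ⟨e', he'⟩ := NeronLib.exists_left_inverse (fun i => w (rows i)) hli'
  have htop : Submodule.span κ (Set.range (col ∘ b)) = ⊤ := by
    rw [hspanb, eq_top_iff]
    rintro v -
    rw [pi_eq_sum_univ' v]
    refine Submodule.sum_mem _ fun j _ => Submodule.smul_mem _ _ ?_
    have : (Pi.single j 1 : Fin c → κ) = ∑ k, e' j k • col k := funext fun i => by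
      simp only [Finset.sum_apply, Pi.smul_apply, smul_eq_mul, col]
      rw [he', Pi.single_apply]
    rw [this]
    exact Submodule.sum_mem _ fun k _ => Submodule.smul_mem _ _ (Submodule.subset_span ⟨k, rfl⟩)
  let bas := Module.Basis.mk hlib (le_of_eq htop.symm)
  let σ := (Pi.basisFun κ (Fin c)).indexEquiv bas
  let cols : Fin c ↪ Fin n := ⟨b ∘ σ, hb.comp σ.injective⟩
  have hminor : φ (Smoothing.jacobianMinor f rows cols) ∉ q := by
    rw [← hev, Smoothing.jacobianMinor, RingHom.map_det]
    have h1 : LinearIndependent κ (col ∘ cols) := hlib.comp σ σ.injective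
    have h2 : IsUnit (Matrix.of fun k i => col (cols k) i) := Matrix.linearIndependent_rows_iff_isUnit.1 h1
    have h3 := ((Matrix.isUnit_iff_isUnit_det _).1 h2).ne_zero
    rwa [← Matrix.det_transpose] at h3
  -- Nakayama
  let I : Ideal Pn := RingHom.ker φ.toRingHom
  let J : Ideal Pn := Ideal.span (Set.range (f ∘ rows))
  let χ := Localization.localRingHom p q φ.toRingHom rfl
  letI := χ.toAlgebra
  haveI : IsScalarTower R P (Localization.AtPrime q) := IsScalarTower.of_algebraMap_eq fun t => by
    rw [IsScalarTower.algebraMap_apply R Pn P, RingHom.algebraMap_toAlgebra]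
    change _ = χ _
    rw [Localization.localRingHom_to_map, IsScalarTower.algebraMap_apply R A (Localization.AtPrime q)]
    exact congrArg _ (φ.commutes t).symm
  haveI : Algebra.FormallyEtale Pn P := Algebra.FormallyEtale.of_isLocalization p.primeCompl
  haveI : Algebra.FormallySmooth R (Localization.AtPrime q) := ‹Algebra.IsSmoothAt R q›
  haveI : Algebra.FormallySmooth R P := Algebra.FormallySmooth.comp R Pn P
  have hsurj : Function.Surjective (algebraMap P (Localization.AtPrime q)) := by
    intro z
    obtain ⟨x, ⟨t, ht⟩, rfl⟩ := IsLocalization.exists_mk'_eq q.primeCompl z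
    obtain ⟨x, rfl⟩ := hφ x
    obtain ⟨t, rfl⟩ := hφ t
    exact ⟨IsLocalization.mk' P x (⟨t, ht⟩ : p.primeCompl), Localization.localRingHom_mk' _ _ _ _ _ _⟩
  have hIP : RingHom.ker (algebraMap P (Localization.AtPrime q)) = I.map (algebraMap Pn P) := by
    refine le_antisymm (fun x hx => ?_) (Ideal.map_le_iff_le_comap.2 fun x hx => ?_)
    · obtain ⟨x, t, rfl⟩ := IsLocalization.exists_mk'_eq p.primeCompl x
      rw [RingHom.mem_ker, RingHom.algebraMap_toAlgebra, Localization.localRingHom_mk',
        IsLocalization.mk'_eq_zero_iff] at hx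
      obtain ⟨⟨u, hu⟩, hur⟩ := hx
      obtain ⟨u, rfl⟩ := hφ u
      have h2 := Ideal.mem_map_of_mem (algebraMap Pn P) (show u * x ∈ I by
        rw [RingHom.mem_ker, map_mul]; exact hur)
      rw [map_mul] at h2
      rw [IsLocalization.mk'_eq_mul_mk'_one]
      exact Ideal.mul_mem_right _ _ ((Ideal.unit_mul_mem_iff_mem _
        (IsLocalization.map_units P (⟨u, hu⟩ : p.primeCompl))).1 h2)
    · rw [Ideal.mem_comap, RingHom.mem_ker, RingHom.algebraMap_toAlgebra, Localization.localRingHom_to_map,
        RingHom.mem_ker.1 hx, map_zero]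
  have hfI : ∀ i, f i ∈ I := fun i => by
    change f i ∈ RingHom.ker φ.toRingHom
    rw [hker]; exact Ideal.subset_span ⟨i, rfl⟩
  have hIp : I ≤ p := fun x hx => by rw [Ideal.mem_comap, RingHom.mem_ker.1 hx]; exact zero_mem _
  have hIm : RingHom.ker (algebraMap P (Localization.AtPrime q)) ≤ maximalIdeal P := by
    rw [hIP, Ideal.map_le_iff_le_comap]
    exact fun x hx => (IsLocalization.AtPrime.to_map_mem_maximal_iff P p x).2 (hIp hx)
  have hle : I.map (algebraMap Pn P) ≤ J.map (algebraMap Pn P) ⊔ maximalIdeal P • I.map (algebraMap Pn P) := by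
    rw [show I = Ideal.span (Set.range f) from hker, Ideal.map_le_iff_le_comap, Ideal.span_le]
    rintro _ ⟨l, rfl⟩
    have hw : w l ∈ Submodule.span κ (Set.range (w ∘ rows)) := hspan' ▸ Submodule.subset_span ⟨l, rfl⟩
    obtain ⟨z, hz⟩ := (Submodule.mem_span_range_iff_exists_fun κ).1 hw
    choose z' hz' using fun i => residue_surjective (R := P) (z i)
    let x : P := algebraMap Pn P (f l) - ∑ i, z' i * algebraMap Pn P (f (rows i))
    have hxI : x ∈ RingHom.ker (algebraMap P (Localization.AtPrime q)) := by
      rw [hIP]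
      exact sub_mem (Ideal.mem_map_of_mem _ (hfI l))
        (sum_mem fun i _ => Ideal.mul_mem_left _ _ (Ideal.mem_map_of_mem _ (hfI _)))
    have hD : KaehlerDifferential.D R P x ∈ maximalIdeal P • (⊤ : Submodule P (KaehlerDifferential R P)) := by
      have hDf : ∀ y : Pn, KaehlerDifferential.D R P (algebraMap Pn P y) =
          ∑ k, algebraMap Pn P (pderiv k y) • KaehlerDifferential.D R P (algebraMap Pn P (X k)) := fun y => by
        rw [← KaehlerDifferential.map_D R R Pn P, NeronLib.D_eq_sum, map_sum]
        exact Finset.sum_congr rfl fun k _ => by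
          rw [map_smul, KaehlerDifferential.map_D]; exact (algebraMap_smul (A := P) (pderiv k y) (KaehlerDifferential.D R P (algebraMap Pn P (X k)))).symm
      refine D_sub_sum_mem (algebraMap Pn P (f l)) (fun i => algebraMap Pn P (f (rows i))) z'
        (fun k => algebraMap Pn P (pderiv k (f l))) (fun i k => algebraMap Pn P (pderiv k (f (rows i))))
        (fun k => KaehlerDifferential.D R P (algebraMap Pn P (X k))) (hDf _) (fun i => hDf _)
        (fun i => (IsLocalization.AtPrime.to_map_mem_maximal_iff P p _).2 (hIp (hfI _))) fun k => ?_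
      rw [← residue_eq_zero_iff, map_sub, map_sum, sub_eq_zero]
      have h5 := congrFun hz k
      simp only [Finset.sum_apply, Pi.smul_apply, smul_eq_mul, Function.comp_apply] at h5
      refine h5.symm.trans (Finset.sum_congr rfl fun i _ => ?_)
      rw [map_mul, hz']
      rfl
    have h6 := mem_mul_ker_of_formallySmooth (R := R) hsurj hIm hxI hD
    rw [hIP] at h6
    rw [SetLike.mem_coe, Ideal.mem_comap,
      show algebraMap Pn P (f l) = (∑ i, z' i * algebraMap Pn P (f (rows i))) + x by simp [x],
      ← show I = Ideal.span (Set.range f) from hker]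
    exact Submodule.add_mem_sup (sum_mem fun i _ =>
      Ideal.mul_mem_left _ _ (Ideal.mem_map_of_mem _ (Ideal.subset_span ⟨i, rfl⟩))) h6
  have hle' : I.map (algebraMap Pn P) ≤ J.map (algebraMap Pn P) := by
    refine Submodule.le_of_le_smul_of_le_jacobson_bot ?_
      (le_of_eq (IsLocalRing.jacobson_eq_maximalIdeal ⊥ bot_ne_top).symm) hle
    rw [show I = Ideal.span (Set.range f) from hker, Ideal.map_span]
    exact Submodule.fg_span ((Set.finite_range f).image _)
  choose t ht htJ using fun l => (IsLocalization.algebraMap_mem_map_algebraMap_iff p.primeCompl P J (f l)).1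
    (hle' (Ideal.mem_map_of_mem _ (hfI l)))
  refine ⟨c, rows, cols, ∏ l, t l, hminor, ?_, fun l => ?_⟩
  · have : (∏ l, t l) ∈ p.primeCompl := prod_mem fun l _ => ht l
    exact this
  · rw [← Finset.prod_erase_mul _ _ (Finset.mem_univ l), mul_assoc]
    exact J.mul_mem_left _ (htJ l)

end Groth.Agent.SmoothingLib
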