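import Mathlib
import Groth.Agent.SmoothingLib.Minor
import Groth.Agent.NeronLib.BlowupSmooth

/-! The lifting lemma for smoothing ring maps. -/

set_option autoImplicit false
universe u

noncomputable section

namespace Groth.Agent.SmoothingLib

open MvPolynomial

/-- In a flat algebra the annihilators of `π` and `π²` still agree. -/
theorem mul_eq_zero_of_flat {R E : Type u} [CommRing R] [CommRing E] [Algebra R E] [Module.Flat R E] (π : R)
    (hR : ∀ r : R, π ^ 2 * r = 0 → π * r = 0) {y : E} (hy : algebraMap R E (π ^ 2) * y = 0) :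
    algebraMap R E π * y = 0 := by
  obtain ⟨k, a, z, hz, ha⟩ := Module.Flat.isTrivialRelation_of_sum_smul_eq_zero
    (f := fun _ : Fin 1 => π ^ 2) (x := fun _ => y) (by simpa [Algebra.smul_def] using hy)
  rw [show y = ∑ j, a 0 j • z j from hz 0, Finset.mul_sum]
  refine Finset.sum_eq_zero fun j _ => ?_
  have h1 : π ^ 2 * a 0 j = 0 := by simpa using ha j
  rw [Algebra.smul_def, ← mul_assoc, ← map_mul, hR _ h1, map_zero, zero_mul]

/-- Smoothness at a prime from leading relations and vanishing of the other relations in flat local algebras. -/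
theorem isSmoothAt_of_relations {R : Type u} [CommRing R] [IsNoetherianRing R] {N m : ℕ}
    (G : Set (MvPolynomial (Fin N) R)) (Q : Ideal (MvPolynomial (Fin N) R ⧸ Ideal.span G)) [Q.IsPrime]
    (F : Fin m → MvPolynomial (Fin N) R) (hF : ∀ i, F i ∈ Ideal.span G)
    (D' : Fin m → Derivation R (MvPolynomial (Fin N) R) (MvPolynomial (Fin N) R))
    (hdet : Ideal.Quotient.mk (Ideal.span G) (Matrix.det (Matrix.of fun i j => D' j (F i))) ∉ Q)
    (hG : ∀ w ∈ G, ∀ (E : Type u) [CommRing E] [Algebra (MvPolynomial (Fin N) R) E] [Algebra R E]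
      [IsScalarTower R (MvPolynomial (Fin N) R) E] [Module.Flat R E] [IsLocalRing E],
      (∀ i, algebraMap (MvPolynomial (Fin N) R) E (F i) = 0) →
      (∀ y, IsUnit (algebraMap (MvPolynomial (Fin N) R) E y) ↔ Ideal.Quotient.mk (Ideal.span G) y ∉ Q) →
      algebraMap (MvPolynomial (Fin N) R) E w = 0) :
    Algebra.IsSmoothAt R Q := by
  classical
  let P := MvPolynomial (Fin N) R
  let K : Ideal P := Ideal.span G
  let q : Ideal P := Q.comap (Ideal.Quotient.mk K)
  refine (NeronLib.isSmoothAt_iff_minor (Ideal.Quotient.mkₐ R K) Ideal.Quotient.mk_surjective Q).2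
    ⟨m, F, D', fun i => Ideal.Quotient.eq_zero_iff_mem.2 (hF i), ?_, hdet⟩
  have hK : RingHom.ker (Ideal.Quotient.mkₐ R K).toRingHom = K := Ideal.mk_ker
  rw [hK]
  change K.map (algebraMap P (Localization.AtPrime q)) =
    Ideal.span (Set.range fun i => algebraMap P (Localization.AtPrime q) (F i))
  let J : Ideal P := Ideal.span (Set.range F)
  have hJK : J ≤ K := Ideal.span_le.2 (by rintro _ ⟨i, rfl⟩; exact hF i)
  rw [show Ideal.span (Set.range fun i => algebraMap P (Localization.AtPrime q) (F i)) =
    J.map (algebraMap P (Localization.AtPrime q)) by rw [Ideal.map_span, ← Set.range_comp]; rfl]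
  refine le_antisymm ?_ (Ideal.map_mono hJK)
  let f0 : (P ⧸ J) →+* (P ⧸ K) := Ideal.Quotient.factor hJK
  let q0 : Ideal (P ⧸ J) := Q.comap f0
  haveI : q0.IsPrime := Ideal.comap_isPrime _ _
  have hsm : Algebra.IsSmoothAt R q0 := by
    refine (NeronLib.isSmoothAt_iff_minor (Ideal.Quotient.mkₐ R J) Ideal.Quotient.mk_surjective q0).2
      ⟨m, F, D', fun i => Ideal.Quotient.eq_zero_iff_mem.2 (Ideal.subset_span ⟨i, rfl⟩), ?_, hdet⟩
    have hJ : RingHom.ker (Ideal.Quotient.mkₐ R J).toRingHom = J := Ideal.mk_ker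
    rw [hJ, Ideal.map_span, ← Set.range_comp]
    rfl
  let E := Localization.AtPrime q0
  haveI : Algebra.FormallySmooth R E := hsm
  let χ := Localization.localRingHom (q0.comap (Ideal.Quotient.mk J)) q0 (Ideal.Quotient.mk J) rfl
  haveI : Module.Flat R E := by
    haveI : IsNoetherianRing (Localization.AtPrime (q0.comap (Ideal.Quotient.mk J))) :=
      IsLocalization.isNoetherianRing (q0.comap (Ideal.Quotient.mk J)).primeCompl _ inferInstance
    haveI : Module.Flat P (Localization.AtPrime (q0.comap (Ideal.Quotient.mk J))) :=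
      IsLocalization.flat _ (q0.comap (Ideal.Quotient.mk J)).primeCompl
    haveI : Module.Flat R (Localization.AtPrime (q0.comap (Ideal.Quotient.mk J))) := Module.Flat.trans R P _
    let χa : Localization.AtPrime (q0.comap (Ideal.Quotient.mk J)) →ₐ[R] E :=
      { toRingHom := χ
        commutes' := fun r => by
          change χ (algebraMap R _ r) = _
          rw [IsScalarTower.algebraMap_apply R P (Localization.AtPrime (q0.comap (Ideal.Quotient.mk J))),
            Localization.localRingHom_to_map, IsScalarTower.algebraMap_apply R (P ⧸ J) E]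
          rfl }
    have hχa : Function.Surjective χa := NeronLib.localRingHom_surjective _ Ideal.Quotient.mk_surjective q0
    refine Algebra.FormallySmooth.flat_of_algHom_of_isNoetherianRing (R := R) (A := E)
      (S := Localization.AtPrime (q0.comap (Ideal.Quotient.mk J))) ?_ ?_
    exacts [χa, hχa]
  rw [Ideal.map_le_iff_le_comap, Ideal.span_le]
  intro w hw
  have hPE : ∀ y, algebraMap P E y = algebraMap (P ⧸ J) E (Ideal.Quotient.mk J y) := fun y =>
    IsScalarTower.algebraMap_apply P (P ⧸ J) E y
  have h0 := hG w hw E (fun i => by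
      rw [hPE, Ideal.Quotient.eq_zero_iff_mem.2 (show F i ∈ J from Ideal.subset_span ⟨i, rfl⟩), map_zero])
    (fun y => by
      rw [hPE, IsLocalization.AtPrime.isUnit_to_map_iff E q0]
      rfl)
  rw [hPE, ← Localization.localRingHom_to_map (q0.comap (Ideal.Quotient.mk J)) q0 (Ideal.Quotient.mk J) rfl,
    ← RingHom.mem_ker, NeronLib.ker_localRingHom _ Ideal.Quotient.mk_surjective q0, Ideal.mk_ker] at h0
  exact h0

variable {R : Type u} [CommRing R] (π : R) {n m : ℕ} (f : Fin m → MvPolynomial (Fin n) R)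

/-- The relation `f - π z`. -/
def liftRel (l : Fin m) : MvPolynomial (Fin (n + m)) R :=
  rename (Fin.castAdd m) (f l) - C π * X (Fin.natAdd n l)

/-- The relation attached to a syzygy. -/
def syzRel (r : Fin m → MvPolynomial (Fin n) R) (r₀ : MvPolynomial (Fin n) R) : MvPolynomial (Fin (n + m)) R :=
  ∑ l, rename (Fin.castAdd m) (r l) * X (Fin.natAdd n l) - C π * rename (Fin.castAdd m) r₀

/-- The relations of the lifted algebra. -/
def liftRels : Set (MvPolynomial (Fin (n + m)) R) :=
  Set.range (liftRel π f) ∪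
    {w | ∃ r r₀, ∑ l, r l * f l = C (π ^ 2) * r₀ ∧ w = syzRel π r r₀}

theorem pi_mul_syzRel {r : Fin m → MvPolynomial (Fin n) R} {r₀ : MvPolynomial (Fin n) R}
    (h : ∑ l, r l * f l = C (π ^ 2) * r₀) :
    C π * syzRel π r r₀ = -∑ l, rename (Fin.castAdd m) (r l) * liftRel π f l := by
  have h' := congrArg (rename (Fin.castAdd m) : MvPolynomial (Fin n) R → MvPolynomial (Fin (n + m)) R) h
  simp only [map_sum, map_mul, rename_C, map_pow] at h'
  simp only [syzRel, liftRel, mul_sub, Finset.sum_sub_distrib, Finset.mul_sum, h', neg_sub]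
  rw [show C π * (C π * rename (Fin.castAdd m) r₀) = C π ^ 2 * (rename (Fin.castAdd m) r₀ : MvPolynomial (Fin (n + m)) R)
    by ring]
  congr 1
  exact Finset.sum_congr rfl fun l _ => by ring

theorem isSmoothAt_lift_of_not_mem [IsNoetherianRing R] (Q : Ideal (MvPolynomial (Fin (n + m)) R ⧸ Ideal.span (liftRels π f)))
    [Q.IsPrime] (hQ : algebraMap R _ π ∉ Q) : Algebra.IsSmoothAt R Q := by
  classical
  refine isSmoothAt_of_relations (liftRels π f) Q (liftRel π f) (fun i => Ideal.subset_span (Or.inl ⟨i, rfl⟩))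
    (fun i => pderiv (Fin.natAdd n i)) ?_ ?_
  · have hM : (Matrix.of fun i j => pderiv (Fin.natAdd n j) (liftRel π f i)) =
        Matrix.diagonal fun _ : Fin m => (-(C π) : MvPolynomial (Fin (n + m)) R) := by
      refine Matrix.ext fun i j => ?_
      simp only [Matrix.of_apply, liftRel, map_sub, pderiv_C_mul]
      rw [NeronLib.pderiv_rename_of_notMem_range _ (fun l h => by
        have := congrArg Fin.val h; simp at this; omega)]
      by_cases h : i = j
      · subst h; simp
      · rw [Matrix.diagonal_apply_ne _ h, pderiv_X_of_ne (fun e => h (Fin.natAdd_injective _ _ e))]; simp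
    rw [hM, Matrix.det_diagonal, map_prod]
    have hmem : ∏ _i : Fin m, Ideal.Quotient.mk (Ideal.span (liftRels π f)) (-(C π)) ∈ Q.primeCompl :=
      prod_mem fun _ _ => by
        change Ideal.Quotient.mk _ (-(C π)) ∉ Q
        rw [map_neg, neg_mem_iff]
        exact hQ
    exact hmem
  · intro w hw E _ _ _ _ _ _ hF hunit
    rcases hw with ⟨l, rfl⟩ | ⟨r, r₀, hr, rfl⟩
    · exact hF l
    · have h1 := congrArg (algebraMap (MvPolynomial (Fin (n + m)) R) E) (pi_mul_syzRel π f hr)
      rw [map_mul, map_neg, map_sum] at h1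
      simp only [map_mul, hF, mul_zero, Finset.sum_const_zero, neg_zero] at h1
      exact ((hunit (C π)).2 hQ).mul_right_eq_zero.1 h1

/-- Derivations of a congruence give congruences of coefficients. -/
theorem det_mul_mem {c : ℕ} (rows : Fin c → Fin m) (cols : Fin c → Fin n) (a : Fin c → MvPolynomial (Fin n) R)
    (b : MvPolynomial (Fin n) R) (h : ∑ i, a i * f (rows i) = C (π ^ 2) * b) (i : Fin c) :
    Matrix.det (Matrix.of fun i j => pderiv (cols j) (f (rows i))) * a i ∈
      Ideal.span (Set.range (f ∘ rows)) ⊔ Ideal.span {C π} := by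
  classical
  let M : Matrix (Fin c) (Fin c) (MvPolynomial (Fin n) R) := Matrix.of fun i j => pderiv (cols j) (f (rows i))
  let T : Ideal (MvPolynomial (Fin n) R) := Ideal.span (Set.range (f ∘ rows)) ⊔ Ideal.span {C π}
  have hv : ∀ k, Matrix.vecMul a M k ∈ T := by
    intro k
    have h1 := congrArg (pderiv (cols k)) h
    rw [map_sum, pderiv_C_mul] at h1
    simp only [pderiv_mul, Finset.sum_add_distrib] at h1
    rw [show Matrix.vecMul a M k = ∑ i, a i * pderiv (cols k) (f (rows i)) from rfl, eq_sub_of_add_eq' h1]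
    refine sub_mem (Submodule.mem_sup_right ?_) (T.sum_mem fun i _ => T.mul_mem_left _
      (Submodule.mem_sup_left (Ideal.subset_span ⟨i, rfl⟩)))
    rw [map_pow, pow_two, mul_assoc]
    exact Ideal.mul_mem_right _ _ (Ideal.mem_span_singleton_self _)
  have h2 : Matrix.vecMul (Matrix.vecMul a M) M.adjugate i = M.det * a i := by
    rw [Matrix.vecMul_vecMul, Matrix.mul_adjugate, Matrix.vecMul_smul, Matrix.vecMul_one]
    rfl
  rw [← h2]
  change ∑ k, Matrix.vecMul a M k * M.adjugate k i ∈ T
  exact T.sum_mem fun k _ => T.mul_mem_right _ (hv k)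

/-- Smoothness of the lifted algebra over smooth points of the reduction. -/
theorem isSmoothAt_lift_of_mem [IsNoetherianRing R] (hR : ∀ r : R, π ^ 2 * r = 0 → π * r = 0)
    (Q : Ideal (MvPolynomial (Fin (n + m)) R ⧸ Ideal.span (liftRels π f)))
    [Q.IsPrime] (hπQ : algebraMap R _ π ∈ Q) {c : ℕ} (rows : Fin c ↪ Fin m) (cols : Fin c ↪ Fin n)
    (s : MvPolynomial (Fin n) R)
    (hminor : Ideal.Quotient.mk (Ideal.span (liftRels π f))
      (rename (Fin.castAdd m) (Matrix.det (Matrix.of fun i j => pderiv (cols j) (f (rows i))))) ∉ Q)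
    (hs : Ideal.Quotient.mk (Ideal.span (liftRels π f)) (rename (Fin.castAdd m) s) ∉ Q)
    (h : Fin m → Fin c → MvPolynomial (Fin n) R) (e : Fin m → MvPolynomial (Fin n) R)
    (hdec : ∀ l, s * f l = ∑ i, h l i * f (rows i) + C (π ^ 2) * e l) :
    Algebra.IsSmoothAt R Q := by
  classical
  let ι : MvPolynomial (Fin n) R →ₐ[R] (MvPolynomial (Fin (n + m)) R) := rename (Fin.castAdd m)
  let Z : Fin m → (MvPolynomial (Fin (n + m)) R) := fun l => X (Fin.natAdd n l)
  let isRow : Fin m → Prop := fun l => ∃ i, rows i = l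
  let v : Fin m → (MvPolynomial (Fin (n + m)) R) := fun l => ι s * Z l - ∑ i, ι (h l i) * Z (rows i) - C π * ι (e l)
  let rt : Fin m → Fin m → MvPolynomial (Fin n) R := fun l l' =>
    (if l' = l then s else 0) - ∑ i, if rows i = l' then h l i else 0
  have hrt : ∀ (l : Fin m) {T : Type u} [CommRing T] (ψ : MvPolynomial (Fin n) R →+* T) (z : Fin m → T),
      ∑ l', ψ (rt l l') * z l' = ψ s * z l - ∑ i, ψ (h l i) * z (rows i) := by
    intro l T _ ψ z
    simp only [rt, map_sub, map_sum, apply_ite ψ, map_zero, sub_mul, Finset.sum_sub_distrib, Finset.sum_mul,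
      ite_mul, zero_mul, Finset.sum_ite_eq', Finset.mem_univ, if_true]
    rw [Finset.sum_comm]
    simp [Finset.sum_ite_eq]
  have hv : ∀ l, v l ∈ Ideal.span (liftRels π f) := fun l => by
    refine Ideal.subset_span (Or.inr ⟨rt l, e l, ?_, ?_⟩)
    · have h1 := hrt l (RingHom.id _) f
      simp only [RingHom.id_apply] at h1
      rw [h1, hdec]; ring
    · rw [syzRel]
      change _ = ∑ l', ι.toRingHom (rt l l') * Z l' - _
      rw [hrt l ι.toRingHom Z]
      rfl
  let F : Fin m → (MvPolynomial (Fin (n + m)) R) := fun l => if isRow l then liftRel π f l else v l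
  let col : Fin m → Fin (n + m) := fun l => if hl : isRow l then Fin.castAdd m (cols hl.choose) else Fin.natAdd n l
  have hFK : ∀ l, F l ∈ Ideal.span (liftRels π f) := fun l => by
    by_cases hl : isRow l
    · simp only [F, if_pos hl]; exact Ideal.subset_span (Or.inl ⟨l, rfl⟩)
    · simp only [F, if_neg hl]; exact hv l
  have hcolrow : ∀ i, col (rows i) = Fin.castAdd m (cols i) := fun i => by
    have hi : isRow (rows i) := ⟨i, rfl⟩
    simp only [col, dif_pos hi]
    rw [rows.injective hi.choose_spec]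
  have hxz : ∀ (l : Fin n) (l' : Fin m), Fin.castAdd m l ≠ Fin.natAdd n l' := fun l l' h => by
    have := congrArg Fin.val h; simp at this; omega
  let mk := Ideal.Quotient.mk (Ideal.span (liftRels π f))
  refine isSmoothAt_of_relations (liftRels π f) Q F hFK (fun l => pderiv (col l)) ?_ ?_
  · -- the matrix is block triangular at `Q`
    intro hdet
    let κ := Q.ResidueField
    let ev : (MvPolynomial (Fin (n + m)) R) →+* κ := (algebraMap _ κ).comp mk
    have hev : ∀ y, ev y = 0 ↔ mk y ∈ Q := fun y => Ideal.algebraMap_residueField_eq_zero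
    have hπ0 : ev (C π) = 0 := (hev _).2 hπQ
    have h0 : (ev.mapMatrix (Matrix.of fun i j => pderiv (col j) (F i))).det = 0 := by
      rw [← RingHom.map_det]; exact (hev _).2 hdet
    obtain ⟨x, hx, hxM⟩ := Matrix.exists_vecMul_eq_zero_iff.2 h0
    have hnr : ∀ l, ¬ isRow l → x l = 0 := by
      intro l hl
      have h1 := congrFun hxM l
      have hentry : ∀ i, ev (pderiv (col l) (F i)) = if i = l then ev (ι s) else 0 := by
        intro i
        simp only [col, dif_neg hl]
        have hι : ∀ p, pderiv (Fin.natAdd n l) (ι p) = 0 := fun p =>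
          NeronLib.pderiv_rename_of_notMem_range _ (fun j => hxz j l) p
        by_cases hi : isRow i
        · simp only [F, if_pos hi, liftRel]
          rw [map_sub, show pderiv (Fin.natAdd n l) (rename (Fin.castAdd m) (f i)) = 0 from hι (f i),
            pderiv_C_mul, zero_sub, map_neg, map_mul, hπ0, zero_mul, neg_zero, if_neg]
          rintro rfl; exact hl hi
        · simp only [F, if_neg hi, v, Z, map_sub, map_sum, pderiv_mul, hι, zero_mul, zero_add, map_mul,
            pderiv_C, mul_zero, add_zero]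
          have hz : ∀ j, pderiv (Fin.natAdd n l) (X (Fin.natAdd n (rows j)) : (MvPolynomial (Fin (n + m)) R)) = 0 := fun j =>
            pderiv_X_of_ne fun e => hl ⟨j, Fin.natAdd_injective _ _ e⟩
          try simp only [hz, map_zero, mul_zero, Finset.sum_const_zero, sub_zero]
          by_cases h : i = l
          · subst h; simp
          · rw [if_neg h, pderiv_X_of_ne (fun e => h (Fin.natAdd_injective _ _ e)), map_zero, mul_zero]
      simp only [Matrix.vecMul, dotProduct, RingHom.mapMatrix_apply, Matrix.map_apply, Matrix.of_apply, hentry,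
        mul_ite, mul_zero, Finset.sum_ite_eq', Finset.mem_univ, if_true, Pi.zero_apply] at h1
      exact (mul_eq_zero.1 h1).resolve_right fun h2 => hs ((hev _).1 h2)
    refine hx (funext fun l => ?_)
    by_cases hl : isRow l
    swap
    · exact hnr l hl
    obtain ⟨i₀, rfl⟩ := hl
    let M : Matrix (Fin c) (Fin c) κ := Matrix.of fun i j => ev (ι (pderiv (cols j) (f (rows i))))
    have hM : M.det ≠ 0 := by
      intro hM0
      refine hminor ((hev _).1 ?_)
      change ev (ι.toRingHom (Matrix.det _)) = 0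
      rw [RingHom.map_det, RingHom.map_det]
      exact hM0
    have hxrows : Matrix.vecMul (fun i => x (rows i)) M = 0 := funext fun j => by
      have h1 := congrFun hxM (col (rows j) |> fun _ => rows j)
      simp only [Matrix.vecMul, dotProduct, RingHom.mapMatrix_apply, Matrix.map_apply, Matrix.of_apply,
        Pi.zero_apply] at h1 ⊢
      rw [← Finset.sum_subset (Finset.subset_univ (Finset.univ.image rows)) (fun l _ hl => by
        rw [hnr l (fun ⟨i, hi⟩ => hl (Finset.mem_image.2 ⟨i, Finset.mem_univ _, hi⟩)), zero_mul]),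
        Finset.sum_image (fun a _ b _ e => rows.injective e)] at h1
      rw [← h1]
      refine Finset.sum_congr rfl fun i _ => ?_
      congr 1
      have hi : isRow (rows i) := ⟨i, rfl⟩
      rw [hcolrow]
      simp only [F, if_pos hi, liftRel, M, Matrix.of_apply, map_sub, pderiv_C_mul,
        pderiv_X_of_ne (hxz (cols j) (rows i)).symm, map_zero, mul_zero, sub_zero]
      rw [NeronLib.pderiv_rename_apply (Fin.castAdd_injective _ _)]
    exact congrFun (Matrix.eq_zero_of_vecMul_eq_zero hM hxrows) i₀
  · intro w hw E _ _ _ _ _ _ hF hunit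
    let φ : (MvPolynomial (Fin (n + m)) R) →+* E := algebraMap (MvPolynomial (Fin (n + m)) R) E
    let ψ : MvPolynomial (Fin n) R →+* E := φ.comp ι.toRingHom
    let p : E := algebraMap R E π
    let z : Fin m → E := fun l => φ (Z l)
    have hp : φ (C π) = p := (IsScalarTower.algebraMap_apply R (MvPolynomial (Fin (n + m)) R) E π).symm
    have hp2 : ψ (C (π ^ 2)) = p ^ 2 := by
      change φ (ι (C (π ^ 2))) = _
      rw [show ι (C (π ^ 2)) = C (π ^ 2) from rename_C _ _, map_pow, map_pow, hp]
    have hS : IsUnit (ψ s) := (hunit _).2 hs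
    have hDet : IsUnit (ψ (Matrix.det (Matrix.of fun i j => pderiv (cols j) (f (rows i))))) := (hunit _).2 hminor
    have hrow : ∀ i, ψ (f (rows i)) = p * z (rows i) := fun i => by
      have h1 := hF (rows i)
      have hi : isRow (rows i) := ⟨i, rfl⟩
      simp only [F, if_pos hi, liftRel, map_sub, map_mul, sub_eq_zero] at h1
      rw [← hp]
      exact h1
    have hother : ∀ l, ¬ isRow l → ψ s * z l = ∑ i, ψ (h l i) * z (rows i) + p * ψ (e l) := fun l hl => by
      have h1 := hF l
      simp only [F, if_neg hl, v, map_sub, map_sum, map_mul, hp] at h1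
      rw [sub_sub, sub_eq_zero] at h1
      rw [← hp]
      exact h1
    have hdec' : ∀ l, ψ s * ψ (f l) = ∑ i, ψ (h l i) * ψ (f (rows i)) + p ^ 2 * ψ (e l) := fun l => by
      rw [← map_mul, hdec, map_add, map_sum, map_mul, hp2]
      simp only [map_mul]
    have hall : ∀ l, ψ (f l) = p * z l := by
      intro l
      by_cases hl : isRow l
      · obtain ⟨i, rfl⟩ := hl; exact hrow i
      · refine hS.mul_left_cancel ?_
        rw [hdec', mul_left_comm, hother l hl, mul_add, Finset.mul_sum]
        congr 1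
        · exact Finset.sum_congr rfl fun i _ => by rw [hrow]; ring
        · ring
    rcases hw with ⟨l, rfl⟩ | ⟨r, r₀, hr, rfl⟩
    · rw [liftRel, map_sub, map_mul, sub_eq_zero]
      change ψ (f l) = φ (C π) * z l
      rw [hp, hall]
    · have hw' : φ (syzRel π r r₀) = ∑ l, ψ (r l) * z l - p * ψ r₀ := by
        simp only [syzRel, map_sub, map_sum, map_mul, hp]
        rfl
      change φ (syzRel π r r₀) = 0
      rw [hw']
      let W : E := ∑ l, ψ (r l) * z l - p * ψ r₀
      change W = 0
      have hpW : p * W = 0 := by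
        have h1 := congrArg ψ hr
        rw [map_sum, map_mul, hp2] at h1
        simp only [map_mul, hall] at h1
        simp only [W, mul_sub, Finset.mul_sum, sub_eq_zero]
        rw [← mul_assoc, ← pow_two, ← h1]
        exact Finset.sum_congr rfl fun l _ => by ring
      let nr : Fin m → Prop := fun l => ¬ isRow l
      let av : Fin c → MvPolynomial (Fin n) R := fun i =>
        s * r (rows i) + ∑ l ∈ Finset.univ.filter nr, r l * h l i
      let bv : MvPolynomial (Fin n) R := s * r₀ - ∑ l ∈ Finset.univ.filter nr, r l * e l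
      have hsplit : ∀ {T : Type u} [AddCommMonoid T] (g : Fin m → T),
          ∑ l, g l = ∑ i, g (rows i) + ∑ l ∈ Finset.univ.filter nr, g l := by
        intro T _ g
        rw [← Finset.sum_filter_add_sum_filter_not Finset.univ isRow g]
        congr 1
        rw [show Finset.univ.filter isRow = Finset.univ.image rows by ext l; simp [isRow],
          Finset.sum_image (fun a _ b _ e => rows.injective e)]
      have hab : ∑ i, av i * f (rows i) = C (π ^ 2) * bv := by
        have h1 : s * ∑ l, r l * f l = ∑ i, av i * f (rows i) +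
            C (π ^ 2) * ∑ l ∈ Finset.univ.filter nr, r l * e l := by
          rw [hsplit (fun l => r l * f l), mul_add, Finset.mul_sum, Finset.mul_sum]
          simp only [av, add_mul, Finset.sum_add_distrib, Finset.sum_mul, Finset.mul_sum, mul_assoc]
          rw [Finset.sum_comm, add_assoc, ← Finset.sum_add_distrib]
          congr 1
          refine Finset.sum_congr rfl fun l _ => ?_
          rw [mul_left_comm, hdec, mul_add, Finset.mul_sum]
          congr 1
          ring
        rw [hr] at h1
        simp only [bv, mul_sub]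
        rw [mul_left_comm, h1, add_sub_cancel_right]
      have hav : ∀ i, ψ (av i) ∈ Ideal.span {p} := by
        intro i
        refine (Ideal.unit_mul_mem_iff_mem _ hDet).1 ?_
        rw [← map_mul]
        have h2 := Ideal.mem_map_of_mem ψ (det_mul_mem π f rows cols av bv hab i)
        refine (Ideal.map_le_iff_le_comap.2 ?_) h2
        refine sup_le (Ideal.span_le.2 ?_) (Ideal.span_le.2 ?_)
        · rintro _ ⟨j, rfl⟩
          exact Ideal.mem_span_singleton'.2 ⟨z (rows j), by rw [Function.comp_apply, hrow, mul_comm]⟩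
        · rintro _ rfl
          exact Ideal.mem_span_singleton'.2 ⟨1, by
            rw [one_mul]
            change p = φ (ι (C π))
            rw [show ι (C π) = C π from rename_C _ _, hp]⟩
      have hsW : ψ s * W ∈ Ideal.span {p} := by
        have h1 : ψ s * W = ∑ i, ψ (av i) * z (rows i) + p * (∑ l ∈ Finset.univ.filter nr, ψ (r l) * ψ (e l) - ψ s * ψ r₀) := by
          have h2 : ∀ l ∈ Finset.univ.filter nr, ψ s * (ψ (r l) * z l) =
              (∑ i, ψ (r l) * ψ (h l i) * z (rows i)) + p * (ψ (r l) * ψ (e l)) := fun l hl => by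
            rw [mul_left_comm, hother l (Finset.mem_filter.1 hl).2, mul_add, Finset.mul_sum]
            congr 1
            · exact Finset.sum_congr rfl fun i _ => by ring
            · ring
          simp only [W, mul_sub, Finset.mul_sum]
          rw [hsplit (fun l => ψ s * (ψ (r l) * z l)), Finset.sum_congr rfl h2, Finset.sum_add_distrib,
            Finset.sum_comm]
          simp only [av, map_add, map_mul, map_sum, add_mul, Finset.sum_add_distrib, Finset.sum_mul]
          simp only [mul_assoc]
          ring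
        rw [h1]
        exact add_mem (Ideal.sum_mem _ fun i _ => Ideal.mul_mem_right _ _ (hav i))
          (Ideal.mul_mem_right _ _ (Ideal.mem_span_singleton_self _))
      obtain ⟨y, hy⟩ := Ideal.mem_span_singleton'.1 ((Ideal.unit_mul_mem_iff_mem _ hS).1 hsW)
      have hy2 : algebraMap R E (π ^ 2) * y = 0 := by
        rw [map_pow, pow_two, mul_assoc, mul_comm (algebraMap R E π) y, hy]
        exact hpW
      rw [← hy, mul_comm]
      exact mul_eq_zero_of_flat π hR hy2

/-- The lifting lemma. -/
theorem lifting {Λ C' : Type u} [IsNoetherianRing R] [CommRing Λ] [Algebra R Λ]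
    (hR : ∀ r : R, π ^ 2 * r = 0 → π * r = 0)
    (hΛ : ∀ x : Λ, π ^ 2 • x = 0 → π • x = 0) [CommRing C'] [Algebra R C']
    [Algebra (R ⧸ Ideal.span {π ^ 2}) C'] [IsScalarTower R (R ⧸ Ideal.span {π ^ 2}) C']
    [Algebra.FinitePresentation (R ⧸ Ideal.span {π ^ 2}) C']
    (g : C' →ₐ[R] Λ ⧸ Ideal.span {algebraMap R Λ (π ^ 2)}) :
    ∃ (D : Type u) (_ : CommRing D) (_ : Algebra R D), Algebra.FinitePresentation R D ∧
      ∃ (δ : D →ₐ[R] Λ) (ψ : C' →ₐ[R] D ⧸ Ideal.span {algebraMap R D π}),
        (∀ (c : C') (d : D) (l : Λ), Ideal.Quotient.mk (Ideal.span {algebraMap R D π}) d = ψ c →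
          Ideal.Quotient.mk (Ideal.span {algebraMap R Λ (π ^ 2)}) l = g c →
            δ d - l ∈ Ideal.span {algebraMap R Λ π}) ∧
        (∀ (Q : Ideal D) [Q.IsPrime], algebraMap R D π ∉ Q → Algebra.IsSmoothAt R Q) ∧
        (∀ (Q : Ideal (D ⧸ Ideal.span {algebraMap R D π})) [Q.IsPrime],
          Algebra.IsSmoothAt (R ⧸ Ideal.span {π ^ 2}) (Q.comap ψ) →
            Algebra.IsSmoothAt R (Q.comap (Ideal.Quotient.mk (Ideal.span {algebraMap R D π})))) := by
  classical
  let R' := R ⧸ Ideal.span {π ^ 2}
  obtain ⟨n, τ, hτ, hfg⟩ := Algebra.FinitePresentation.out (R := R') (A := C')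
  obtain ⟨m, fbar, hfbar⟩ := Submodule.fg_iff_exists_fin_generating_family.1 hfg
  let red : MvPolynomial (Fin n) R →+* MvPolynomial (Fin n) R' := MvPolynomial.map (Ideal.Quotient.mk _)
  choose f hf using fun l => MvPolynomial.map_surjective _ Ideal.Quotient.mk_surjective (fbar l)
  have hredker : ∀ p, red p = 0 → ∃ b, p = C (π ^ 2) * b := fun p hp => by
    have hp' : p ∈ RingHom.ker red := hp
    rw [show red = MvPolynomial.map (Ideal.Quotient.mk _) from rfl, MvPolynomial.ker_map, Ideal.mk_ker,
      Ideal.map_span, Set.image_singleton, Ideal.mem_span_singleton] at hp'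
    exact hp'
  let τ' : MvPolynomial (Fin n) R →ₐ[R] C' := aeval fun i => τ (X i)
  have hτ' : ∀ p, τ' p = τ (red p) := by
    intro p
    induction p using MvPolynomial.induction_on with
    | C a =>
      simp only [τ', aeval_C, red, map_C]
      rw [← MvPolynomial.algebraMap_eq, τ.commutes]
      exact IsScalarTower.algebraMap_apply R R' C' a
    | add p q hp hq => simp only [map_add, hp, hq]
    | mul_X p i hp => simp [τ', red] at hp ⊢; rw [hp]
  have hτ's : Function.Surjective τ' := fun y => by
    obtain ⟨p, rfl⟩ := hτ y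
    obtain ⟨p, rfl⟩ := MvPolynomial.map_surjective _ Ideal.Quotient.mk_surjective p
    exact ⟨p, hτ' p⟩
  have hkerbar : ∀ q, τ q = 0 → q ∈ Ideal.span (Set.range fbar) := fun q hq => by
    rw [show Ideal.span (Set.range fbar) = RingHom.ker τ.toRingHom from hfbar]; exact hq
  have hspanbar : ∀ rows' : Set (Fin m), ∀ p, red p ∈ Ideal.span (fbar '' rows') →
      ∃ b, p - C (π ^ 2) * b ∈ Ideal.span (f '' rows') := by
    intro rows' p hp
    have h1 : fbar '' rows' = red '' (f '' rows') := by
      rw [← Set.image_comp]; exact Set.image_congr fun l _ => (hf l).symm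
    rw [h1, ← Ideal.map_span, Ideal.mem_map_iff_of_surjective red
      (MvPolynomial.map_surjective _ Ideal.Quotient.mk_surjective)] at hp
    obtain ⟨q, hq, hqp⟩ := hp
    obtain ⟨b, hb⟩ := hredker (p - q) (by rw [map_sub, hqp, sub_self])
    exact ⟨b, by rwa [← hb, sub_sub_cancel]⟩
  choose lam hlam using fun i : Fin n => Ideal.Quotient.mk_surjective (g (τ' (X i)))
  have hev : ∀ p, Ideal.Quotient.mk (Ideal.span {algebraMap R Λ (π ^ 2)}) (aeval lam p) = g (τ' p) := by
    have : (Ideal.Quotient.mkₐ R (Ideal.span {algebraMap R Λ (π ^ 2)})).comp (aeval lam) = g.comp τ' :=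
      MvPolynomial.algHom_ext fun i => by simp [hlam]
    exact fun p => AlgHom.congr_fun this p
  have hfτ : ∀ l, τ' (f l) = 0 := fun l => by
    rw [hτ', hf]
    exact (show fbar l ∈ RingHom.ker τ.toRingHom by rw [← hfbar]; exact Submodule.subset_span ⟨l, rfl⟩)
  have hμ : ∀ l, ∃ μ, μ * algebraMap R Λ (π ^ 2) = aeval lam (f l) := fun l => Ideal.mem_span_singleton'.1
    (Ideal.Quotient.eq_zero_iff_mem.1 (by rw [hev, hfτ, map_zero]))
  choose μ hμ using hμ
  let K : Ideal (MvPolynomial (Fin (n + m)) R) := Ideal.span (liftRels π f)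
  haveI : Algebra.FinitePresentation R ((MvPolynomial (Fin (n + m)) R) ⧸ K) := Algebra.FinitePresentation.quotient (IsNoetherian.noetherian K)
  let δ0 : (MvPolynomial (Fin (n + m)) R) →ₐ[R] Λ := aeval (Fin.append lam fun l => algebraMap R Λ π * μ l)
  have hδι : ∀ p, δ0 (rename (Fin.castAdd m) p) = aeval lam p := by
    have : δ0.comp (rename (Fin.castAdd m)) = aeval lam := MvPolynomial.algHom_ext fun i => by simp [δ0]
    exact fun p => AlgHom.congr_fun this p
  have hδZ : ∀ l, δ0 (X (Fin.natAdd n l)) = algebraMap R Λ π * μ l := fun l => by simp [δ0]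
  have hδK : ∀ w ∈ K, δ0 w = 0 := fun w hw => by
    refine (show K ≤ RingHom.ker δ0 from Ideal.span_le.2 ?_) hw
    rintro _ (⟨l, rfl⟩ | ⟨r, r₀, hr, rfl⟩)
    · rw [SetLike.mem_coe, RingHom.mem_ker, liftRel, map_sub, map_mul, hδι, hδZ, ← MvPolynomial.algebraMap_eq,
        AlgHom.commutes, ← hμ, map_pow]
      ring
    · rw [SetLike.mem_coe, RingHom.mem_ker, syzRel, map_sub, map_sum, map_mul, hδι, ← MvPolynomial.algebraMap_eq,
        AlgHom.commutes]
      simp only [map_mul, hδι, hδZ]
      have h1 := congrArg (aeval lam) hr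
      simp only [map_sum, map_mul, ← hμ, aeval_C] at h1
      have h2 : π ^ 2 • (∑ l, aeval lam (r l) * μ l - aeval lam r₀) = 0 := by
        rw [Algebra.smul_def, mul_sub, Finset.mul_sum, sub_eq_zero, ← h1]
        exact Finset.sum_congr rfl fun l _ => by ring
      have h3 := hΛ _ h2
      rw [Algebra.smul_def, mul_sub, Finset.mul_sum] at h3
      rw [← h3]
      congr 1
      exact Finset.sum_congr rfl fun l _ => by ring
  let δ : ((MvPolynomial (Fin (n + m)) R) ⧸ K) →ₐ[R] Λ := Ideal.Quotient.liftₐ K δ0 hδK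
  let mkD : (MvPolynomial (Fin (n + m)) R) →ₐ[R] (((MvPolynomial (Fin (n + m)) R) ⧸ K) ⧸ Ideal.span {algebraMap R ((MvPolynomial (Fin (n + m)) R) ⧸ K) π}) := (Ideal.Quotient.mkₐ R _).comp (Ideal.Quotient.mkₐ R K)
  have hmkπ : mkD (C π) = 0 := by
    rw [← MvPolynomial.algebraMap_eq]
    exact Ideal.Quotient.eq_zero_iff_mem.2 (Ideal.subset_span rfl)
  have hmkK : ∀ w ∈ K, mkD w = 0 := fun w hw => by
    change Ideal.Quotient.mk _ (Ideal.Quotient.mk K w) = 0
    rw [Ideal.Quotient.eq_zero_iff_mem.2 hw, map_zero]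
  let σ0 : MvPolynomial (Fin n) R →ₐ[R] (((MvPolynomial (Fin (n + m)) R) ⧸ K) ⧸ Ideal.span {algebraMap R ((MvPolynomial (Fin (n + m)) R) ⧸ K) π}) := mkD.comp (rename (Fin.castAdd m))
  have hCπ : Ideal.Quotient.mk K (C π) ∈ Ideal.span {algebraMap R ((MvPolynomial (Fin (n + m)) R) ⧸ K) π} :=
    Ideal.subset_span rfl
  have hσ2 : σ0 (C (π ^ 2)) = 0 := by
    refine Ideal.Quotient.eq_zero_iff_mem.2 ?_
    change Ideal.Quotient.mk K (rename (Fin.castAdd m) (C (π ^ 2))) ∈ _
    rw [rename_C, map_pow C, map_pow (Ideal.Quotient.mk K)]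
    exact Ideal.pow_mem_of_mem _ hCπ 2 two_pos
  have hσf : ∀ l, σ0 (f l) = 0 := fun l => by
    refine Ideal.Quotient.eq_zero_iff_mem.2 ?_
    change Ideal.Quotient.mk K (rename (Fin.castAdd m) (f l)) ∈ _
    rw [show rename (Fin.castAdd m) (f l) = liftRel π f l + C π * X (Fin.natAdd n l) by rw [liftRel]; ring,
      map_add, map_mul, Ideal.Quotient.eq_zero_iff_mem.2 (show liftRel π f l ∈ K from Ideal.subset_span (Or.inl ⟨l, rfl⟩)),
      zero_add]
    exact Ideal.mul_mem_right _ _ hCπ
  have hσker : ∀ p, τ' p = 0 → σ0 p = 0 := fun p hp => by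
    obtain ⟨b, hb⟩ := hspanbar Set.univ p (by rw [Set.image_univ]; exact hkerbar _ (by rw [← hτ', hp]))
    have hle : Ideal.span (f '' Set.univ) ≤ RingHom.ker σ0 := Ideal.span_le.2 (by
      rintro _ ⟨l, -, rfl⟩; exact hσf l)
    have h1 : p ∈ RingHom.ker σ0 := by
      rw [show p = (p - C (π ^ 2) * b) + C (π ^ 2) * b by ring]
      exact add_mem (hle hb) (Ideal.mul_mem_right _ _ hσ2)
    exact h1
  let eC := Ideal.quotientKerAlgEquivOfSurjective (f := τ') hτ's
  let ψ : C' →ₐ[R] (((MvPolynomial (Fin (n + m)) R) ⧸ K) ⧸ Ideal.span {algebraMap R ((MvPolynomial (Fin (n + m)) R) ⧸ K) π}) := (Ideal.Quotient.liftₐ (RingHom.ker τ') σ0 hσker).comp eC.symm.toAlgHom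
  have hψ : ∀ p, ψ (τ' p) = σ0 p := fun p => by
    change Ideal.Quotient.liftₐ (RingHom.ker τ') σ0 hσker (eC.symm (τ' p)) = σ0 p
    rw [show eC.symm (τ' p) = Ideal.Quotient.mk _ p from eC.symm_apply_eq.2 rfl]
    rfl
  refine ⟨((MvPolynomial (Fin (n + m)) R) ⧸ K), inferInstance, inferInstance, inferInstance, δ, ψ, ?_, ?_, ?_⟩
  · intro c d l hd hl
    obtain ⟨p, rfl⟩ := hτ's c
    rw [hψ] at hd
    have h1 : d - Ideal.Quotient.mk K (rename (Fin.castAdd m) p) ∈ Ideal.span {algebraMap R ((MvPolynomial (Fin (n + m)) R) ⧸ K) π} := by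
      rw [← Ideal.Quotient.eq]; exact hd
    obtain ⟨d', hd'⟩ := Ideal.mem_span_singleton'.1 h1
    have h2 : aeval lam p - l ∈ Ideal.span {algebraMap R Λ (π ^ 2)} := by
      rw [← Ideal.Quotient.eq, hev]; exact hl.symm
    obtain ⟨l', hl'⟩ := Ideal.mem_span_singleton'.1 h2
    refine Ideal.mem_span_singleton'.2 ⟨δ d' + l' * algebraMap R Λ π, ?_⟩
    have h3 : δ d = δ d' * algebraMap R Λ π + aeval lam p := by
      rw [sub_eq_iff_eq_add.1 hd'.symm, map_add, map_mul, AlgHom.commutes]
      congr 1
      exact hδι p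
    rw [map_pow] at hl'
    rw [h3, add_sub_assoc, ← hl']
    ring
  · intro Q _ hQ
    exact isSmoothAt_lift_of_not_mem π f Q hQ
  · intro Q _ hsm
    haveI : (Q.comap ψ).IsPrime := Ideal.comap_isPrime _ _
    haveI := hsm
    obtain ⟨c, rows, cols, s, hminor, hs, hdec⟩ := exists_rows_cols fbar τ hτ hfbar.symm (Q.comap ψ)
    obtain ⟨s, rfl⟩ := MvPolynomial.map_surjective _ Ideal.Quotient.mk_surjective s
    have hdec' : ∀ l, ∃ (h : Fin c → MvPolynomial (Fin n) R) (e : MvPolynomial (Fin n) R),
        s * f l = ∑ i, h i * f (rows i) + C (π ^ 2) * e := by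
      intro l
      obtain ⟨b, hb⟩ := hspanbar (Set.range rows) (s * f l) (by
        rw [map_mul, show red (f l) = fbar l from hf l, ← Set.range_comp]; exact hdec l)
      rw [← Set.range_comp] at hb
      obtain ⟨h, hh⟩ := Ideal.mem_span_range_iff_exists_fun.1 hb
      exact ⟨h, b, by simp only [Function.comp_apply] at hh; rw [hh]; ring⟩
    choose h e hdec' using hdec'
    have key : ∀ p, τ (red p) ∉ Q.comap ψ →
        Ideal.Quotient.mk K (rename (Fin.castAdd m) p) ∉ Q.comap (Ideal.Quotient.mk (Ideal.span {algebraMap R ((MvPolynomial (Fin (n + m)) R) ⧸ K) π})) := by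
      intro p hp hq
      refine hp ?_
      change ψ (τ (red p)) ∈ Q
      rw [← hτ', hψ]
      exact hq
    refine isSmoothAt_lift_of_mem π f hR _ ?_ rows cols s ?_ (key s hs) h e hdec'
    · exact (congrArg (· ∈ Q) (Ideal.Quotient.eq_zero_iff_mem.2 (Ideal.subset_span rfl))).mpr Q.zero_mem
    · refine key _ ?_
      convert hminor using 2
      rw [RingHom.map_det, Smoothing.jacobianMinor]
      congr 2
      refine Matrix.ext fun i j => ?_
      simp [red, ← MvPolynomial.pderiv_map, hf]

end Groth.Agent.SmoothingLib
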