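import Mathlib
import Groth.Prelude.Def_Smoothing
import Groth.Agent.NeronLib.FreeKaehler

/-! Localizing at a strictly standard element gives a smooth algebra with stably free differentials. -/

set_option autoImplicit false
universe u

noncomputable section

namespace Groth.Agent.SmoothingLib

open MvPolynomial TensorProduct Smoothing

/-- A quotient with split independent relations generating modulo squares is formally smooth. -/
theorem formallySmooth_of_leftInverse {R P S : Type u} [CommRing R] [CommRing P] [Algebra R P]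
    [CommRing S] [Algebra R S] [Algebra P S] [IsScalarTower R P S] [Algebra.FormallySmooth R P]
    (hsurj : Function.Surjective (algebraMap P S)) {c : ℕ} (f : Fin c → P)
    (hf : ∀ i, f i ∈ RingHom.ker (algebraMap P S))
    (hgen : RingHom.ker (algebraMap P S) ≤ Ideal.span (Set.range f) ⊔ RingHom.ker (algebraMap P S) ^ 2)
    (L : Fin c → (KaehlerDifferential R P →ₗ[P] P))
    (hL : ∀ i k, L k (KaehlerDifferential.D R P (f i)) - (if i = k then 1 else 0) ∈ RingHom.ker (algebraMap P S)) :
    Algebra.FormallySmooth R S := by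
  classical
  set I := RingHom.ker (algebraMap P S) with hI
  let cl : Fin c → I.Cotangent := fun i => I.toCotangent ⟨f i, hf i⟩
  let Ψ : KaehlerDifferential R P →ₗ[P] I.Cotangent := ∑ k, (L k).smulRight (cl k)
  have hann : ∀ a ∈ I, ∀ z : I.Cotangent, a • z = 0 := by
    intro a ha z
    obtain ⟨z, rfl⟩ := I.toCotangent_surjective z
    rw [← map_smul, Ideal.toCotangent_eq_zero, pow_two]
    exact Ideal.mul_mem_mul ha z.2
  have hΨ : ∀ i, Ψ (KaehlerDifferential.D R P (f i)) = cl i := by
    intro i
    simp only [Ψ, LinearMap.sum_apply, LinearMap.smulRight_apply]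
    rw [Finset.sum_eq_single i]
    · have h1 := hann _ (hL i i) (cl i)
      rw [if_pos rfl, sub_smul, one_smul, sub_eq_zero] at h1
      exact h1
    · intro k _ hk
      have h1 := hann _ (hL i k) (cl k)
      rwa [if_neg (Ne.symm hk), sub_zero] at h1
    · simp
  let δ : I →ₗ[P] I.Cotangent :=
    { toFun := fun x => Ψ (KaehlerDifferential.D R P x)
      map_add' := fun x y => by simp
      map_smul' := fun r x => by
        simp only [SetLike.val_smul, smul_eq_mul, Derivation.leibniz, map_add, map_smul, RingHom.id_apply]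
        rw [hann _ x.2, add_zero] }
  have hδ : ∀ x : I, δ x = I.toCotangent x := by
    intro x
    obtain ⟨y, hy, z, hz, hyz⟩ := Submodule.mem_sup.1 (hgen x.2)
    obtain ⟨b, hb⟩ := Ideal.mem_span_range_iff_exists_fun.1 hy
    have hzI : z ∈ I := Ideal.pow_le_self two_ne_zero hz
    have hz' : δ ⟨z, hzI⟩ = 0 := by
      change Ψ (KaehlerDifferential.D R P z) = 0
      rw [pow_two] at hz
      refine Submodule.mul_induction_on hz (fun a ha a' ha' => ?_) (fun a a' ha ha' => by rw [map_add, map_add, ha, ha', add_zero])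
      rw [Derivation.leibniz, map_add, map_smul, map_smul, hann a ha, hann a' ha', add_zero]
    have hx : x = (∑ i, b i • (⟨f i, hf i⟩ : I)) + ⟨z, hzI⟩ := Subtype.ext (by
      rw [← hyz, ← hb]; simp)
    rw [hx, map_add, map_add, hz', (Ideal.toCotangent_eq_zero I ⟨z, hzI⟩).2 hz, map_sum, map_sum]
    congr 1
    refine Finset.sum_congr rfl fun i _ => ?_
    rw [map_smul, map_smul]
    exact congrArg _ (hΨ i)
  let θ : (P ⧸ I) ≃ₐ[P] S := Ideal.quotientKerAlgEquivOfSurjective (f := Algebra.ofId P S) hsurj
  have hker : I • (⊤ : Submodule P (KaehlerDifferential R P)) ≤ LinearMap.ker Ψ :=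
    Submodule.smul_le.2 fun a ha z _ => by rw [LinearMap.mem_ker, map_smul, hann a ha]
  let l : S ⊗[P] KaehlerDifferential R P →ₗ[P] I.Cotangent :=
    (Submodule.liftQ _ Ψ hker) ∘ₗ (quotTensorEquivQuotSMul (KaehlerDifferential R P) I).toLinearMap ∘ₗ
      (TensorProduct.congr θ.toLinearEquiv.symm (LinearEquiv.refl P (KaehlerDifferential R P))).toLinearMap
  refine (Algebra.FormallySmooth.iff_split_injection hsurj).2 ⟨l, ?_⟩
  refine LinearMap.ext fun z => ?_
  obtain ⟨⟨x, hx⟩, rfl⟩ := I.toCotangent_surjective z
  rw [LinearMap.comp_apply, KaehlerDifferential.kerCotangentToTensor_toCotangent, LinearMap.id_apply]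
  simp only [l, LinearMap.comp_apply, LinearEquiv.coe_coe, TensorProduct.congr_tmul, LinearEquiv.refl_apply]
  rw [show θ.toLinearEquiv.symm 1 = 1 from map_one θ.symm, quotTensorEquivQuotSMul_mk_one_tmul,
    Submodule.liftQ_apply]
  exact hδ ⟨x, hx⟩

section tensor
variable {R Λ A : Type u} [CommRing R] [CommRing A] [Algebra R A] [CommRing Λ] [Algebra R Λ] [Algebra A Λ]
  [IsScalarTower R A Λ] {n : ℕ} (π : MvPolynomial (Fin n) R →ₐ[R] A)

/-- The presentation of differentials extended to `Λ`. -/
theorem exists_tensorKaehler_presentation (hπ : Function.Surjective π) :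
    ∃ Φ : (Fin n → Λ) →ₗ[Λ] Λ ⊗[A] KaehlerDifferential R A,
      Function.Surjective Φ ∧ LinearMap.ker Φ = NeronLib.relJac (Λ := Λ) π := by
  classical
  obtain ⟨d, hd⟩ := NeronLib.exists_gradDerivation (Λ := Λ) π hπ
  let φ := (IsScalarTower.toAlgHom R A Λ).comp π
  let Ψ : Λ ⊗[A] KaehlerDifferential R A →ₗ[Λ] (Fin n → Λ) ⧸ NeronLib.relJac (Λ := Λ) π :=
    d.liftKaehlerDifferential.liftBaseChange Λ
  let dX : Fin n → Λ ⊗[A] KaehlerDifferential R A := fun l => 1 ⊗ₜ KaehlerDifferential.D R A (π (X l))
  let Φ : (Fin n → Λ) →ₗ[Λ] Λ ⊗[A] KaehlerDifferential R A := Fintype.linearCombination Λ dX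
  have hΦgrad : ∀ x, Φ (NeronLib.grad φ x) = (1 : Λ) ⊗ₜ KaehlerDifferential.D R A (π x) := by
    intro x
    induction x using MvPolynomial.induction_on with
    | C r =>
      rw [NeronLib.grad_C, map_zero, ← MvPolynomial.algebraMap_eq, AlgHom.commutes, Derivation.map_algebraMap, tmul_zero]
    | add p q hp hq => rw [NeronLib.grad_add, map_add, hp, hq, map_add, map_add, tmul_add]
    | mul_X p i hp =>
      rw [NeronLib.grad_mul, map_add, map_smul, map_smul, hp, NeronLib.grad_X,
        Fintype.linearCombination_apply_single, one_smul, map_mul, Derivation.leibniz, tmul_add]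
      simp only [φ, dX, AlgHom.comp_apply, IsScalarTower.coe_toAlgHom', algebraMap_smul, tmul_smul]
  have hΨΦ : Ψ ∘ₗ Φ = (NeronLib.relJac (Λ := Λ) π).mkQ := by
    refine LinearMap.pi_ext' fun l => LinearMap.ext_ring ?_
    simp only [LinearMap.comp_apply, LinearMap.single_apply]
    rw [Fintype.linearCombination_apply_single, one_smul]
    simp only [Ψ, dX, LinearMap.liftBaseChange_tmul, one_smul, Derivation.liftKaehlerDifferential_comp_D]
    rw [hd, NeronLib.grad_X]
  refine ⟨Φ, LinearMap.range_eq_top.1 ?_, le_antisymm (fun v hv => ?_) (Submodule.span_le.2 ?_)⟩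
  · rw [eq_top_iff]
    rintro z -
    induction z using TensorProduct.induction_on with
    | zero => exact zero_mem _
    | add a b ha hb => exact add_mem ha hb
    | tmul l w =>
      have hw : w ∈ Submodule.span A (Set.range (KaehlerDifferential.D R A)) := by
        rw [KaehlerDifferential.span_range_derivation]; trivial
      induction hw using Submodule.span_induction with
      | mem w hw =>
        obtain ⟨b, rfl⟩ := hw
        obtain ⟨x, rfl⟩ := hπ b
        refine ⟨l • NeronLib.grad φ x, ?_⟩
        rw [map_smul, hΦgrad, TensorProduct.smul_tmul', smul_eq_mul, mul_one]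
      | zero => rw [tmul_zero]; exact zero_mem _
      | add a b _ _ ha hb => rw [tmul_add]; exact add_mem ha hb
      | smul r a _ ha =>
        rw [tmul_smul, ← algebraMap_smul Λ r]
        exact Submodule.smul_mem _ _ ha
  · rw [← Submodule.Quotient.mk_eq_zero, ← Submodule.mkQ_apply, ← hΨΦ, LinearMap.comp_apply,
      LinearMap.mem_ker.1 hv, map_zero]
  · rintro _ ⟨x, hx, rfl⟩
    rw [SetLike.mem_coe, LinearMap.mem_ker, hΦgrad, show π x = 0 from hx, map_zero, tmul_zero]

end tensor

variable {R A : Type u} [CommRing R] [CommRing A] [Algebra R A]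

/-- A lift of a strictly standard element with an explicit left inverse of the leading Jacobian. -/
theorem exists_lift_leftInverse (P : MarkedPresentation R A) {a : A}
    (ha : a ∈ Ideal.span (Set.range fun cols : Fin P.c → Fin P.n =>
      P.hom (jacobianMinor P.rel (Fin.castLE P.hcm) cols))) :
    ∃ (a₀ : MvPolynomial (Fin P.n) R) (w : Fin P.c → Fin P.n → MvPolynomial (Fin P.n) R), P.hom a₀ = a ∧
      ∀ i k, ∑ l, w k l * pderiv l (P.rel (Fin.castLE P.hcm i)) = if i = k then a₀ else 0 := by
  classical
  obtain ⟨α, hα⟩ := Ideal.mem_span_range_iff_exists_fun.1 ha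
  choose α' hα' using fun cols => P.surj (α cols)
  let M : (Fin P.c → Fin P.n) → Matrix (Fin P.c) (Fin P.c) (MvPolynomial (Fin P.n) R) := fun cols =>
    Matrix.of fun i j => pderiv (cols j) (P.rel (Fin.castLE P.hcm i))
  have hM : ∀ cols, (M cols).det = jacobianMinor P.rel (Fin.castLE P.hcm) cols := fun cols => rfl
  refine ⟨∑ cols, α' cols * (M cols).det,
    fun k l => ∑ cols, ∑ j, if cols j = l then α' cols * (M cols).adjugate j k else 0, ?_, fun i k => ?_⟩
  · simp only [map_sum, map_mul, hα', hM]
    exact hα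
  · simp only [Finset.sum_mul, ite_mul, zero_mul]
    rw [Finset.sum_comm]
    have h1 : ∀ cols, (∑ l, ∑ j, if cols j = l then α' cols * (M cols).adjugate j k *
        pderiv l (P.rel (Fin.castLE P.hcm i)) else 0) = α' cols * ((M cols) * (M cols).adjugate) i k := by
      intro cols
      rw [Finset.sum_comm, Matrix.mul_apply, Finset.mul_sum]
      refine Finset.sum_congr rfl fun j _ => ?_
      rw [Finset.sum_ite_eq, if_pos (Finset.mem_univ _)]
      simp only [M, Matrix.of_apply]
      ring
    simp only [h1, Matrix.mul_adjugate, Matrix.smul_apply, Matrix.one_apply, smul_eq_mul, mul_ite, mul_one, mul_zero]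
    split_ifs with h <;> simp [h]

/-- Localizing at a strictly standard element. -/
theorem smooth_stablyFree (a : A) (ha : IsStrictlyStandard R A a) :
    Algebra.Smooth R (Localization.Away a) ∧
      ∃ p q : ℕ, Nonempty ((KaehlerDifferential R (Localization.Away a) × (Fin p → Localization.Away a)) ≃ₗ[Localization.Away a]
        (Fin q → Localization.Away a)) := by
  classical
  obtain ⟨P, hmin, hkill⟩ := ha
  obtain ⟨a₀, w, ha₀, hw⟩ := exists_lift_leftInverse P hmin
  let S := Localization.Away a
  let Pn := MvPolynomial (Fin P.n) R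
  let fc : Fin P.c → Pn := fun i => P.rel (Fin.castLE P.hcm i)
  let I : Ideal Pn := RingHom.ker P.hom.toRingHom
  have hI : I = Ideal.span (Set.range P.rel) := P.ker_eq
  have hlead : ∀ j, a₀ * P.rel j ∈ Ideal.span (Set.range fc) ⊔ I ^ 2 := by
    intro j
    rw [hI]
    by_cases hj : P.c ≤ (j : ℕ)
    · have hle : Ideal.span (P.rel '' {j' : Fin P.m | (j' : ℕ) < P.c}) ⊔ Ideal.span (Set.range P.rel) ^ 2 ≤
          Ideal.span (Set.range fc) ⊔ Ideal.span (Set.range P.rel) ^ 2 := by
        refine sup_le_sup ?_ le_rfl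
        refine Ideal.span_mono ?_
        rintro _ ⟨j', hj', rfl⟩
        exact ⟨⟨j', hj'⟩, congrArg P.rel (Fin.ext rfl)⟩
      exact hle (hkill a₀ ha₀ j hj)
    · exact Submodule.mem_sup_left (Ideal.mul_mem_left _ _ (Ideal.subset_span ⟨⟨j, not_le.1 hj⟩, congrArg P.rel (Fin.ext rfl)⟩))
  haveI hfpA : Algebra.FinitePresentation R A := Algebra.FinitePresentation.of_surjective P.surj
    (show (RingHom.ker P.hom.toRingHom).FG by rw [P.ker_eq]; exact Submodule.fg_span (Set.finite_range _))
  constructor
  · haveI : Algebra.FinitePresentation A S := IsLocalization.Away.finitePresentation a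
    refine ⟨?_, Algebra.FinitePresentation.trans R A S⟩
    let P' := Localization.Away a₀
    haveI : IsLocalization.Away (P.hom.toRingHom a₀) S := by
      rw [show P.hom.toRingHom a₀ = a from ha₀]; infer_instance
    let χ : P' →+* S := IsLocalization.Away.map P' S P.hom.toRingHom a₀
    letI := χ.toAlgebra
    have hχ : ∀ y, χ (algebraMap Pn P' y) = algebraMap A S (P.hom y) := fun y => by
      simp only [χ, IsLocalization.Away.map]
      exact IsLocalization.map_eq _ y
    haveI : IsScalarTower R P' S := IsScalarTower.of_algebraMap_eq fun t => by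
      rw [IsScalarTower.algebraMap_apply R Pn P', RingHom.algebraMap_toAlgebra, hχ, AlgHom.commutes]
      exact IsScalarTower.algebraMap_apply R A S t
    haveI : Algebra.FormallyEtale Pn P' := Algebra.FormallyEtale.of_isLocalization (Submonoid.powers a₀)
    haveI : Algebra.FormallySmooth R P' := Algebra.FormallySmooth.comp R Pn P'
    have hu : IsUnit (algebraMap Pn P' a₀) := IsLocalization.Away.algebraMap_isUnit a₀
    have hsurj : Function.Surjective (algebraMap P' S) := by
      intro z
      obtain ⟨k, b, hb⟩ := IsLocalization.Away.surj a z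
      obtain ⟨y, rfl⟩ := P.surj b
      refine ⟨algebraMap Pn P' y * ↑(hu.pow k).unit⁻¹, ?_⟩
      have hu' : IsUnit (algebraMap A S a ^ k) := (IsLocalization.Away.algebraMap_isUnit a).pow k
      refine hu'.mul_left_inj.1 ?_
      rw [hb, RingHom.algebraMap_toAlgebra, map_mul, hχ]
      have h1 : χ ↑(hu.pow k).unit⁻¹ * algebraMap A S a ^ k = 1 := by
        rw [← (hχ a₀).trans (congrArg (algebraMap A S) ha₀), ← map_pow χ, ← map_mul χ, IsUnit.val_inv_mul, map_one]
      rw [mul_assoc, h1, mul_one]
    have hker : RingHom.ker (algebraMap P' S) = I.map (algebraMap Pn P') := by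
      refine le_antisymm (fun x hx => ?_) (Ideal.map_le_iff_le_comap.2 fun x hx => ?_)
      · obtain ⟨k, y, hy⟩ := IsLocalization.Away.surj a₀ x
        have h0 : algebraMap A S (P.hom y) = 0 := by
          rw [← hχ, ← hy, map_mul]
          rw [RingHom.mem_ker, RingHom.algebraMap_toAlgebra] at hx
          rw [hx, zero_mul]
        obtain ⟨⟨_, e, rfl⟩, he⟩ := (IsLocalization.map_eq_zero_iff (Submonoid.powers a) S _).1 h0
        have h2 := Ideal.mem_map_of_mem (algebraMap Pn P') (show a₀ ^ e * y ∈ I by
          change P.hom (a₀ ^ e * y) = 0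
          rw [map_mul, map_pow, ha₀]; exact he)
        rw [map_mul, map_pow, Ideal.unit_mul_mem_iff_mem _ (hu.pow e), ← hy, Ideal.mul_unit_mem_iff_mem _ (hu.pow k)] at h2
        exact h2
      · rw [Ideal.mem_comap, RingHom.mem_ker, RingHom.algebraMap_toAlgebra, hχ,
          show P.hom x = 0 from hx, map_zero]
    let L : Fin P.c → (KaehlerDifferential R P' →ₗ[P'] P') := fun k =>
      (↑hu.unit⁻¹ : P') • (KaehlerDifferential.isBaseChange_of_formallyEtale R Pn P').lift
        ((Algebra.linearMap Pn P') ∘ₗ (NeronLib.vecDer (w k)).liftKaehlerDifferential)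
    refine formallySmooth_of_leftInverse hsurj (fun i => algebraMap Pn P' (fc i)) (fun i => ?_) ?_ L (fun i k => ?_)
    · rw [hker]
      exact Ideal.mem_map_of_mem _ (by rw [hI]; exact Ideal.subset_span ⟨_, rfl⟩)
    · rw [hker, ← Ideal.map_pow, show Ideal.span (Set.range fun i => algebraMap Pn P' (fc i)) =
        (Ideal.span (Set.range fc)).map (algebraMap Pn P') by rw [Ideal.map_span, ← Set.range_comp]; rfl,
        ← Ideal.map_sup, Ideal.map_le_iff_le_comap]
      conv_lhs => rw [hI]
      rw [Ideal.span_le]
      rintro _ ⟨j, rfl⟩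
      rw [SetLike.mem_coe, Ideal.mem_comap]
      refine (Ideal.unit_mul_mem_iff_mem _ hu).1 ?_
      rw [← map_mul]
      exact Ideal.mem_map_of_mem _ (hlead j)
    · have hk : L k (KaehlerDifferential.D R P' (algebraMap Pn P' (fc i))) = if i = k then 1 else 0 := by
        simp only [L, LinearMap.smul_apply]
        rw [← KaehlerDifferential.map_D R R Pn P', IsBaseChange.lift_eq, LinearMap.comp_apply,
          Derivation.liftKaehlerDifferential_comp_D, NeronLib.vecDer_apply, hw]
        split_ifs
        · exact IsUnit.val_inv_mul hu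
        · simp
      rw [hk, sub_self]
      exact zero_mem _
  · obtain ⟨Φ, hΦ, hΦker⟩ := exists_tensorKaehler_presentation (Λ := S) P.hom P.surj
    haveI : Algebra.FormallyEtale A S := Algebra.FormallyEtale.of_isLocalization (Submonoid.powers a)
    let eΩ := (KaehlerDifferential.isBaseChange_of_formallyEtale R A S).equiv
    let φ := (IsScalarTower.toAlgHom R A S).comp P.hom
    let G : (Fin P.c → S) →ₗ[S] (Fin P.n → S) := Fintype.linearCombination S fun i => NeronLib.grad φ (fc i)
    have hu : IsUnit (algebraMap A S a) := IsLocalization.Away.algebraMap_isUnit a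
    let Lv : (Fin P.n → S) →ₗ[S] (Fin P.c → S) :=
      LinearMap.pi fun k => (↑hu.unit⁻¹ : S) • ∑ l, φ (w k l) • LinearMap.proj l
    have hLG : ∀ c, Lv (G c) = c := by
      have h1 : ∀ i, Lv (NeronLib.grad φ (fc i)) = Pi.single i 1 := fun i => funext fun k => by
        simp only [Lv, LinearMap.pi_apply, LinearMap.smul_apply, LinearMap.sum_apply, LinearMap.proj_apply,
          NeronLib.grad, smul_eq_mul, ← map_mul, ← map_sum]
        rw [hw, Pi.single_apply]
        by_cases h : i = k
        · rw [if_pos h, if_pos h.symm]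
          change (↑hu.unit⁻¹ : S) * algebraMap A S (P.hom a₀) = 1
          rw [ha₀]; exact IsUnit.val_inv_mul hu
        · rw [if_neg h, if_neg (Ne.symm h), map_zero, mul_zero]
      intro c
      simp only [G, Fintype.linearCombination_apply, map_sum, map_smul, h1]
      exact (pi_eq_sum_univ' c).symm
    have hfcI : ∀ i, fc i ∈ I := fun i => by rw [hI]; exact Ideal.subset_span ⟨_, rfl⟩
    have hIφ : ∀ x ∈ I, φ x = 0 := fun x hx => by
      change algebraMap A S (P.hom x) = 0
      rw [show P.hom x = 0 from hx, map_zero]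
    have hrange : NeronLib.relJac (Λ := S) P.hom = LinearMap.range G := by
      refine le_antisymm (Submodule.span_le.2 ?_) ?_
      · rintro _ ⟨x, hx, rfl⟩
        have hmemJ : ∀ y ∈ Ideal.span (Set.range fc) ⊔ I ^ 2, NeronLib.grad φ y ∈ LinearMap.range G := by
          intro y hy
          obtain ⟨u, hu', v, hv, rfl⟩ := Submodule.mem_sup.1 hy
          rw [NeronLib.grad_add]
          refine add_mem ?_ ?_
          · obtain ⟨b, rfl⟩ := Ideal.mem_span_range_iff_exists_fun.1 hu'
            refine ⟨fun i => φ (b i), ?_⟩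
            simp only [G, Fintype.linearCombination_apply]
            rw [NeronLib.grad_sum]
            exact Finset.sum_congr rfl fun i _ => by
              rw [NeronLib.grad_mul, hIφ _ (hfcI i), zero_smul, add_zero]
          · rw [pow_two] at hv
            refine Submodule.mul_induction_on hv (fun p hp q hq => ?_) (fun p q hp hq => by
              rw [NeronLib.grad_add]; exact add_mem hp hq)
            rw [NeronLib.grad_mul, hIφ p hp, hIφ q hq, zero_smul, zero_smul, add_zero]
            exact zero_mem _
        have hx' : x ∈ Ideal.span (Set.range P.rel) := hI ▸ hx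
        obtain ⟨b, hb⟩ := Ideal.mem_span_range_iff_exists_fun.1 hx'
        have hxa : a₀ * x ∈ Ideal.span (Set.range fc) ⊔ I ^ 2 := by
          rw [← hb, Finset.mul_sum]
          exact sum_mem fun j _ => by rw [mul_left_comm]; exact Ideal.mul_mem_left _ _ (hlead j)
        obtain ⟨v, hv⟩ := hmemJ _ hxa
        rw [NeronLib.grad_mul, hIφ x hx, zero_smul, add_zero] at hv
        refine ⟨(↑hu.unit⁻¹ : S) • v, ?_⟩
        rw [map_smul, hv, smul_smul, show φ a₀ = algebraMap A S a from congrArg (algebraMap A S) ha₀, IsUnit.val_inv_mul, one_smul]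
      · rintro _ ⟨c, rfl⟩
        simp only [G, Fintype.linearCombination_apply]
        exact Submodule.sum_mem _ fun i _ => Submodule.smul_mem _ _ (Submodule.subset_span ⟨fc i, hfcI i, rfl⟩)
    let Θ : (Fin P.n → S) →ₗ[S] (KaehlerDifferential R S × (Fin P.c → S)) := (eΩ.toLinearMap ∘ₗ Φ).prod Lv
    have hΘ : Function.Bijective Θ := by
      constructor
      · rw [injective_iff_map_eq_zero]
        intro v hv
        change (eΩ (Φ v), Lv v) = 0 at hv
        rw [Prod.mk_eq_zero, LinearEquiv.map_eq_zero_iff] at hv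
        obtain ⟨c, rfl⟩ : v ∈ LinearMap.range G := hrange ▸ hΦker ▸ hv.1
        rw [hLG] at hv
        rw [hv.2, map_zero]
      · rintro ⟨ω, c⟩
        obtain ⟨v, hv⟩ := hΦ (eΩ.symm ω)
        have h0 : ∀ d, Φ (G d) = 0 := fun d => by
          rw [← LinearMap.mem_ker, hΦker, hrange]; exact ⟨d, rfl⟩
        refine ⟨v - G (Lv v) + G c, ?_⟩
        change (eΩ (Φ (v - G (Lv v) + G c)), Lv (v - G (Lv v) + G c)) = (ω, c)
        simp only [map_add, map_sub,
          h0, hv, hLG, sub_zero, add_zero, sub_self, zero_add, map_zero, LinearEquiv.apply_symm_apply]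
    exact ⟨P.c, P.n, ⟨(LinearEquiv.ofBijective Θ hΘ).symm⟩⟩

end Groth.Agent.SmoothingLib
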