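import Mathlib
import Groth.Prelude.Def_Smoothing
import Groth.Agent.SmoothingLib.StrictlyStandard
import Groth.Agent.SmoothingLib.Lifting

/-! Desingularization along a strictly standard element. -/

set_option autoImplicit false
universe u

noncomputable section

namespace Groth.Agent.SmoothingLib

open MvPolynomial Smoothing

/-- First order Taylor expansion. -/
theorem exists_taylor {R S : Type u} [CommRing R] [CommRing S] [Algebra R S] {n : ℕ} (lam : Fin n → R)
    (t : S) (X' : Fin n → S) (p : MvPolynomial (Fin n) R) :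
    ∃ q : S, aeval (fun l => algebraMap R S (lam l) + t * X' l) p =
      algebraMap R S (eval lam p) + t * ∑ l, algebraMap R S (eval lam (pderiv l p)) * X' l + t ^ 2 * q := by
  classical
  induction p using MvPolynomial.induction_on with
  | C r => exact ⟨0, by simp⟩
  | add p q hp hq =>
    obtain ⟨a, ha⟩ := hp
    obtain ⟨b, hb⟩ := hq
    refine ⟨a + b, ?_⟩
    rw [map_add, ha, hb]
    simp only [map_add, add_mul, Finset.sum_add_distrib]
    ring
  | mul_X p i hp =>
    obtain ⟨a, ha⟩ := hp
    refine ⟨a * (algebraMap R S (lam i) + t * X' i) +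
      (∑ l, algebraMap R S (eval lam (pderiv l p)) * X' l) * X' i, ?_⟩
    rw [map_mul, aeval_X, ha]
    have h1 : ∀ l, algebraMap R S (eval lam (pderiv l (p * X i))) * X' l =
        algebraMap R S (lam i) * (algebraMap R S (eval lam (pderiv l p)) * X' l) +
          (if i = l then algebraMap R S (eval lam p) * X' l else 0) := by
      intro l
      by_cases h : i = l
      · subst h; simp; ring
      · rw [if_neg h, add_zero, pderiv_mul, pderiv_X_of_ne h]
        simp; ring
    simp only [h1, Finset.sum_add_distrib, Finset.sum_ite_eq, Finset.mem_univ, if_true, ← Finset.mul_sum,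
      map_mul, eval_X]
    ring

/-- The chain rule for a derivation. -/
theorem derivation_aeval {R S : Type u} [CommRing R] [CommRing S] [Algebra R S] {n : ℕ}
    (d : Derivation R S S) (g : Fin n → S) (p : MvPolynomial (Fin n) R) :
    d (aeval g p) = ∑ l, aeval g (pderiv l p) * d (g l) := by
  classical
  induction p using MvPolynomial.induction_on with
  | C r => simp
  | add p q hp hq => simp only [map_add, hp, hq, add_mul, Finset.sum_add_distrib]
  | mul_X p i hp =>
    rw [map_mul, aeval_X, Derivation.leibniz, hp]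
    have h1 : ∀ l, aeval g (pderiv l (p * X i)) * d (g l) =
        g i * (aeval g (pderiv l p) * d (g l)) + (if i = l then aeval g p * d (g l) else 0) := by
      intro l
      by_cases h : i = l
      · subst h; simp; ring
      · rw [if_neg h, add_zero, pderiv_mul, pderiv_X_of_ne h]
        simp; ring
    simp only [h1, Finset.sum_add_distrib, Finset.sum_ite_eq, Finset.mem_univ, if_true, ← Finset.mul_sum,
      smul_eq_mul]
    ring

/-- An implication between annihilators of elements persists in a flat algebra. -/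
theorem mul_eq_zero_of_flat' {R E : Type u} [CommRing R] [CommRing E] [Algebra R E] [Module.Flat R E] (a b : R)
    (hR : ∀ r : R, a * r = 0 → b * r = 0) {y : E} (hy : algebraMap R E a * y = 0) :
    algebraMap R E b * y = 0 := by
  obtain ⟨k, c, z, hz, hc⟩ := Module.Flat.isTrivialRelation_of_sum_smul_eq_zero
    (f := fun _ : Fin 1 => a) (x := fun _ => y) (by simpa [Algebra.smul_def] using hy)
  rw [show y = ∑ j, c 0 j • z j from hz 0, Finset.mul_sum]
  refine Finset.sum_eq_zero fun j _ => ?_
  have h1 : a * c 0 j = 0 := by simpa using hc j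
  rw [Algebra.smul_def, ← mul_assoc, ← map_mul, hR _ h1, map_zero, zero_mul]

/-- A matrix congruent to a nonzero scalar modulo a prime has determinant outside the prime. -/
theorem det_notMem_of_prime {A : Type u} [CommRing A] (q : Ideal A) [q.IsPrime] {c : ℕ}
    (M : Matrix (Fin c) (Fin c) A) (e : A) (he : e ∉ q)
    (hM : ∀ i k, M i k - (if i = k then e else 0) ∈ q) : M.det ∉ q := by
  intro h
  rw [← Ideal.Quotient.eq_zero_iff_mem, RingHom.map_det,
    show (Ideal.Quotient.mk q).mapMatrix M = Matrix.diagonal fun _ => Ideal.Quotient.mk q e from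
      Matrix.ext fun i k => by
        rw [RingHom.mapMatrix_apply, Matrix.map_apply, Ideal.Quotient.eq.2 (hM i k)]
        by_cases h : i = k <;> simp [h],
    Matrix.det_diagonal] at h
  exact Finset.prod_ne_zero_iff.2 (fun _ _ => mt Ideal.Quotient.eq_zero_iff_mem.1 he) h

/-- The ideal of tail relations vanishes in a flat local algebra. -/
theorem tail_eq_bot {R E : Type u} [CommRing R] [CommRing E] [Algebra R E] [Module.Flat R E] [IsLocalRing E]
    (π r : R) (hR : ∀ x : R, π ^ 2 * x = 0 → π * (r * x) = 0) (hr : IsUnit (algebraMap R E r))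
    (Fi : Ideal E) (hfg : Fi.FG) (hmax : Fi ≤ IsLocalRing.maximalIdeal E)
    (hmul : ∀ x ∈ Fi, algebraMap R E π * x ∈ Fi * Fi)
    (hdiv : Fi ≤ Ideal.span {algebraMap R E π ^ 2}) : Fi = ⊥ := by
  have hjac : IsLocalRing.maximalIdeal E ≤ Ideal.jacobson ⊥ := IsLocalRing.maximalIdeal_le_jacobson _
  by_cases hu : IsUnit (algebraMap R E π)
  · refine Submodule.eq_bot_of_le_smul_of_le_jacobson_bot Fi Fi hfg (fun x hx => ?_) (hmax.trans hjac)
    exact (Ideal.unit_mul_mem_iff_mem _ hu).1 (hmul x hx)
  · set p := algebraMap R E π with hp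
    have hM : Ideal.span {p} * Fi = ⊥ := by
      refine Submodule.eq_bot_of_le_smul_of_le_jacobson_bot (Ideal.span {p}) _
        (Submodule.FG.mul (Submodule.fg_span_singleton p) hfg) ?_ (le_trans ?_ hjac)
      · intro x hx
        obtain ⟨y, hy, rfl⟩ := Ideal.mem_span_singleton_mul.1 hx
        have h1 : p * y ∈ Ideal.span {p ^ 2} * Fi := Ideal.mul_mono_left hdiv (hmul y hy)
        rw [pow_two, ← Ideal.span_singleton_mul_span_singleton, mul_assoc] at h1
        exact h1
      · exact (Ideal.span_singleton_le_iff_mem _).2 hu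
    rw [eq_bot_iff]
    intro x hx
    obtain ⟨g, hg⟩ := Ideal.mem_span_singleton'.1 (hdiv hx)
    have h0 : p * x = 0 := by
      rw [← Ideal.mem_bot, ← hM]
      exact Ideal.mul_mem_mul (Ideal.mem_span_singleton_self p) hx
    have h1 : algebraMap R E (π ^ 2) * (p * g) = 0 := by
      rw [map_pow, ← h0, ← hg, hp]; ring
    have h2 := mul_eq_zero_of_flat' (π ^ 2) (π * r) (fun y hy => by rw [mul_assoc]; exact hR y hy) h1
    rw [map_mul, mul_comm (algebraMap R E π), mul_assoc] at h2
    rw [Ideal.mem_bot, ← hg, ← hr.mul_right_eq_zero.1 h2, hp]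
    ring

variable {R : Type u} [CommRing R]

/-- The data for desingularization. -/
structure DesingData (R : Type u) [CommRing R] where
  /-- the element -/
  pi : R
  /-- number of variables -/
  n : ℕ
  /-- number of relations -/
  m : ℕ
  /-- number of leading relations -/
  c : ℕ
  /-- the position of the leading relations -/
  lead : Fin c → Fin m
  /-- relations -/
  rel : Fin m → MvPolynomial (Fin n) R
  /-- approximate solution -/
  lam : Fin n → R
  /-- lift of the element -/
  a0 : MvPolynomial (Fin n) R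
  /-- left inverse of the Jacobian -/
  w : Fin c → Fin n → MvPolynomial (Fin n) R
  /-- values of the relations at the approximate solution -/
  cst : Fin m → R
  /-- correction -/
  un : R
  hw : ∀ i k, ∑ l, w k l * pderiv l (rel (lead i)) = if i = k then a0 else 0
  hcst : ∀ j, eval lam (rel j) = pi ^ 4 * cst j
  hun : eval lam a0 = pi + pi ^ 4 * un
  hkill : ∀ j, a0 * rel j ∈ Ideal.span (Set.range (rel ∘ lead)) ⊔ Ideal.span (Set.range rel) ^ 2
  ha0 : a0 - C pi ∈ Ideal.span (Set.range rel)

namespace DesingData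

variable (d : DesingData R)

/-- The Jacobian matrix at the approximate solution. -/
def jac0 (i : Fin d.c) (l : Fin d.n) : R := eval d.lam (pderiv l (d.rel (d.lead i)))

/-- The new variables `z`. -/
def zv (i : Fin d.c) : MvPolynomial (Fin (d.c + d.n)) R := X (Fin.castAdd d.n i)

/-- The new variables `y`. -/
def yv (l : Fin d.n) : MvPolynomial (Fin (d.c + d.n)) R := X (Fin.natAdd d.c l)

/-- Jacobian applied to `y`. -/
def Yv (i : Fin d.c) : MvPolynomial (Fin (d.c + d.n)) R := ∑ k, C (d.jac0 i k) * d.yv k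

/-- The direction of the substitution. -/
def Vv (l : Fin d.n) : MvPolynomial (Fin (d.c + d.n)) R :=
  ∑ i, C (eval d.lam (d.w i l)) * (d.zv i - d.Yv i) + C d.pi * d.yv l

/-- The substitution. -/
def subst : MvPolynomial (Fin d.n) R →ₐ[R] MvPolynomial (Fin (d.c + d.n)) R :=
  aeval fun l => algebraMap R _ (d.lam l) + C d.pi ^ 2 * d.Vv l

theorem exists_taylor_lead (i : Fin d.c) : ∃ q, d.subst (d.rel (d.lead i)) =
    algebraMap R _ (eval d.lam (d.rel (d.lead i))) + C d.pi ^ 2 * ∑ l, algebraMap R _ (d.jac0 i l) * d.Vv l +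
      (C d.pi ^ 2) ^ 2 * q :=
  exists_taylor d.lam _ _ _

/-- The second order term. -/
def quad (i : Fin d.c) : MvPolynomial (Fin (d.c + d.n)) R := Classical.choose (d.exists_taylor_lead i)

/-- The new relations. -/
def newRel (i : Fin d.c) : MvPolynomial (Fin (d.c + d.n)) R :=
  C (1 + d.pi ^ 3 * d.un) * d.zv i - C (d.pi ^ 3 * d.un) * d.Yv i + C (d.pi * d.cst (d.lead i)) + C d.pi * d.quad i

theorem jac0_mul_w (i k : Fin d.c) :
    ∑ l, d.jac0 i l * eval d.lam (d.w k l) = if i = k then d.pi + d.pi ^ 4 * d.un else 0 := by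
  have h := congrArg (eval d.lam) (d.hw i k)
  rw [map_sum, apply_ite (eval d.lam), map_zero, d.hun] at h
  rw [← h]
  exact Finset.sum_congr rfl fun l _ => by rw [map_mul, mul_comm]; rfl

theorem jac0_Vv (i : Fin d.c) : ∑ l, C (d.jac0 i l) * d.Vv l =
    C (d.pi + d.pi ^ 4 * d.un) * (d.zv i - d.Yv i) + C d.pi * d.Yv i := by
  classical
  simp only [Vv, mul_add, Finset.sum_add_distrib, Finset.mul_sum]
  congr 1
  · rw [Finset.sum_comm]
    have h1 : ∀ k, ∑ l, C (d.jac0 i l) * (C (eval d.lam (d.w k l)) * (d.zv k - d.Yv k)) =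
        if i = k then C (d.pi + d.pi ^ 4 * d.un) * (d.zv k - d.Yv k) else 0 := by
      intro k
      simp only [← mul_assoc, ← C_mul, ← Finset.sum_mul, ← map_sum, d.jac0_mul_w]
      split_ifs <;> simp
    simp only [h1, Finset.sum_ite_eq, Finset.mem_univ, if_true]
  · rw [Yv, Finset.mul_sum]
    exact Finset.sum_congr rfl fun l _ => by ring

theorem subst_lead (i : Fin d.c) : d.subst (d.rel (d.lead i)) = C d.pi ^ 3 * d.newRel i := by
  have hs : d.subst (d.rel (d.lead i)) = C (eval d.lam (d.rel (d.lead i))) +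
      C d.pi ^ 2 * ∑ l, C (d.jac0 i l) * d.Vv l + (C d.pi ^ 2) ^ 2 * d.quad i :=
    Classical.choose_spec (d.exists_taylor_lead i)
  rw [hs, d.jac0_Vv, d.hcst, newRel]
  simp only [map_add, map_mul, map_pow, map_one]
  ring

/-- The relations of the desingularization. -/
def rels : Set (MvPolynomial (Fin (d.c + d.n)) R) :=
  Set.range d.newRel ∪ Set.range fun j => d.subst (d.rel j)

theorem subst_span {p : MvPolynomial (Fin d.n) R} (hp : p ∈ Ideal.span (Set.range d.rel)) :
    d.subst p ∈ Ideal.span d.rels := by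
  have h : Ideal.span (Set.range d.rel) ≤ (Ideal.span d.rels).comap d.subst := Ideal.span_le.2 (by
    rintro _ ⟨j, rfl⟩
    exact Ideal.subset_span (Or.inr ⟨j, rfl⟩))
  exact h hp

theorem mk_subst_a0 : Ideal.Quotient.mk (Ideal.span d.rels) (d.subst d.a0) =
    Ideal.Quotient.mk (Ideal.span d.rels) (C d.pi) := by
  rw [Ideal.Quotient.eq, show (C d.pi : MvPolynomial (Fin (d.c + d.n)) R) = d.subst (C d.pi) from
    (d.subst.commutes d.pi).symm, ← map_sub]
  exact d.subst_span d.ha0

/-- The derivation used where `π` is invertible. -/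
def der (k : Fin d.c) : Derivation R (MvPolynomial (Fin (d.c + d.n)) R) (MvPolynomial (Fin (d.c + d.n)) R) :=
  mkDerivation R (Fin.append (fun i => ∑ l, C (d.jac0 i l) * d.subst (d.w k l)) fun l => d.subst (d.w k l))

theorem der_subst_X (k : Fin d.c) (l : Fin d.n) :
    d.der k (algebraMap R _ (d.lam l) + C d.pi ^ 2 * d.Vv l) = C d.pi ^ 3 * d.subst (d.w k l) := by
  have hz : ∀ i, d.der k (d.zv i - d.Yv i) = 0 := by
    intro i
    simp [der, zv, Yv, yv]
  have hy : d.der k (d.yv l) = d.subst (d.w k l) := by simp [der, yv]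
  simp only [Vv, map_add, Derivation.map_algebraMap, zero_add, Derivation.leibniz, Derivation.leibniz_pow,
    derivation_C, smul_zero, add_zero, map_sum, hz, hy, Finset.sum_const_zero, smul_eq_mul, mul_zero]
  ring

theorem pi_mul_der_newRel (i k : Fin d.c) :
    C d.pi ^ 3 * d.der k (d.newRel i) = C d.pi ^ 3 * if i = k then d.subst d.a0 else 0 := by
  have h1 := congrArg (d.der k) (d.subst_lead i)
  simp only [Derivation.leibniz, Derivation.leibniz_pow, derivation_C, smul_zero, mul_zero, add_zero,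
    smul_eq_mul] at h1
  rw [← h1]
  change d.der k (aeval _ (d.rel (d.lead i))) = _
  rw [derivation_aeval]
  simp only [d.der_subst_X]
  rw [show (if i = k then d.subst d.a0 else 0) = d.subst (if i = k then d.a0 else 0) by split_ifs <;> simp,
    ← d.hw i k, map_sum, Finset.mul_sum]
  refine Finset.sum_congr rfl fun l _ => ?_
  rw [map_mul]
  change d.subst _ * _ = _
  ring

theorem isSmoothAt [IsNoetherianRing R] (r : R) (hr : ∀ x : R, d.pi ^ 2 * x = 0 → d.pi * (r * x) = 0)
    (Q : Ideal (MvPolynomial (Fin (d.c + d.n)) R ⧸ Ideal.span d.rels)) [Q.IsPrime]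
    (hrQ : algebraMap R _ r ∉ Q) : Algebra.IsSmoothAt R Q := by
  classical
  let P2 := MvPolynomial (Fin (d.c + d.n)) R
  let q : Ideal P2 := Q.comap (Ideal.Quotient.mk (Ideal.span d.rels))
  haveI : q.IsPrime := Ideal.comap_isPrime _ _
  have hnew : ∀ i, d.newRel i ∈ Ideal.span d.rels := fun i => Ideal.subset_span (Or.inl ⟨i, rfl⟩)
  have hG : ∀ w ∈ d.rels, ∀ (E : Type u) [CommRing E] [Algebra P2 E] [Algebra R E]
      [IsScalarTower R P2 E] [Module.Flat R E] [IsLocalRing E],
      (∀ i, algebraMap P2 E (d.newRel i) = 0) →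
      (∀ y, IsUnit (algebraMap P2 E y) ↔ Ideal.Quotient.mk (Ideal.span d.rels) y ∉ Q) →
      algebraMap P2 E w = 0 := by
    intro w hw E _ _ _ _ _ _ hF hunit
    rcases hw with ⟨i, rfl⟩ | ⟨j, rfl⟩
    · exact hF i
    let ψ : MvPolynomial (Fin d.n) R →ₐ[R] E := (IsScalarTower.toAlgHom R P2 E).comp d.subst
    let Fi : Ideal E := (Ideal.span (Set.range d.rel)).map ψ
    have hπE : algebraMap P2 E (C d.pi) = algebraMap R E d.pi :=
      (IsScalarTower.algebraMap_apply R P2 E d.pi).symm
    have hmax : Fi ≤ IsLocalRing.maximalIdeal E := by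
      rw [Ideal.map_le_iff_le_comap]
      intro x hx
      change ψ x ∈ IsLocalRing.maximalIdeal E
      rw [IsLocalRing.mem_maximalIdeal, mem_nonunits_iff]
      change ¬ IsUnit (algebraMap P2 E (d.subst x))
      rw [hunit, not_not, Ideal.Quotient.eq_zero_iff_mem.2 (d.subst_span hx)]
      exact Q.zero_mem
    have hlead : ∀ i, ψ (d.rel (d.lead i)) = 0 := fun i => by
      change algebraMap P2 E (d.subst (d.rel (d.lead i))) = 0
      rw [d.subst_lead, map_mul, hF, mul_zero]
    have hkill : ∀ x ∈ Fi, algebraMap R E d.pi * x ∈ Fi * Fi := by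
      intro x hx
      refine Submodule.span_induction (fun x hx => ?_) (by simp) (fun x y _ _ hx hy => by
        rw [mul_add]; exact add_mem hx hy) (fun a x _ hx => by
        rw [smul_eq_mul, mul_left_comm]; exact Ideal.mul_mem_left _ a hx) hx
      obtain ⟨y, hy, rfl⟩ := hx
      have h1 : ∀ y ∈ Ideal.span (Set.range d.rel), ψ (d.a0 * y) ∈ Fi * Fi := by
        intro y hy
        have h3 : Ideal.span (Set.range d.rel) * Ideal.span {d.a0} ≤ (Fi * Fi).comap ψ := by
          rw [Ideal.span_mul_span', Ideal.span_le]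
          rintro _ ⟨_, ⟨j, rfl⟩, _, rfl, rfl⟩
          change ψ (d.rel j * d.a0) ∈ Fi * Fi
          rw [mul_comm (d.rel j)]
          have h4 := Ideal.mem_map_of_mem ψ (d.hkill j)
          rw [Ideal.map_sup, Ideal.map_pow, pow_two] at h4
          have h5 : (Ideal.span (Set.range (d.rel ∘ d.lead))).map ψ ≤ Fi * Fi := by
            rw [Ideal.map_le_iff_le_comap, Ideal.span_le]
            rintro _ ⟨i, rfl⟩
            change ψ (d.rel (d.lead i)) ∈ Fi * Fi
            rw [hlead]
            exact zero_mem _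
          exact (show _ ⊔ Fi * Fi ≤ Fi * Fi from sup_le h5 le_rfl) h4
        have := h3 (Ideal.mul_mem_mul hy (Ideal.mem_span_singleton_self d.a0))
        rwa [Ideal.mem_comap, mul_comm y] at this
      have h2 : algebraMap R E d.pi * ψ y = ψ (d.a0 * y) - ψ (d.a0 - C d.pi) * ψ y := by
        rw [map_mul, map_sub, show (C d.pi : MvPolynomial (Fin d.n) R) = algebraMap R _ d.pi from rfl, AlgHom.commutes]
        ring
      rw [h2]
      exact sub_mem (h1 y hy) (Ideal.mul_mem_mul (Ideal.mem_map_of_mem ψ d.ha0) (Ideal.mem_map_of_mem ψ hy))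
    have hdiv : Fi ≤ Ideal.span {algebraMap R E d.pi ^ 2} := by
      rw [Ideal.map_le_iff_le_comap, Ideal.span_le]
      rintro _ ⟨j, rfl⟩
      obtain ⟨q, hq⟩ := exists_taylor d.lam (C d.pi ^ 2) d.Vv (d.rel j)
      change algebraMap P2 E (aeval _ (d.rel j)) ∈ Ideal.span {algebraMap R E d.pi ^ 2}
      rw [hq, d.hcst]
      simp only [map_add, map_mul, map_pow, algebraMap_eq, hπE]
      refine add_mem (add_mem ?_ ?_) ?_
      · exact Ideal.mul_mem_right _ _ (Ideal.mem_span_singleton.2 (pow_dvd_pow _ (show 2 ≤ 4 by norm_num)))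
      · exact Ideal.mul_mem_right _ _ (Ideal.mem_span_singleton_self _)
      · exact Ideal.mul_mem_right _ _ (Ideal.pow_mem_of_mem _ (Ideal.mem_span_singleton_self _) 2 two_pos)
    have hbot : Fi = ⊥ := tail_eq_bot d.pi r hr (by
        rw [IsScalarTower.algebraMap_apply R P2 E, hunit]
        exact hrQ)
      Fi (Ideal.FG.map (Submodule.fg_span (Set.finite_range _)) _) hmax hkill hdiv
    change ψ (d.rel j) = 0
    rw [← Ideal.mem_bot, ← hbot]
    exact Ideal.mem_map_of_mem ψ (Ideal.subset_span ⟨j, rfl⟩)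
  by_cases hπQ : C d.pi ∈ q
  · refine isSmoothAt_of_relations d.rels Q d.newRel hnew (fun k => pderiv (Fin.castAdd d.n k)) ?_ hG
    refine det_notMem_of_prime q _ 1 (q.one_notMem) fun i k => ?_
    have h0 : Ideal.Quotient.mk q (C d.pi) = 0 := Ideal.Quotient.eq_zero_iff_mem.2 hπQ
    rw [Matrix.of_apply, ← Ideal.Quotient.eq]
    simp only [newRel, map_add, map_sub, pderiv_C_mul, pderiv_C, map_mul, map_pow, map_one, map_zero]
    simp only [pderiv_mul, pderiv_C, pderiv_one, Derivation.leibniz_pow, map_add, map_mul, map_pow, map_zero, map_one,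
      smul_zero, h0, zero_pow (by norm_num : (3 : ℕ) ≠ 0), zero_mul, mul_zero, add_zero, zero_add, sub_zero, one_mul]
    by_cases h : i = k
    · subst h
      rw [zv, pderiv_X_self, if_pos rfl]
    · rw [if_neg h, zv, pderiv_X_of_ne (fun e => h (Fin.castAdd_injective _ _ e))]
  · refine isSmoothAt_of_relations d.rels Q d.newRel hnew d.der ?_ hG
    refine det_notMem_of_prime q _ (C d.pi) hπQ fun i k => ?_
    rw [Matrix.of_apply]
    have h1 : C d.pi ^ 3 * (d.der k (d.newRel i) - if i = k then d.subst d.a0 else 0) ∈ q := by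
      rw [mul_sub, d.pi_mul_der_newRel, sub_self]; exact q.zero_mem
    have h2 := ((inferInstance : q.IsPrime).mem_or_mem h1).resolve_left
      fun h => hπQ ((inferInstance : q.IsPrime).mem_of_pow_mem _ h)
    have h3 : (if i = k then d.subst d.a0 else 0) - (if i = k then C d.pi else 0) ∈ q := by
      split_ifs
      · change Ideal.Quotient.mk _ (d.subst d.a0 - C d.pi) ∈ Q
        rw [map_sub, d.mk_subst_a0, sub_self]
        exact Q.zero_mem
      · rw [sub_zero]; exact q.zero_mem
    simpa using add_mem h2 h3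

theorem lift_rels {Λ : Type u} [CommRing Λ] [Algebra R Λ] (hΛ : ∀ x : Λ, d.pi ^ 2 • x = 0 → d.pi • x = 0)
    (χ : MvPolynomial (Fin d.n) R →ₐ[R] Λ) (hχ : ∀ j, χ (d.rel j) = 0) (μ : Fin d.n → Λ)
    (hμ : ∀ l, χ (X l) = algebraMap R Λ (d.lam l) + algebraMap R Λ d.pi ^ 4 * μ l) :
    ∃ β : MvPolynomial (Fin (d.c + d.n)) R →ₐ[R] Λ, β.comp d.subst = χ ∧ ∀ w ∈ Ideal.span d.rels, β w = 0 := by
  let A0 : Fin d.c → Λ := fun i => ∑ k, algebraMap R Λ (d.jac0 i k) * μ k
  let β : MvPolynomial (Fin (d.c + d.n)) R →ₐ[R] Λ :=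
    aeval (Fin.append (fun i => algebraMap R Λ d.pi * A0 i) fun l => algebraMap R Λ d.pi * μ l)
  have hC : ∀ a : R, β (C a) = algebraMap R Λ a := fun a => β.commutes a
  have hz : ∀ i, β (d.zv i) = algebraMap R Λ d.pi * A0 i := fun i => by simp [β, zv]
  have hy : ∀ l, β (d.yv l) = algebraMap R Λ d.pi * μ l := fun l => by simp [β, yv]
  have hY : ∀ i, β (d.Yv i) = algebraMap R Λ d.pi * A0 i := fun i => by
    simp only [Yv, map_sum, map_mul, hC, hy, A0, Finset.mul_sum]
    exact Finset.sum_congr rfl fun k _ => by ring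
  have hcomp : β.comp d.subst = χ := MvPolynomial.algHom_ext fun l => by
    rw [AlgHom.comp_apply, subst, aeval_X, hμ]
    simp only [Vv, map_add, map_mul, map_pow, hC, AlgHom.commutes, map_sum, map_sub, hz, hY, hy, sub_self,
      mul_zero, Finset.sum_const_zero, zero_add]
    ring
  refine ⟨β, hcomp, fun w hw => ?_⟩
  refine (show Ideal.span d.rels ≤ RingHom.ker β from Ideal.span_le.2 ?_) hw
  rintro _ (⟨i, rfl⟩ | ⟨j, rfl⟩)
  · rw [SetLike.mem_coe, RingHom.mem_ker]
    let K : Λ := A0 i + algebraMap R Λ (d.cst (d.lead i)) + β (d.quad i)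
    have h1 : β (d.newRel i) = d.pi • K := by
      simp only [newRel, map_add, map_mul, map_sub, map_pow, map_one, hC, hz, hY, K, Algebra.smul_def]
      ring
    have h2 : d.pi ^ 3 • β (d.newRel i) = 0 := by
      have := AlgHom.congr_fun hcomp (d.rel (d.lead i))
      rw [hχ, AlgHom.comp_apply, d.subst_lead, map_mul, map_pow, hC] at this
      rw [Algebra.smul_def, map_pow]
      exact this
    rw [h1, ← mul_smul, ← pow_succ] at h2
    have h3 : d.pi ^ 3 • K = 0 := by
      have := hΛ (d.pi ^ 2 • K) (by rw [← mul_smul, ← pow_add]; exact h2)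
      rwa [← mul_smul, ← pow_succ'] at this
    have h4 : d.pi ^ 2 • K = 0 := by
      have := hΛ (d.pi • K) (by rw [← mul_smul, ← pow_succ]; exact h3)
      rwa [← mul_smul, ← pow_two] at this
    rw [h1]
    exact hΛ K h4
  · rw [SetLike.mem_coe, RingHom.mem_ker]
    exact (AlgHom.congr_fun hcomp (d.rel j)).trans (hχ j)

end DesingData

/-- Desingularization. -/
theorem desingularize {Λ A : Type u} [IsNoetherianRing R] [CommRing Λ]
    [Algebra R Λ] (π : R) (hΛ : ∀ x : Λ, π ^ 2 • x = 0 → π • x = 0) [CommRing A] [Algebra R A]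
    (φ : A →ₐ[R] Λ) (hπ : Smoothing.IsStrictlyStandard R A (algebraMap R A π))
    (ρ : A →ₐ[R] R ⧸ Ideal.span {π ^ 4})
    (hρ : ∀ (a : A) (r : R), Ideal.Quotient.mk (Ideal.span {π ^ 4}) r = ρ a →
      algebraMap R Λ r - φ a ∈ Ideal.span {algebraMap R Λ (π ^ 4)}) :
    ∃ (B : Type u) (_ : CommRing B) (_ : Algebra R B), Algebra.FinitePresentation R B ∧
      ∃ (α : A →ₐ[R] B) (β : B →ₐ[R] Λ), β.comp α = φ ∧
        ∀ r : R, (∀ x : R, π ^ 2 * x = 0 → π * (r * x) = 0) →
          algebraMap R B r ∈ Smoothing.singularIdeal R B := by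
  classical
  obtain ⟨P, hmin, hkill⟩ := hπ
  obtain ⟨a0, w, ha0, hw⟩ := exists_lift_leftInverse P hmin
  choose lam hlam using fun l : Fin P.n => Ideal.Quotient.mk_surjective (ρ (P.hom (X l)))
  have hev : ∀ p, Ideal.Quotient.mk (Ideal.span {π ^ 4}) (eval lam p) = ρ (P.hom p) := by
    have h : (Ideal.Quotient.mkₐ R (Ideal.span {π ^ 4})).comp (aeval lam) = ρ.comp P.hom :=
      MvPolynomial.algHom_ext fun i => by simp [hlam]
    intro p
    have := AlgHom.congr_fun h p
    rw [AlgHom.comp_apply, AlgHom.comp_apply, aeval_eq_eval] at this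
    exact this
  have hrel : ∀ j, P.hom (P.rel j) = 0 := fun j => by
    change P.rel j ∈ RingHom.ker P.hom.toRingHom
    rw [P.ker_eq]; exact Ideal.subset_span ⟨j, rfl⟩
  have hcst : ∀ j, ∃ c, π ^ 4 * c = eval lam (P.rel j) := fun j => by
    have h : eval lam (P.rel j) ∈ Ideal.span {π ^ 4} := by
      rw [← Ideal.Quotient.eq_zero_iff_mem, hev, hrel, map_zero]
    obtain ⟨c, hc⟩ := Ideal.mem_span_singleton'.1 h
    exact ⟨c, by rw [mul_comm]; exact hc⟩
  choose cst hcst using hcst
  obtain ⟨u', hu'⟩ : ∃ u', u' * π ^ 4 = eval lam a0 - π := Ideal.mem_span_singleton'.1 (by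
    rw [← Ideal.Quotient.eq_zero_iff_mem, map_sub, hev, ha0, AlgHom.commutes]
    exact sub_self _)
  let d : DesingData R :=
    { pi := π, n := P.n, m := P.m, c := P.c, lead := Fin.castLE P.hcm, rel := P.rel, lam := lam
      a0 := a0, w := w, cst := cst, un := u'
      hw := hw, hcst := fun j => (hcst j).symm
      hun := by rw [mul_comm, hu']; ring
      hkill := fun j => by
        by_cases hj : P.c ≤ (j : ℕ)
        · refine (show Ideal.span (P.rel '' {j' : Fin P.m | (j' : ℕ) < P.c}) ⊔ Ideal.span (Set.range P.rel) ^ 2 ≤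
              Ideal.span (Set.range (P.rel ∘ Fin.castLE P.hcm)) ⊔ Ideal.span (Set.range P.rel) ^ 2 from
                sup_le_sup (Ideal.span_mono ?_) le_rfl) (hkill a0 ha0 j hj)
          rintro _ ⟨j', hj', rfl⟩
          exact ⟨⟨j', hj'⟩, congrArg P.rel (Fin.ext rfl)⟩
        · exact Submodule.mem_sup_left (Ideal.mul_mem_left _ _
            (Ideal.subset_span ⟨⟨j, not_le.1 hj⟩, congrArg P.rel (Fin.ext rfl)⟩))
      ha0 := by
        rw [← P.ker_eq, RingHom.mem_ker]
        change P.hom (a0 - C π) = 0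
        rw [map_sub, ha0, ← MvPolynomial.algebraMap_eq, AlgHom.commutes, sub_self] }
  choose μ hμ using fun l => Ideal.mem_span_singleton'.1 (hρ (P.hom (X l)) (lam l) (hlam l))
  obtain ⟨β0, hβ0, hβ0k⟩ := d.lift_rels hΛ (φ.comp P.hom) (fun j => by simp [d, hrel]) (fun l => -μ l) (fun l => by
    change φ (P.hom (X l)) = algebraMap R Λ (lam l) + algebraMap R Λ π ^ 4 * -μ l
    rw [← map_pow, mul_neg, ← sub_eq_add_neg, mul_comm, hμ]; ring)
  let B := MvPolynomial (Fin (d.c + d.n)) R ⧸ Ideal.span d.rels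
  let σ : MvPolynomial (Fin P.n) R →ₐ[R] B := (Ideal.Quotient.mkₐ R _).comp d.subst
  have hσ : ∀ p, P.hom.toRingHom p = 0 → σ p = 0 := fun p hp => by
    have hp' : p ∈ RingHom.ker P.hom.toRingHom := hp
    rw [P.ker_eq] at hp'
    exact Ideal.Quotient.eq_zero_iff_mem.2 (d.subst_span hp')
  let e := Ideal.quotientKerAlgEquivOfSurjective (f := P.hom) P.surj
  let α : A →ₐ[R] B := (Ideal.Quotient.liftₐ (RingHom.ker P.hom) σ hσ).comp e.symm.toAlgHom
  have hα : ∀ p, α (P.hom p) = σ p := fun p => by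
    change Ideal.Quotient.liftₐ (RingHom.ker P.hom) σ hσ (e.symm (P.hom p)) = σ p
    rw [show e.symm (P.hom p) = Ideal.Quotient.mk _ p from e.symm_apply_eq.2 rfl]
    rfl
  haveI hfp : Algebra.FinitePresentation R B :=
    Algebra.FinitePresentation.quotient (IsNoetherian.noetherian (Ideal.span d.rels))
  refine ⟨B, inferInstance, inferInstance, hfp, α, Ideal.Quotient.liftₐ _ β0 hβ0k, ?_, fun r hr => ?_⟩
  · refine AlgHom.ext fun a => ?_
    obtain ⟨p, rfl⟩ := P.surj a
    rw [AlgHom.comp_apply, hα]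
    exact AlgHom.congr_fun hβ0 p
  · rw [singularIdeal, PrimeSpectrum.mem_vanishingIdeal]
    intro x hx
    by_contra hrx
    exact hx (d.isSmoothAt r hr x.asIdeal hrx)

end Groth.Agent.SmoothingLib
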