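import Mathlib
import Groth.Prelude.Def_Smoothing
import Groth.Agent.SmoothingLib.BaseChange
import Groth.Agent.SmoothingLib.Desingularize

/-! Desingularization relative to an auxiliary algebra. -/

set_option autoImplicit false
universe u

noncomputable section

namespace Groth.Agent.SmoothingLib

open Smoothing TensorProduct

/-- Smoothness at primes composes. -/
theorem isSmoothAt_trans {R D B : Type u} [CommRing R] [CommRing D] [Algebra R D] [CommRing B] [Algebra R B]
    [Algebra D B] [IsScalarTower R D B] (Q : Ideal B) [Q.IsPrime]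
    (h1 : Algebra.IsSmoothAt R (Q.comap (algebraMap D B))) (h2 : Algebra.IsSmoothAt D Q) :
    Algebra.IsSmoothAt R Q := by
  haveI : (Q.comap (algebraMap D B)).IsPrime := Ideal.comap_isPrime _ _
  let L := Localization.AtPrime (Q.comap (algebraMap D B))
  let χ : L →+* Localization.AtPrime Q := Localization.localRingHom _ Q (algebraMap D B) rfl
  letI : Algebra L (Localization.AtPrime Q) := χ.toAlgebra
  haveI : IsScalarTower D L (Localization.AtPrime Q) := IsScalarTower.of_algebraMap_eq fun x => by
    rw [RingHom.algebraMap_toAlgebra, Localization.localRingHom_to_map]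
    exact IsScalarTower.algebraMap_apply D B (Localization.AtPrime Q) x
  haveI : IsScalarTower R L (Localization.AtPrime Q) := IsScalarTower.of_algebraMap_eq fun x => by
    rw [IsScalarTower.algebraMap_apply R D L, ← IsScalarTower.algebraMap_apply D L,
      ← IsScalarTower.algebraMap_apply R D]
  haveI : Algebra.FormallySmooth R L := h1
  haveI : Algebra.FormallySmooth D (Localization.AtPrime Q) := h2
  haveI : Algebra.FormallyEtale D L :=
    Algebra.FormallyEtale.of_isLocalization (Q.comap (algebraMap D B)).primeCompl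
  haveI : Algebra.FormallySmooth L (Localization.AtPrime Q) :=
    Algebra.FormallySmooth.of_restrictScalars D L (Localization.AtPrime Q)
  exact Algebra.FormallySmooth.comp R L (Localization.AtPrime Q)

/-- At a smooth point the annihilators agree after multiplying by some element outside the prime. -/
theorem exists_notMem_annihilator {R D : Type u} [CommRing R] [IsNoetherianRing R] [CommRing D] [Algebra R D]
    [Algebra.FinitePresentation R D] (π : R) (hR : ∀ r : R, π ^ 2 * r = 0 → π * r = 0)
    (q : PrimeSpectrum D) (hq : q ∈ Algebra.smoothLocus R D) :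
    ∃ s ∉ q.asIdeal, ∀ x : D, algebraMap R D π ^ 2 * x = 0 → algebraMap R D π * (s * x) = 0 := by
  classical
  haveI : IsNoetherianRing D := Algebra.FiniteType.isNoetherianRing R D
  obtain ⟨U, ⟨f, rfl⟩, hqf, hU⟩ :=
    PrimeSpectrum.isTopologicalBasis_basic_opens.exists_subset_of_mem_open hq Algebra.isOpen_smoothLocus
  haveI : Algebra.Smooth R (Localization.Away f) := Algebra.basicOpen_subset_smoothLocus_iff_smooth.1 hU
  let p := algebraMap R D π
  let N : Ideal D := LinearMap.ker (LinearMap.mulLeft D (p ^ 2))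
  obtain ⟨S, hS⟩ : N.FG := IsNoetherian.noetherian N
  have hex : ∀ g ∈ S, ∃ k : ℕ, f ^ k * (p * g) = 0 := by
    intro g hg
    have h1 : p ^ 2 * g = 0 := (show g ∈ N from hS ▸ Submodule.subset_span hg)
    have h2 : algebraMap R (Localization.Away f) (π ^ 2) * algebraMap D (Localization.Away f) g = 0 := by
      rw [IsScalarTower.algebraMap_apply R D (Localization.Away f), ← map_mul, map_pow]
      rw [h1, map_zero]
    have h3 := mul_eq_zero_of_flat π hR h2
    rw [IsScalarTower.algebraMap_apply R D (Localization.Away f), ← map_mul] at h3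
    obtain ⟨⟨_, k, rfl⟩, hk⟩ := (IsLocalization.map_eq_zero_iff (Submonoid.powers f) _ _).1 h3
    exact ⟨k, hk⟩
  choose k hk using hex
  refine ⟨f ^ (∑ g ∈ S.attach, k g.1 g.2), fun h => hqf (q.2.mem_of_pow_mem _ h), fun x hx => ?_⟩
  have hxN : x ∈ Submodule.span D (S : Set D) := by
    change x ∈ Ideal.span (S : Set D)
    rw [show Ideal.span (S : Set D) = N from hS]; exact hx
  refine Submodule.span_induction (fun g hg => ?_) (by simp) (fun a b _ _ ha hb => by
    rw [mul_add, mul_add, ha, hb, add_zero]) (fun c a _ ha => by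
    rw [smul_eq_mul, mul_left_comm _ c, mul_left_comm p c, ha, mul_zero]) hxN
  obtain ⟨d, hd⟩ := Nat.exists_eq_add_of_le (Finset.single_le_sum (fun j _ => Nat.zero_le (k j.1 j.2))
    (Finset.mem_attach S ⟨g, hg⟩))
  rw [hd, pow_add, mul_comm (f ^ k g hg), mul_assoc, mul_left_comm p, mul_left_comm p (f ^ k g hg), hk g hg, mul_zero]

/-- Desingularization with a strictly standard element, relative to an auxiliary algebra. -/
theorem desingularize_strictly_standard {R Λ A D : Type u} [CommRing R] [IsNoetherianRing R]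
    [CommRing Λ] [Algebra R Λ] (π : R) (hR : ∀ r : R, π ^ 2 * r = 0 → π * r = 0)
    (hΛ : ∀ x : Λ, π ^ 2 • x = 0 → π • x = 0) [CommRing A] [Algebra R A]
    [Algebra.FinitePresentation R A] [CommRing D] [Algebra R D] [Algebra.FinitePresentation R D]
    (φ : A →ₐ[R] Λ) (δ : D →ₐ[R] Λ) (hπ : Smoothing.IsStrictlyStandard R A (algebraMap R A π))
    (ψ : A →ₐ[R] D ⧸ Ideal.span {algebraMap R D (π ^ 4)})
    (hψ : ∀ (a : A) (d : D), Ideal.Quotient.mk (Ideal.span {algebraMap R D (π ^ 4)}) d = ψ a →
      δ d - φ a ∈ Ideal.span {algebraMap R Λ (π ^ 4)}) :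
    ∃ (B : Type u) (_ : CommRing B) (_ : Algebra R B) (_ : Algebra D B) (_ : IsScalarTower R D B),
      Algebra.FinitePresentation R B ∧
      ∃ (α : A →ₐ[R] B) (β : B →ₐ[R] Λ), β.comp α = φ ∧
        β.comp (IsScalarTower.toAlgHom R D B) = δ ∧
        (Smoothing.singularIdeal R D).map (algebraMap D B) ≤ Smoothing.singularIdeal D B ∧
        (Smoothing.singularIdeal R D).map (algebraMap D B) ≤ Smoothing.singularIdeal R B := by
  classical
  letI : Algebra D Λ := δ.toRingHom.toAlgebra
  haveI : IsScalarTower R D Λ := IsScalarTower.of_algebraMap_eq fun x => (δ.commutes x).symm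
  haveI : IsNoetherianRing D := Algebra.FiniteType.isNoetherianRing R D
  let p := algebraMap R D π
  let φD : D ⊗[R] A →ₐ[D] Λ := Algebra.TensorProduct.lift (Algebra.ofId D Λ) φ (fun _ _ => Commute.all _ _)
  have hstd : IsStrictlyStandard D (D ⊗[R] A) (algebraMap D (D ⊗[R] A) p) := by
    have h := isStrictlyStandard_baseChange D hπ
    have e : ((1 : D) ⊗ₜ[R] algebraMap R A π) = algebraMap D (D ⊗[R] A) p := by
      rw [← IsScalarTower.algebraMap_apply R D (D ⊗[R] A)]
      exact ((Algebra.TensorProduct.includeRight (R := R) (A := D) (B := A)).commutes π)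
    rwa [e] at h
  have hspan : Ideal.span {algebraMap R D (π ^ 4)} = Ideal.span {p ^ 4} := by rw [map_pow]
  let ψ' : A →ₐ[R] D ⧸ Ideal.span {p ^ 4} := (Ideal.quotientEquivAlgOfEq R hspan).toAlgHom.comp ψ
  let ρ : D ⊗[R] A →ₐ[D] D ⧸ Ideal.span {p ^ 4} :=
    Algebra.TensorProduct.lift (Algebra.ofId D _) ψ' (fun _ _ => Commute.all _ _)
  have hp4 : algebraMap D Λ (p ^ 4) = algebraMap R Λ (π ^ 4) := by
    rw [← map_pow, ← IsScalarTower.algebraMap_apply R D Λ]
  have hρ : ∀ (a : D ⊗[R] A) (d : D), Ideal.Quotient.mk (Ideal.span {p ^ 4}) d = ρ a →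
      algebraMap D Λ d - φD a ∈ Ideal.span {algebraMap D Λ (p ^ 4)} := by
    intro a d hd
    have hex : ∃ e, Ideal.Quotient.mk (Ideal.span {p ^ 4}) e = ρ a ∧
        algebraMap D Λ e - φD a ∈ Ideal.span {algebraMap D Λ (p ^ 4)} := by
      clear hd
      induction a using TensorProduct.induction_on with
      | zero => exact ⟨0, by simp, by simp⟩
      | tmul x a =>
        obtain ⟨e, he⟩ := Ideal.Quotient.mk_surjective (ψ a)
        refine ⟨x * e, ?_, ?_⟩
        · change _ = Algebra.ofId D _ x * ψ' a
          rw [map_mul]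
          congr 1
          change _ = Ideal.quotientEquivAlgOfEq R hspan (ψ a)
          rw [← he]
          exact (Ideal.quotientEquivAlgOfEq_mk R hspan e).symm
        · change algebraMap D Λ (x * e) - algebraMap D Λ x * φ a ∈ _
          rw [map_mul, ← mul_sub, hp4]
          exact Ideal.mul_mem_left _ _ (hψ a e he)
      | add a b ha hb =>
        obtain ⟨e, he, he'⟩ := ha
        obtain ⟨e2, he2, he2'⟩ := hb
        refine ⟨e + e2, by rw [map_add, he, he2, map_add], ?_⟩
        rw [map_add, map_add, add_sub_add_comm]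
        exact add_mem he' he2'
    obtain ⟨e, he, he'⟩ := hex
    obtain ⟨t, ht⟩ := Ideal.mem_span_singleton'.1 (Ideal.Quotient.eq.1 (hd.trans he.symm))
    rw [show algebraMap D Λ d - φD a = algebraMap D Λ t * algebraMap D Λ (p ^ 4) + (algebraMap D Λ e - φD a) by
      rw [← map_mul, ht, map_sub]; ring]
    exact add_mem (Ideal.mul_mem_left _ _ (Ideal.mem_span_singleton_self _)) he'
  have hΛ' : ∀ x : Λ, p ^ 2 • x = 0 → p • x = 0 := by
    intro x hx
    rw [← map_pow, algebraMap_smul] at hx
    rw [algebraMap_smul]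
    exact hΛ x hx
  obtain ⟨B, _, _, hBfp, α, β, hcomp, hsing⟩ := desingularize p hΛ' φD hstd ρ hρ
  letI : Algebra R B := Algebra.compHom B (algebraMap R D)
  haveI : IsScalarTower R D B := IsScalarTower.of_algebraMap_eq fun x => rfl
  have hDB : ∀ x ∈ singularIdeal R D, algebraMap D B x ∈ singularIdeal D B := by
    intro x hx
    rw [singularIdeal, PrimeSpectrum.mem_vanishingIdeal] at hx ⊢
    intro Q hQ
    by_contra hxQ
    have hq : (⟨Q.asIdeal.comap (algebraMap D B), Ideal.comap_isPrime _ _⟩ : PrimeSpectrum D) ∈ Algebra.smoothLocus R D := by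
      by_contra h
      exact hxQ (hx _ h)
    obtain ⟨s, hs, hs'⟩ := exists_notMem_annihilator π hR _ hq
    have := hsing s hs'
    rw [singularIdeal, PrimeSpectrum.mem_vanishingIdeal] at this
    exact hs (this Q hQ)
  refine ⟨B, inferInstance, inferInstance, inferInstance, inferInstance, Algebra.FinitePresentation.trans R D B,
    (α.restrictScalars R).comp Algebra.TensorProduct.includeRight, β.restrictScalars R, ?_, ?_, ?_, ?_⟩
  · refine AlgHom.ext fun a => ?_
    exact (AlgHom.congr_fun hcomp ((1 : D) ⊗ₜ[R] a)).trans (by simp [φD])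
  · exact AlgHom.ext fun x => β.commutes x
  · rw [Ideal.map_le_iff_le_comap]
    exact hDB
  · rw [Ideal.map_le_iff_le_comap]
    intro x hx
    rw [Ideal.mem_comap, singularIdeal, PrimeSpectrum.mem_vanishingIdeal]
    intro Q hQ
    by_contra hxQ
    refine hQ (isSmoothAt_trans (D := D) Q.asIdeal ?_ ?_)
    · by_contra h
      rw [singularIdeal, PrimeSpectrum.mem_vanishingIdeal] at hx
      exact hxQ (hx ⟨Q.asIdeal.comap (algebraMap D B), Ideal.comap_isPrime _ _⟩ h)
    · by_contra h
      have := hDB x hx
      rw [singularIdeal, PrimeSpectrum.mem_vanishingIdeal] at this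
      exact hxQ (this Q h)

end Groth.Agent.SmoothingLib
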