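import Mathlib
import Groth.Prelude.Def_Smoothing
import Groth.Agent.SmoothingLib.DesingStd

/-! Descending a local resolution and gluing it with the smooth locus. -/

set_option autoImplicit false
universe u

noncomputable section

namespace Groth.Agent.SmoothingLib

open Smoothing MvPolynomial IsLocalRing

variable {R : Type u} [CommRing R]

/-- `e` is a fraction of images with denominator in `U`. -/
def IsFrac {P E : Type u} [CommRing P] [CommRing E] (θ : P →+* E) (U : Submonoid P) (e : E) : Prop :=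
  ∃ p, ∃ w ∈ U, θ p = e * θ w

section frac

variable {P E : Type u} [CommRing P] [CommRing E] {θ : P →+* E} {U : Submonoid P}

theorem IsFrac.image (p : P) : IsFrac θ U (θ p) := ⟨p, 1, U.one_mem, by rw [map_one, mul_one]⟩

theorem IsFrac.of_mul {e : E} {p w : P} (hw : w ∈ U) (h : θ p = e * θ w) : IsFrac θ U e := ⟨p, w, hw, h⟩

theorem IsFrac.mul {a b : E} (ha : IsFrac θ U a) (hb : IsFrac θ U b) : IsFrac θ U (a * b) := by
  obtain ⟨p, w, hw, hp⟩ := ha
  obtain ⟨q, v, hv, hq⟩ := hb
  exact ⟨p * q, w * v, U.mul_mem hw hv, by rw [map_mul, map_mul, hp, hq]; ring⟩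

theorem IsFrac.add {a b : E} (ha : IsFrac θ U a) (hb : IsFrac θ U b) : IsFrac θ U (a + b) := by
  obtain ⟨p, w, hw, hp⟩ := ha
  obtain ⟨q, v, hv, hq⟩ := hb
  exact ⟨p * v + q * w, w * v, U.mul_mem hw hv, by rw [map_add, map_mul, map_mul, map_mul, hp, hq]; ring⟩

/-- If every element of the ring is a fraction, so is every element of its localization at a prime. -/
theorem IsFrac.localization {M : Type u} [CommRing M] (Q : Ideal M) [Q.IsPrime]
    {θ : P →+* Localization.AtPrime Q}
    (h : ∀ m : M, IsFrac θ ((IsUnit.submonoid _).comap θ) (algebraMap M _ m)) (e : Localization.AtPrime Q) :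
    IsFrac θ ((IsUnit.submonoid _).comap θ) e := by
  obtain ⟨⟨u, v⟩, huv⟩ := IsLocalization.surj Q.primeCompl e
  obtain ⟨p, w, hw, hp⟩ := h u
  obtain ⟨q, z, hz, hq⟩ := h (v : M)
  have hqu : q ∈ (IsUnit.submonoid (Localization.AtPrime Q)).comap θ := by
    change IsUnit (θ q)
    rw [hq]
    exact (IsLocalization.map_units _ v).mul hz
  refine ⟨p * z, w * q, Submonoid.mul_mem _ hw hqu, ?_⟩
  rw [map_mul, map_mul, hp, hq, ← huv]
  ring

end frac

/-- A local model with fractions gives a smooth point. -/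
theorem isSmoothAt_of_fractions {B E : Type u} [CommRing B] [Algebra R B] [CommRing E] [IsLocalRing E]
    [Algebra R E] [Algebra.FormallySmooth R E] (θ : B →ₐ[R] E)
    (hfrac : ∀ e, IsFrac θ.toRingHom ((IsUnit.submonoid E).comap θ.toRingHom) e)
    (hker : ∀ k, θ k = 0 → ∃ w, IsUnit (θ w) ∧ w * k = 0) (Q : Ideal B) [Q.IsPrime]
    (hQ : ∀ b, b ∈ Q ↔ ¬ IsUnit (θ b)) : Algebra.IsSmoothAt R Q := by
  letI : Algebra B E := θ.toRingHom.toAlgebra
  haveI : IsScalarTower R B E := IsScalarTower.of_algebraMap_eq fun r => (θ.commutes r).symm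
  haveI : IsLocalization Q.primeCompl E := by
    rw [isLocalization_iff]
    refine ⟨fun y => ?_, fun e => ?_, fun {x y} h => ?_⟩
    · have h := y.2
      change (y : B) ∉ Q at h
      rw [hQ, not_not] at h
      exact h
    · obtain ⟨p, w, hw, hp⟩ := hfrac e
      have hw' : w ∈ Q.primeCompl := by
        change w ∉ Q
        rw [hQ, not_not]
        exact hw
      exact ⟨(p, ⟨w, hw'⟩), hp.symm⟩
    · obtain ⟨w, hw, hwk⟩ := hker (x - y) (by rw [map_sub]; exact sub_eq_zero.2 h)
      refine ⟨⟨w, show w ∉ Q by rw [hQ, not_not]; exact hw⟩, ?_⟩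
      rw [mul_sub, sub_eq_zero] at hwk
      exact hwk
  exact Algebra.FormallySmooth.of_equiv
    ((IsLocalization.algEquiv Q.primeCompl E (Localization.AtPrime Q)).restrictScalars R)

/-- A local model of a quotient gives a smooth point. -/
theorem isSmoothAt_quotient_of_fractions {P E : Type u} [CommRing P] [Algebra R P] [CommRing E] [IsLocalRing E]
    [Algebra R E] [Algebra.FormallySmooth R E] (Θ : P →ₐ[R] E) (L : Ideal P) (hL : ∀ x ∈ L, Θ x = 0)
    (hfrac : ∀ e, IsFrac Θ.toRingHom ((IsUnit.submonoid E).comap Θ.toRingHom) e)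
    (hker : ∀ k, Θ k = 0 → ∃ w, IsUnit (Θ w) ∧ w * k ∈ L) (Q : Ideal (P ⧸ L)) [Q.IsPrime]
    (hQ : ∀ p, Ideal.Quotient.mk L p ∈ Q ↔ ¬ IsUnit (Θ p)) : Algebra.IsSmoothAt R Q := by
  refine isSmoothAt_of_fractions (Ideal.Quotient.liftₐ L Θ hL) (fun e => ?_) (fun k hk => ?_) Q (fun b => ?_)
  · obtain ⟨p, w, hw, hp⟩ := hfrac e
    exact ⟨Ideal.Quotient.mk L p, Ideal.Quotient.mk L w, hw, hp⟩
  · obtain ⟨k, rfl⟩ := Ideal.Quotient.mk_surjective k
    obtain ⟨w, hw, hwk⟩ := hker k hk
    exact ⟨Ideal.Quotient.mk L w, hw, by rw [← map_mul]; exact Ideal.Quotient.eq_zero_iff_mem.2 hwk⟩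
  · obtain ⟨b, rfl⟩ := Ideal.Quotient.mk_surjective b
    exact hQ b

/-- Lifting a map to a local ring to the localization at the preimage of the maximal ideal. -/
theorem exists_atPrime_lift {M L : Type u} [CommRing M] [Algebra R M] [CommRing L] [IsLocalRing L] [Algebra R L]
    (f : M →ₐ[R] L) (Q : Ideal M) [Q.IsPrime] (hQ : ∀ m, m ∈ Q ↔ ¬ IsUnit (f m)) :
    ∃ h : Localization.AtPrime Q →ₐ[R] L, (∀ m, h (algebraMap M _ m) = f m) ∧ ∀ e, IsUnit (h e) → IsUnit e := by
  have hu : ∀ y : Q.primeCompl, IsUnit (f y) := fun y => by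
    by_contra h
    exact y.2 ((hQ _).2 h)
  let h := IsLocalization.liftAlgHom (A := R) (S := Localization.AtPrime Q) (f := f) hu
  have h1 : ∀ m, h (algebraMap M _ m) = f m := fun m => IsLocalization.lift_eq _ m
  refine ⟨h, h1, fun e he => ?_⟩
  obtain ⟨⟨u, v⟩, huv⟩ := IsLocalization.surj Q.primeCompl e
  have h2 : IsUnit (f u) := by
    rw [← h1, ← huv, map_mul, h1]
    exact he.mul (hu v)
  have h3 : IsUnit (algebraMap M (Localization.AtPrime Q) u) :=
    IsLocalization.map_units (Localization.AtPrime Q) (⟨u, fun hm => (hQ u).1 hm h2⟩ : Q.primeCompl)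
  rw [← huv] at h3
  exact isUnit_of_mul_isUnit_left h3

/-- A smooth point over `𝔮` gives an element of the singular ideal not mapping into `𝔮`. -/
theorem not_map_singularIdeal_le {B Λ : Type u} [CommRing B] [Algebra R B] [Algebra.FinitePresentation R B]
    [CommRing Λ] [Algebra R Λ] (h : B →ₐ[R] Λ) (𝔮 : Ideal Λ) [𝔮.IsPrime]
    (hsm : Algebra.IsSmoothAt R (𝔮.comap h.toRingHom)) : ¬ (singularIdeal R B).map h ≤ 𝔮 := by
  intro hle
  obtain ⟨_, ⟨f, rfl⟩, hf, hsub⟩ := PrimeSpectrum.isTopologicalBasis_basic_opens.exists_subset_of_mem_open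
    (show (⟨𝔮.comap h.toRingHom, Ideal.comap_isPrime _ _⟩ : PrimeSpectrum B) ∈ Algebra.smoothLocus R B from hsm)
    Algebra.isOpen_smoothLocus
  refine hf (hle (Ideal.mem_map_of_mem _ ?_))
  rw [singularIdeal, PrimeSpectrum.mem_vanishingIdeal]
  intro Q hQ
  by_contra hfQ
  exact hQ (hsub hfQ)

/-- Smoothness of a polynomial algebra at a prime. -/
theorem isSmoothAt_poly {D M : Type u} [CommRing D] [Algebra R D] [CommRing M] [Algebra R M] [Algebra D M]
    [IsScalarTower R D M] [Algebra.FormallySmooth D M] (Q : Ideal M) [Q.IsPrime]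
    (h : Algebra.IsSmoothAt R (Q.comap (algebraMap D M))) : Algebra.IsSmoothAt R Q := by
  refine isSmoothAt_trans Q h ?_
  exact (inferInstance : Algebra.FormallySmooth D (Localization Q.primeCompl))

/-- Descent of a smooth point along a local model. -/
theorem exists_smoothAt_of_model {Λ Λq P0 E0 : Type u} [IsNoetherianRing R] [CommRing Λ] [Algebra R Λ]
    (𝔮 : Ideal Λ) [𝔮.IsPrime] [CommRing Λq] [Algebra Λ Λq] [IsLocalization.AtPrime Λq 𝔮] [Algebra R Λq]
    [IsScalarTower R Λ Λq] [IsLocalRing Λq] [CommRing P0] [Algebra R P0] [Algebra.FinitePresentation R P0]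
    [CommRing E0] [Algebra R E0] [Algebra.FormallySmooth R E0]
    (Θ0 : P0 →ₐ[R] E0) (χ0 : P0 →ₐ[R] Λ) (h0 : E0 →ₐ[R] Λq)
    (hcompat : ∀ p, h0 (Θ0 p) = algebraMap Λ Λq (χ0 p))
    (hfrac0 : ∀ e, IsFrac Θ0.toRingHom ((IsUnit.submonoid E0).comap Θ0.toRingHom) e) :
    ∃ (D : Type u) (_ : CommRing D) (_ : Algebra R D), Algebra.FinitePresentation R D ∧
      ∃ (α : P0 →ₐ[R] D) (β : D →ₐ[R] Λ), β.comp α = χ0 ∧ Algebra.IsSmoothAt R (𝔮.comap β.toRingHom) := by
  classical
  -- annihilate the kernel
  haveI : IsNoetherianRing P0 := Algebra.FiniteType.isNoetherianRing R P0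
  obtain ⟨G, hG⟩ : (RingHom.ker Θ0.toRingHom).FG := IsNoetherian.noetherian _
  have hex : ∀ k ∈ G, ∃ s : 𝔮.primeCompl, (s : Λ) * χ0 k = 0 := fun k hk => by
    have hk0 : k ∈ RingHom.ker Θ0.toRingHom := hG ▸ Submodule.subset_span hk
    refine (IsLocalization.map_eq_zero_iff 𝔮.primeCompl Λq _).1 ?_
    rw [← hcompat, show Θ0 k = 0 from hk0, map_zero]
  choose sk hsk using hex
  let s : Λ := ((∏ k ∈ G.attach, sk k.1 k.2 : 𝔮.primeCompl) : Λ)
  have hsq : s ∉ 𝔮 := (∏ k ∈ G.attach, sk k.1 k.2 : 𝔮.primeCompl).2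
  have hkill : ∀ k, Θ0 k = 0 → s * χ0 k = 0 := by
    intro k hk
    have hk' : k ∈ Submodule.span _ (G : Set P0) := hG.symm ▸ (show k ∈ RingHom.ker Θ0.toRingHom from hk)
    refine Submodule.span_induction (fun x hx => ?_) (by simp) (fun a c _ _ ha hc => by
      rw [map_add, mul_add, ha, hc, add_zero]) (fun a x _ hx => by
      rw [smul_eq_mul, map_mul, mul_left_comm, hx, mul_zero]) hk'
    obtain ⟨d, hd⟩ : sk x hx ∣ ∏ k ∈ G.attach, sk k.1 k.2 :=
      Finset.dvd_prod_of_mem (fun k : {k // k ∈ G} => sk k.1 k.2) (Finset.mem_attach G ⟨x, hx⟩)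
    simp only [s, hd, Submonoid.coe_mul]
    rw [mul_comm (sk x hx : Λ), mul_assoc, hsk x hx, mul_zero]
  -- second local model
  letI : Algebra E0 Λq := h0.toRingHom.toAlgebra
  haveI : IsScalarTower R E0 Λq := IsScalarTower.of_algebraMap_eq fun r => (h0.commutes r).symm
  let ev2 : Polynomial E0 →ₐ[R] Λq :=
    (Polynomial.aeval (algebraMap Λ Λq s) : Polynomial E0 →ₐ[E0] Λq).restrictScalars R
  let p2 : Ideal (Polynomial E0) := (maximalIdeal Λq).comap ev2.toRingHom
  haveI : p2.IsPrime := Ideal.comap_isPrime _ _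
  have hp2 : ∀ m, m ∈ p2 ↔ ¬ IsUnit (ev2 m) := fun m => Iff.rfl
  obtain ⟨h1, hh1, hh1u⟩ := exists_atPrime_lift ev2 p2 hp2
  let E := Localization.AtPrime p2
  haveI : Algebra.FormallySmooth R E := Algebra.FormallySmooth.comp R E0 E
  let ψ : Polynomial P0 →ₐ[R] Polynomial E0 := Polynomial.mapAlgHom Θ0
  let Θ : Polynomial P0 →ₐ[R] E :=
    (IsScalarTower.toAlgHom R (Polynomial E0) E).comp ψ
  let χ : Polynomial P0 →ₐ[R] Λ :=
    { toRingHom := Polynomial.eval₂RingHom χ0.toRingHom s
      commutes' := fun r => by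
        change Polynomial.eval₂ χ0.toRingHom s (Polynomial.C (algebraMap R _ r)) = _
        rw [Polynomial.eval₂_C]
        exact χ0.commutes r }
  have hcompat2 : ∀ p, h1 (Θ p) = algebraMap Λ Λq (χ p) := by
    intro p
    change h1 (algebraMap (Polynomial E0) E (ψ p)) = _
    rw [hh1]
    induction p using Polynomial.induction_on with
    | C a =>
      change Polynomial.aeval (algebraMap Λ Λq s) (Polynomial.map Θ0.toRingHom (Polynomial.C a)) =
        algebraMap Λ Λq (Polynomial.eval₂ χ0.toRingHom s (Polynomial.C a))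
      rw [Polynomial.map_C, Polynomial.aeval_C, Polynomial.eval₂_C]
      exact hcompat a
    | add p q hp hq => simp only [map_add, hp, hq]
    | monomial k c hc =>
      rw [pow_succ, ← mul_assoc, map_mul ψ, map_mul ev2, hc, map_mul χ (Polynomial.C c * Polynomial.X ^ k) Polynomial.X,
        map_mul (algebraMap Λ Λq)]
      congr 1
      change Polynomial.aeval (algebraMap Λ Λq s) (Polynomial.map Θ0.toRingHom Polynomial.X) =
        algebraMap Λ Λq (Polynomial.eval₂ χ0.toRingHom s Polynomial.X)
      rw [Polynomial.map_X, Polynomial.aeval_X, Polynomial.eval₂_X]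
  let Uψ : Submonoid (Polynomial P0) := (IsUnit.submonoid _).comap ψ.toRingHom
  have hfracψ : ∀ m, IsFrac ψ.toRingHom Uψ m := by
    have hC : ∀ e, IsFrac ψ.toRingHom Uψ (Polynomial.C e) := fun e => by
      obtain ⟨p, w, hw, hp⟩ := hfrac0 e
      refine IsFrac.of_mul (p := Polynomial.C p) (w := Polynomial.C w) ?_ ?_
      · change IsUnit (Polynomial.map Θ0.toRingHom (Polynomial.C w))
        rw [Polynomial.map_C]
        exact (show IsUnit (Θ0.toRingHom w) from hw).map Polynomial.C
      · change Polynomial.map Θ0.toRingHom (Polynomial.C p) =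
          Polynomial.C e * Polynomial.map Θ0.toRingHom (Polynomial.C w)
        rw [Polynomial.map_C, Polynomial.map_C, ← map_mul, hp]
    intro m
    induction m using Polynomial.induction_on with
    | C c => exact hC c
    | add p q hp hq => exact hp.add hq
    | monomial k c hc =>
      rw [pow_succ, ← mul_assoc]
      refine hc.mul ⟨Polynomial.X, 1, Uψ.one_mem, ?_⟩
      rw [map_one, mul_one]
      exact Polynomial.map_X _
  have hfrac : ∀ e, IsFrac Θ.toRingHom ((IsUnit.submonoid E).comap Θ.toRingHom) e :=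
    IsFrac.localization p2 fun m => by
      obtain ⟨p, w, hw, hp⟩ := hfracψ m
      refine IsFrac.of_mul (p := p) (w := w) ?_ ?_
      · exact (show IsUnit (ψ.toRingHom w) from hw).map (algebraMap (Polynomial E0) E)
      · exact (congrArg (algebraMap (Polynomial E0) E) hp).trans (map_mul _ _ _)
  let L : Ideal (Polynomial P0) := RingHom.ker Θ ⊓ RingHom.ker χ
  haveI : Algebra.FinitePresentation R (Polynomial P0) :=
    Algebra.FinitePresentation.trans R P0 _
  haveI : IsNoetherianRing (Polynomial P0) := inferInstance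
  refine ⟨Polynomial P0 ⧸ L, inferInstance, inferInstance,
    Algebra.FinitePresentation.quotient (IsNoetherian.noetherian L),
    (Ideal.Quotient.mkₐ R L).comp (IsScalarTower.toAlgHom R P0 _),
    Ideal.Quotient.liftₐ L χ (fun x hx => hx.2), ?_, ?_⟩
  · refine AlgHom.ext fun a => ?_
    change Polynomial.eval₂ χ0.toRingHom s (Polynomial.C a) = χ0 a
    rw [Polynomial.eval₂_C]
    rfl
  · refine isSmoothAt_quotient_of_fractions Θ L (fun x hx => hx.1) hfrac (fun k hk => ?_) _ fun p => ?_
    · obtain ⟨⟨m, hm⟩, hmk⟩ := (IsLocalization.map_eq_zero_iff p2.primeCompl E (ψ k)).1 hk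
      obtain ⟨p, w, hw, hp⟩ := hfracψ m
      have hpk : ψ (p * k) = 0 := by
        rw [map_mul, show ψ p = m * ψ w from hp, mul_right_comm, hmk, zero_mul]
      refine ⟨Polynomial.X * p, ?_, ?_, ?_⟩
      · refine hh1u _ ?_
        rw [hcompat2, map_mul, map_mul]
        refine IsUnit.mul ?_ ?_
        · change IsUnit (algebraMap Λ Λq (Polynomial.eval₂ χ0.toRingHom s Polynomial.X))
          rw [Polynomial.eval₂_X]
          exact IsLocalization.map_units Λq (⟨s, hsq⟩ : 𝔮.primeCompl)
        · rw [← hcompat2]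
          refine IsUnit.map h1 ?_
          change IsUnit (algebraMap (Polynomial E0) E (ψ p))
          rw [show ψ p = m * ψ w from hp, map_mul]
          exact (IsLocalization.map_units E (⟨m, hm⟩ : p2.primeCompl)).mul ((show IsUnit (ψ.toRingHom w) from hw).map _)
      · change Θ (Polynomial.X * p * k) = 0
        rw [mul_assoc, map_mul]
        rw [show Θ (p * k) = 0 from by
          change algebraMap (Polynomial E0) E (ψ (p * k)) = 0
          rw [hpk, map_zero], mul_zero]
      · change χ (Polynomial.X * p * k) = 0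
        rw [mul_assoc, map_mul]
        change Polynomial.eval₂ χ0.toRingHom s Polynomial.X * Polynomial.eval₂ χ0.toRingHom s (p * k) = 0
        rw [Polynomial.eval₂_X, Polynomial.eval₂_eq_sum, Polynomial.sum_def, Finset.mul_sum]
        refine Finset.sum_eq_zero fun i _ => ?_
        have hcoef : Θ0 ((p * k).coeff i) = 0 := by
          have := congrArg (fun q => Polynomial.coeff q i) hpk
          simp only [Polynomial.coeff_zero] at this
          rw [← this]
          exact (Polynomial.coeff_map Θ0.toRingHom i).symm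
        rw [← mul_assoc]
        change s * χ0 _ * _ = 0
        rw [hkill _ hcoef, zero_mul]
    · change χ p ∈ 𝔮 ↔ _
      constructor
      · intro hp hu
        have := hu.map h1
        rw [hcompat2, IsLocalization.AtPrime.isUnit_to_map_iff Λq 𝔮] at this
        exact this hp
      · intro hu
        by_contra hp
        refine hu (hh1u _ ?_)
        rw [hcompat2, IsLocalization.AtPrime.isUnit_to_map_iff Λq 𝔮]
        exact hp

/-- Descent of a smooth point from a localization of the base. -/
theorem exists_smoothAt_of_local {A Λ Rₚ Λq C : Type u} [IsNoetherianRing R] [CommRing A] [Algebra R A]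
    [Algebra.FinitePresentation R A] [CommRing Λ] [Algebra R Λ] (φ : A →ₐ[R] Λ) (𝔮 : Ideal Λ) [𝔮.IsPrime]
    [CommRing Rₚ] [Algebra R Rₚ] (S : Submonoid R) [IsLocalization S Rₚ] [CommRing Λq] [Algebra Λ Λq]
    [IsLocalization.AtPrime Λq 𝔮] [Algebra R Λq] [IsScalarTower R Λ Λq]
    [CommRing C] [Algebra R C] [Algebra Rₚ C] [IsScalarTower R Rₚ C] [Algebra.FiniteType Rₚ C]
    (g : A →ₐ[R] C) (h : C →ₐ[R] Λq) (hcomp : ∀ a, h (g a) = algebraMap Λ Λq (φ a))
    (hsm : ∀ (qC : Ideal C) [qC.IsPrime], (∀ c, c ∈ qC ↔ ¬ IsUnit (h c)) → Algebra.IsSmoothAt R qC) :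
    ∃ (D : Type u) (_ : CommRing D) (_ : Algebra R D), Algebra.FinitePresentation R D ∧
      ∃ (α : A →ₐ[R] D) (β : D →ₐ[R] Λ), β.comp α = φ ∧ Algebra.IsSmoothAt R (𝔮.comap β.toRingHom) := by
  classical
  haveI : IsLocalRing Λq := IsLocalization.AtPrime.isLocalRing Λq 𝔮
  haveI : IsNoetherianRing A := Algebra.FiniteType.isNoetherianRing R A
  obtain ⟨n, πC, hπC⟩ := Algebra.FiniteType.iff_quotient_mvPolynomial''.1 (inferInstance : Algebra.FiniteType Rₚ C)
  obtain ⟨b, hb⟩ := IsLocalization.exist_integer_multiples_of_finite 𝔮.primeCompl (S := Λq) fun l => h (πC (X l))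
  choose ν hν using hb
  -- first local model
  letI : Algebra C Λq := h.toRingHom.toAlgebra
  haveI : IsScalarTower R C Λq := IsScalarTower.of_algebraMap_eq fun r => (h.commutes r).symm
  let lam : Λq := algebraMap Λ Λq (b : Λ)
  have hlam : IsUnit lam := IsLocalization.map_units Λq b
  let ev : Polynomial C →ₐ[R] Λq := (Polynomial.aeval lam : Polynomial C →ₐ[C] Λq).restrictScalars R
  let p1 : Ideal (Polynomial C) := (maximalIdeal Λq).comap ev.toRingHom
  haveI : p1.IsPrime := Ideal.comap_isPrime _ _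
  obtain ⟨h0, hh0, hh0u⟩ := exists_atPrime_lift ev p1 fun m => Iff.rfl
  have hsm0 : Algebra.IsSmoothAt R p1 := by
    haveI : (p1.comap (algebraMap C (Polynomial C))).IsPrime := Ideal.comap_isPrime _ _
    refine isSmoothAt_poly p1 (hsm _ fun c => ?_)
    change ¬ IsUnit (ev (Polynomial.C c)) ↔ _
    simp [ev, RingHom.algebraMap_toAlgebra]
  let E0 := Localization.AtPrime p1
  haveI : Algebra.FormallySmooth R E0 := hsm0
  let toE : Polynomial C →ₐ[R] E0 := IsScalarTower.toAlgHom R (Polynomial C) E0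
  let ιC : C →ₐ[R] E0 := toE.comp (IsScalarTower.toAlgHom R C (Polynomial C))
  let T : E0 := toE Polynomial.X
  have hT : IsUnit T := hh0u _ (by
    change IsUnit (h0 (algebraMap (Polynomial C) E0 Polynomial.X))
    rw [hh0]
    simpa [ev] using hlam)
  let Θ0 : MvPolynomial (Option (Fin n)) A →ₐ[R] E0 :=
    aevalTower (ιC.comp g) (fun o => o.elim T fun l => T * ιC (πC (X l)))
  let χ0 : MvPolynomial (Option (Fin n)) A →ₐ[R] Λ := aevalTower φ (fun o => o.elim (b : Λ) ν)
  have hιC : ∀ c, h0 (ιC c) = h c := fun c => by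
    change h0 (algebraMap (Polynomial C) E0 (Polynomial.C c)) = h c
    rw [hh0]
    simp [ev, RingHom.algebraMap_toAlgebra]
  have hTlam : h0 T = lam := by
    change h0 (algebraMap (Polynomial C) E0 Polynomial.X) = lam
    rw [hh0]
    simp [ev]
  have hcompat : ∀ p, h0 (Θ0 p) = algebraMap Λ Λq (χ0 p) := by
    intro p
    induction p using MvPolynomial.induction_on with
    | C a => simp only [Θ0, χ0, aevalTower_C, AlgHom.comp_apply, hιC, hcomp]
    | add p q hp hq => simp only [map_add, hp, hq]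
    | mul_X p o hp =>
      rw [map_mul, map_mul, map_mul, map_mul, hp]
      congr 1
      simp only [Θ0, χ0, aevalTower_X]
      cases o with
      | none => exact hTlam
      | some l =>
        rw [Option.elim_some, Option.elim_some, map_mul, hTlam, hιC, hν, Algebra.smul_def]
  let U0 : Submonoid (MvPolynomial (Option (Fin n)) A) := (IsUnit.submonoid E0).comap Θ0.toRingHom
  have hR0 : ∀ r : R, IsFrac Θ0.toRingHom U0 (algebraMap R E0 r) := fun r => by
    rw [show algebraMap R E0 r = Θ0.toRingHom (algebraMap R _ r) from (Θ0.commutes r).symm]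
    exact IsFrac.image _
  have hC0 : ∀ c, IsFrac Θ0.toRingHom U0 (ιC c) := by
    intro c
    obtain ⟨q, rfl⟩ := hπC c
    induction q using MvPolynomial.induction_on with
    | C x =>
      obtain ⟨⟨r, s⟩, hrs⟩ := IsLocalization.surj S x
      have hs : IsUnit (ιC (algebraMap Rₚ C (algebraMap R Rₚ (s : R)))) :=
        ((IsLocalization.map_units Rₚ s).map (algebraMap Rₚ C)).map ιC
      refine IsFrac.of_mul (p := algebraMap R _ r) (w := algebraMap R _ (s : R)) ?_ ?_
      · change IsUnit (Θ0 (algebraMap R _ (s : R)))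
        rw [AlgHom.commutes, ← ιC.commutes, IsScalarTower.algebraMap_apply R Rₚ C]
        exact hs
      · change Θ0 (algebraMap R _ r) = ιC (πC (MvPolynomial.C x)) * Θ0 (algebraMap R _ (s : R))
        rw [AlgHom.commutes, AlgHom.commutes, ← MvPolynomial.algebraMap_eq, AlgHom.commutes, ← ιC.commutes,
          ← ιC.commutes (s : R), ← map_mul, IsScalarTower.algebraMap_apply R Rₚ C,
          IsScalarTower.algebraMap_apply R Rₚ C, ← map_mul, hrs]
    | add p q hp hq => rw [map_add, map_add]; exact hp.add hq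
    | mul_X p l hp =>
      rw [map_mul, map_mul]
      refine hp.mul (IsFrac.of_mul (p := X (some l)) (w := X none) ?_ ?_)
      · change IsUnit (Θ0 (X none))
        simpa [Θ0] using hT
      · change Θ0 (X (some l)) = ιC (πC (X l)) * Θ0 (X none)
        simp [Θ0, mul_comm]
  have hfrac0 : ∀ e, IsFrac Θ0.toRingHom U0 e := IsFrac.localization p1 fun m => by
    change IsFrac Θ0.toRingHom U0 (toE m)
    induction m using Polynomial.induction_on with
    | C c => exact hC0 c
    | add p q hp hq => rw [map_add]; exact hp.add hq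
    | monomial k c hc =>
      rw [pow_succ, ← mul_assoc, map_mul]
      exact hc.mul ⟨X none, 1, U0.one_mem, by simp [Θ0, T]⟩
  haveI : Algebra.FinitePresentation R (MvPolynomial (Option (Fin n)) A) :=
    Algebra.FinitePresentation.trans R A _
  obtain ⟨D, _, _, hD, α, β, hαβ, hsmD⟩ := exists_smoothAt_of_model 𝔮 Θ0 χ0 h0 hcompat hfrac0
  refine ⟨D, inferInstance, inferInstance, hD, α.comp (IsScalarTower.toAlgHom R A _), β, ?_, hsmD⟩
  refine AlgHom.ext fun a => ?_
  exact (AlgHom.congr_fun hαβ (MvPolynomial.C a)).trans (aevalTower_C _ _ a)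

/-- Gluing a smooth point with the smooth locus. -/
theorem resolvable_glue {A Λ D : Type u} [IsNoetherianRing R] [CommRing A] [Algebra R A]
    [Algebra.FinitePresentation R A] [CommRing Λ] [Algebra R Λ] (φ : A →ₐ[R] Λ) (𝔮 : Ideal Λ) [𝔮.IsPrime]
    [CommRing D] [Algebra R D] [Algebra.FiniteType R D] (α : A →ₐ[R] D) (β : D →ₐ[R] Λ) (hαβ : β.comp α = φ)
    (hsm : Algebra.IsSmoothAt R (𝔮.comap β.toRingHom))
    (s : Λ) (hs : s ∉ 𝔮) (N : ℕ) (hkill : ∀ a ∈ singularIdeal R A, s * φ a ^ N = 0) :
    Resolvable R φ 𝔮 := by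
  classical
  haveI : IsNoetherianRing A := Algebra.FiniteType.isNoetherianRing R A
  obtain ⟨t, a, ha⟩ := Submodule.fg_iff_exists_fin_generating_family.1 (IsNoetherian.noetherian (singularIdeal R A))
  have hamem : ∀ i, a i ∈ singularIdeal R A := fun i => by rw [← ha]; exact Submodule.subset_span ⟨i, rfl⟩
  obtain ⟨n, πD, hπD⟩ := Algebra.FiniteType.iff_quotient_mvPolynomial''.1 (inferInstance : Algebra.FiniteType R D)
  let d : Fin n → D := fun l => πD (X l)
  let χ : (MvPolynomial (Option (Fin n) ⊕ Fin t) A) →ₐ[R] Λ := aevalTower φ (Sum.elim (fun o => o.elim s fun l => s * β (d l)) fun i => φ (a i) ^ N)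
  let Θ1 : (MvPolynomial (Option (Fin n) ⊕ Fin t) A) →ₐ[R] Polynomial D := aevalTower ((IsScalarTower.toAlgHom R D (Polynomial D)).comp α)
    (Sum.elim (fun o => o.elim Polynomial.X fun l => Polynomial.X * Polynomial.C (d l)) fun _ => 0)
  let Θ2 : (MvPolynomial (Option (Fin n) ⊕ Fin t) A) →ₐ[R] MvPolynomial (Fin t) A := aevalTower (IsScalarTower.toAlgHom R A (MvPolynomial (Fin t) A))
    (Sum.elim (fun _ => 0) X)
  let x : (MvPolynomial (Option (Fin n) ⊕ Fin t) A) := X (Sum.inl none)
  let e : Fin t → (MvPolynomial (Option (Fin n) ⊕ Fin t) A) := fun i => X (Sum.inr i)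
  have hsa : ∀ i, s * φ (a i) ^ N = 0 := fun i => hkill _ (hamem i)
  -- comparison with the chart of `x`
  have hev1 : ∀ p : (MvPolynomial (Option (Fin n) ⊕ Fin t) A), s * (χ p - Polynomial.eval₂ β.toRingHom s (Θ1 p)) = 0 := by
    intro p
    induction p using MvPolynomial.induction_on with
    | C c =>
      simp only [χ, Θ1, aevalTower_C, AlgHom.comp_apply, IsScalarTower.coe_toAlgHom', Polynomial.algebraMap_eq,
        Polynomial.eval₂_C]
      rw [← AlgHom.congr_fun hαβ c]
      simp
    | add p q hp hq =>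
      rw [map_add, map_add, Polynomial.eval₂_add, add_sub_add_comm, mul_add, hp, hq, add_zero]
    | mul_X p o hp =>
      rw [map_mul, map_mul, Polynomial.eval₂_mul]
      have ho : s * (χ (X o) - Polynomial.eval₂ β.toRingHom s (Θ1 (X o))) = 0 := by
        rcases o with (_ | l) | i
        · simp [χ, Θ1]
        · simp only [χ, Θ1, aevalTower_X, Sum.elim_inl, Option.elim_some, Polynomial.eval₂_mul, Polynomial.eval₂_X,
            Polynomial.eval₂_C]
          exact (congrArg (s * ·) (sub_self _)).trans (mul_zero s)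
        · simp only [χ, Θ1, aevalTower_X, Sum.elim_inr, Polynomial.eval₂_zero, sub_zero]
          exact hsa i
      linear_combination χ (X o) * hp + Polynomial.eval₂ β.toRingHom s (Θ1 p) * ho
  -- comparison with the charts of `e`
  have hev2 : ∀ (i : Fin t) (p : (MvPolynomial (Option (Fin n) ⊕ Fin t) A)), φ (a i) ^ N * (χ p - aevalTower φ (fun j => φ (a j) ^ N) (Θ2 p)) = 0 := by
    intro i p
    induction p using MvPolynomial.induction_on with
    | C c =>
      simp [χ, Θ2, MvPolynomial.algebraMap_eq]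
    | add p q hp hq =>
      rw [map_add, map_add, map_add, add_sub_add_comm, mul_add, hp, hq, add_zero]
    | mul_X p o hp =>
      rw [map_mul, map_mul, map_mul]
      have ho : φ (a i) ^ N * (χ (X o) - aevalTower φ (fun j => φ (a j) ^ N) (Θ2 (X o))) = 0 := by
        rcases o with (_ | l) | j
        · simp only [χ, Θ2, aevalTower_X, Sum.elim_inl, Option.elim_none, map_zero, sub_zero]
          rw [mul_comm]; exact hsa i
        · simp only [χ, Θ2, aevalTower_X, Sum.elim_inl, Option.elim_some, map_zero, sub_zero]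
          linear_combination β (d l) * hsa i
        · simp [χ, Θ2]
      linear_combination χ (X o) * hp + aevalTower φ (fun j => φ (a j) ^ N) (Θ2 p) * ho
  let L : Ideal (MvPolynomial (Option (Fin n) ⊕ Fin t) A) := RingHom.ker Θ1 ⊓ RingHom.ker χ ⊓ RingHom.ker Θ2
  haveI : Algebra.FinitePresentation R (MvPolynomial (Option (Fin n) ⊕ Fin t) A) := Algebra.FinitePresentation.trans R A _
  haveI : IsNoetherianRing (MvPolynomial (Option (Fin n) ⊕ Fin t) A) := inferInstance
  haveI hBfp : Algebra.FinitePresentation R ((MvPolynomial (Option (Fin n) ⊕ Fin t) A) ⧸ L) := Algebra.FinitePresentation.quotient (IsNoetherian.noetherian L)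
  let βB : ((MvPolynomial (Option (Fin n) ⊕ Fin t) A) ⧸ L) →ₐ[R] Λ := Ideal.Quotient.liftₐ L χ fun z hz => hz.1.2
  have hβB : ∀ p, βB (Ideal.Quotient.mk L p) = χ p := fun p => rfl
  refine ⟨(MvPolynomial (Option (Fin n) ⊕ Fin t) A) ⧸ L, inferInstance, inferInstance, hBfp, (Ideal.Quotient.mkₐ R L).comp (IsScalarTower.toAlgHom R A (MvPolynomial (Option (Fin n) ⊕ Fin t) A)),
    βB, AlgHom.ext fun c => aevalTower_C _ _ c, ?_, ?_⟩
  · -- the old smooth locus
    refine (Ideal.IsRadical.radical_le_iff (Ideal.radical_isRadical _)).2 (Ideal.map_le_iff_le_comap.2 ?_)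
    intro c hc
    rw [← ha] at hc
    refine Submodule.span_induction (fun c hc => ?_) (zero_mem _) (fun u v _ _ hu hv => add_mem hu hv)
      (fun r u _ hu => Ideal.mul_mem_left _ r hu) hc
    obtain ⟨i, rfl⟩ := hc
    refine ⟨N + 1, ?_⟩
    have hmem : Ideal.Quotient.mk L (e i * C (a i)) ∈ singularIdeal R ((MvPolynomial (Option (Fin n) ⊕ Fin t) A) ⧸ L) := by
      rw [singularIdeal, PrimeSpectrum.mem_vanishingIdeal]
      intro Q hQ
      by_contra hiQ
      refine hQ ?_
      have hker2 : ∀ u, Θ2 u = 0 → e i * u ∈ L := by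
        intro u hu
        refine ⟨⟨?_, ?_⟩, ?_⟩
        · change Θ1 (e i * u) = 0
          simp [Θ1, e]
        · change χ (e i * u) = 0
          have := hev2 i u
          rw [hu, map_zero, sub_zero] at this
          simpa [χ, e] using this
        · change Θ2 (e i * u) = 0
          rw [map_mul, hu, mul_zero]
      have heQ : Ideal.Quotient.mk L (e i) ∉ Q.asIdeal := fun h => hiQ (by
        change _ ∈ Q.asIdeal
        rw [map_mul]; exact Ideal.mul_mem_right _ _ h)
      let q0 : Ideal (MvPolynomial (Option (Fin n) ⊕ Fin t) A) := Q.asIdeal.comap (Ideal.Quotient.mk L)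
      haveI : q0.IsPrime := Ideal.comap_isPrime _ _
      have hq0 : RingHom.ker Θ2 ≤ q0 := fun u hu => by
        have h := hker2 u hu
        rw [← Ideal.Quotient.eq_zero_iff_mem, map_mul] at h
        exact (Q.2.mem_or_mem (h ▸ Q.asIdeal.zero_mem)).resolve_left heQ
      have hΘ2 : Function.Surjective Θ2 := fun z => by
        induction z using MvPolynomial.induction_on with
        | C c => exact ⟨C c, by simp [Θ2, MvPolynomial.algebraMap_eq]⟩
        | add p q hp hq =>
          obtain ⟨u, rfl⟩ := hp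
          obtain ⟨v, rfl⟩ := hq
          exact ⟨u + v, map_add _ _ _⟩
        | mul_X p j hp =>
          obtain ⟨u, rfl⟩ := hp
          exact ⟨u * X (Sum.inr j), by simp [Θ2]⟩
      let Q2 : Ideal (MvPolynomial (Fin t) A) := q0.map Θ2.toRingHom
      haveI : Q2.IsPrime := Ideal.map_isPrime_of_surjective hΘ2 hq0
      have hQ2 : ∀ p, Θ2 p ∈ Q2 ↔ p ∈ q0 := fun p => by
        change p ∈ Q2.comap Θ2.toRingHom ↔ _
        rw [show Q2.comap Θ2.toRingHom = q0 by
          rw [Ideal.comap_map_of_surjective Θ2.toRingHom hΘ2, ← RingHom.ker_eq_comap_bot,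
            sup_eq_left.2 (show RingHom.ker Θ2.toRingHom ≤ q0 from hq0)]]
      have hsmQ2 : Algebra.IsSmoothAt R Q2 := by
        haveI : (Q2.comap (algebraMap A (MvPolynomial (Fin t) A))).IsPrime := Ideal.comap_isPrime _ _
        refine isSmoothAt_poly (D := A) Q2 ?_
        have hi := hamem i
        rw [singularIdeal, PrimeSpectrum.mem_vanishingIdeal] at hi
        by_contra hns
        have h5 : (C (a i) : MvPolynomial (Fin t) A) ∈ Q2 :=
          hi ⟨Q2.comap (algebraMap A (MvPolynomial (Fin t) A)), inferInstance⟩ hns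
        rw [show (C (a i) : MvPolynomial (Fin t) A) = Θ2 (C (a i)) by simp [Θ2, MvPolynomial.algebraMap_eq], hQ2] at h5
        refine hiQ ?_
        change _ ∈ Q.asIdeal
        rw [map_mul]
        exact Ideal.mul_mem_left _ _ h5
      let E2 := Localization.AtPrime Q2
      haveI : Algebra.FormallySmooth R E2 := hsmQ2
      let Θ : (MvPolynomial (Option (Fin n) ⊕ Fin t) A) →ₐ[R] E2 := (IsScalarTower.toAlgHom R (MvPolynomial (Fin t) A) E2).comp Θ2
      refine isSmoothAt_quotient_of_fractions Θ L (fun z hz => ?_)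
        (IsFrac.localization Q2 fun m => ?_) (fun k hk => ?_) Q.asIdeal fun p => ?_
      · change algebraMap _ E2 (Θ2 z) = 0
        rw [show Θ2 z = 0 from hz.2, map_zero]
      · obtain ⟨m, rfl⟩ := hΘ2 m
        exact IsFrac.image (θ := Θ.toRingHom) m
      · obtain ⟨⟨m, hm⟩, hmk⟩ := (IsLocalization.map_eq_zero_iff Q2.primeCompl E2 (Θ2 k)).1 hk
        obtain ⟨p, rfl⟩ := hΘ2 m
        refine ⟨e i * p, ?_, ?_⟩
        · change IsUnit (algebraMap _ E2 (Θ2 (e i * p)))
          rw [IsLocalization.AtPrime.isUnit_to_map_iff E2 Q2]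
          change Θ2 (e i * p) ∉ Q2
          rw [map_mul]
          refine fun h => ((inferInstance : Q2.IsPrime).mem_or_mem h).elim (fun h => heQ ((hQ2 _).1 h)) hm
        · rw [mul_assoc]
          exact hker2 _ (by rw [map_mul]; exact hmk)
      · change p ∈ q0 ↔ ¬ IsUnit (algebraMap _ E2 (Θ2 p))
        rw [IsLocalization.AtPrime.isUnit_to_map_iff E2 Q2]
        change _ ↔ ¬ (Θ2 p ∉ Q2)
        rw [not_not, hQ2]
    have h := Ideal.mem_map_of_mem βB hmem
    rw [hβB, map_mul] at h
    simpa [χ, e, pow_succ] using h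
  · -- the new smooth point
    have hnot : ¬ (singularIdeal R ((MvPolynomial (Option (Fin n) ⊕ Fin t) A) ⧸ L)).map βB ≤ 𝔮 := by
      refine not_map_singularIdeal_le βB 𝔮 ?_
      let Λq := Localization.AtPrime 𝔮
      letI : Algebra D Λq := ((algebraMap Λ Λq).comp β.toRingHom).toAlgebra
      haveI : IsScalarTower R D Λq := IsScalarTower.of_algebraMap_eq fun r => by
        rw [RingHom.algebraMap_toAlgebra]
        change _ = algebraMap Λ Λq (β (algebraMap R D r))
        rw [AlgHom.commutes, ← IsScalarTower.algebraMap_apply]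
      let ev : Polynomial D →ₐ[R] Λq :=
        (Polynomial.aeval (algebraMap Λ Λq s) : Polynomial D →ₐ[D] Λq).restrictScalars R
      have hev : ∀ m, ev m = algebraMap Λ Λq (Polynomial.eval₂ β.toRingHom s m) := fun m =>
        (Polynomial.hom_eval₂ m β.toRingHom (algebraMap Λ Λq) s).symm
      have hsu : IsUnit (algebraMap Λ Λq s) := IsLocalization.map_units Λq (⟨s, hs⟩ : 𝔮.primeCompl)
      let p1 : Ideal (Polynomial D) := (maximalIdeal Λq).comap ev.toRingHom
      haveI : p1.IsPrime := Ideal.comap_isPrime _ _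
      obtain ⟨h1, hh1, hh1u⟩ := exists_atPrime_lift ev p1 fun m => Iff.rfl
      have hcm : ∀ c : Λ, ¬ IsUnit (algebraMap Λ Λq c) ↔ c ∈ 𝔮 := fun c => by
        rw [IsLocalization.AtPrime.isUnit_to_map_iff Λq 𝔮]
        exact not_not
      have hsm1 : Algebra.IsSmoothAt R p1 := by
        haveI : (p1.comap (algebraMap D (Polynomial D))).IsPrime := Ideal.comap_isPrime _ _
        refine isSmoothAt_poly (D := D) p1 ?_
        convert hsm using 1
        ext c
        change ¬ IsUnit (ev (Polynomial.C c)) ↔ β c ∈ 𝔮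
        rw [hev, Polynomial.eval₂_C, hcm]
        rfl
      let E := Localization.AtPrime p1
      haveI : Algebra.FormallySmooth R E := hsm1
      let Θ : (MvPolynomial (Option (Fin n) ⊕ Fin t) A) →ₐ[R] E := (IsScalarTower.toAlgHom R (Polynomial D) E).comp Θ1
      have hcompat : ∀ p, h1 (Θ p) = algebraMap Λ Λq (χ p) := fun p => by
        change h1 (algebraMap (Polynomial D) E (Θ1 p)) = _
        rw [hh1, hev]
        have h := congrArg (algebraMap Λ Λq) (hev1 p)
        rw [map_mul, map_zero, map_sub, hsu.mul_right_eq_zero, sub_eq_zero] at h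
        exact h.symm
      have hfrac1 : ∀ m, IsFrac Θ1.toRingHom (Submonoid.powers x) m := by
        have hC : ∀ c, IsFrac Θ1.toRingHom (Submonoid.powers x) (Polynomial.C c) := by
          intro c
          obtain ⟨q, rfl⟩ := hπD c
          induction q using MvPolynomial.induction_on with
          | C r =>
            refine ⟨algebraMap R (MvPolynomial (Option (Fin n) ⊕ Fin t) A) r, 1, Submonoid.one_mem _, ?_⟩
            rw [map_one, mul_one, ← MvPolynomial.algebraMap_eq, AlgHom.commutes]
            exact Θ1.commutes r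
          | add p q hp hq => rw [map_add, map_add]; exact hp.add hq
          | mul_X p l hp =>
            rw [map_mul, map_mul]
            refine hp.mul ⟨X (Sum.inl (some l)), x, Submonoid.mem_powers x, ?_⟩
            change Θ1 (X (Sum.inl (some l))) = Polynomial.C (d l) * Θ1 x
            simp only [Θ1, x, aevalTower_X, Sum.elim_inl, Option.elim_some, Option.elim_none]
            exact mul_comm _ _
        intro m
        induction m using Polynomial.induction_on with
        | C c => exact hC c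
        | add p q hp hq => exact hp.add hq
        | monomial k c hc =>
          rw [pow_succ, ← mul_assoc]
          exact hc.mul ⟨x, 1, Submonoid.one_mem _, by simp [Θ1, x]⟩
      have hxu : ∀ w ∈ Submonoid.powers x, IsUnit (Θ w) := by
        rintro _ ⟨j, rfl⟩
        rw [map_pow]
        refine IsUnit.pow _ (hh1u _ ?_)
        rw [hcompat]
        simpa [χ, x] using hsu
      refine isSmoothAt_quotient_of_fractions Θ L (fun z hz => ?_)
        (IsFrac.localization p1 fun m => ?_) (fun k hk => ?_) _ fun p => ?_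
      · change algebraMap _ E (Θ1 z) = 0
        rw [show Θ1 z = 0 from hz.1.1, map_zero]
      · obtain ⟨p, w, hw, hp⟩ := hfrac1 m
        exact IsFrac.of_mul (θ := Θ.toRingHom) (p := p) (w := w) (hxu w hw)
          ((congrArg (algebraMap (Polynomial D) E) hp).trans (map_mul _ _ _))
      · obtain ⟨⟨m, hm⟩, hmk⟩ := (IsLocalization.map_eq_zero_iff p1.primeCompl E (Θ1 k)).1 hk
        obtain ⟨p, w, hw, hp⟩ := hfrac1 m
        have hpk : Θ1 (p * k) = 0 := by
          rw [map_mul, show Θ1 p = m * Θ1 w from hp, mul_right_comm, hmk, zero_mul]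
        refine ⟨x * p, ?_, ⟨?_, ?_⟩, ?_⟩
        · rw [map_mul]
          refine (hxu x (Submonoid.mem_powers x)).mul ?_
          change IsUnit (algebraMap (Polynomial D) E (Θ1 p))
          rw [show Θ1 p = m * Θ1 w from hp, map_mul]
          exact (IsLocalization.map_units E (⟨m, hm⟩ : p1.primeCompl)).mul (hxu w hw)
        · change Θ1 (x * p * k) = 0
          rw [mul_assoc, map_mul, hpk, mul_zero]
        · change χ (x * p * k) = 0
          rw [mul_assoc, map_mul]
          have h := hev1 (p * k)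
          rw [hpk, Polynomial.eval₂_zero, sub_zero] at h
          simpa [χ, x] using h
        · change Θ2 (x * p * k) = 0
          simp [Θ2, x]
      · change χ p ∈ 𝔮 ↔ _
        rw [← hcm, ← hcompat]
        exact not_congr ⟨hh1u _, fun h => h.map h1⟩
    exact fun hle => hnot (Ideal.le_radical.trans hle)

end Groth.Agent.SmoothingLib
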