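import Mathlib
import Groth.Prelude.Def_Smoothing
import Groth.Agent.SmoothingLib.Lifting
import Groth.Agent.SmoothingLib.DesingStd

/-! Desingularization from a factorization modulo a power. -/

set_option autoImplicit false
universe u

noncomputable section

namespace Groth.Agent.SmoothingLib

open Smoothing

variable {R : Type u} [CommRing R]

/-- The lifting lemma with the square given by an equation. -/
theorem lifting_eq {Λ C' : Type u} [IsNoetherianRing R] [CommRing Λ] [Algebra R Λ] (π : R) (q : R) (hq : q = π ^ 2)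
    (hR : ∀ r : R, π ^ 2 * r = 0 → π * r = 0)
    (hΛ : ∀ x : Λ, π ^ 2 • x = 0 → π • x = 0) [CommRing C'] [Algebra R C']
    [Algebra (R ⧸ Ideal.span {q}) C'] [IsScalarTower R (R ⧸ Ideal.span {q}) C']
    [Algebra.FinitePresentation (R ⧸ Ideal.span {q}) C']
    (g : C' →ₐ[R] Λ ⧸ Ideal.span {algebraMap R Λ q}) :
    ∃ (D : Type u) (_ : CommRing D) (_ : Algebra R D), Algebra.FinitePresentation R D ∧
      ∃ (δ : D →ₐ[R] Λ) (ψ : C' →ₐ[R] D ⧸ Ideal.span {algebraMap R D π}),
        (∀ (c : C') (d : D) (l : Λ), Ideal.Quotient.mk (Ideal.span {algebraMap R D π}) d = ψ c →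
          Ideal.Quotient.mk (Ideal.span {algebraMap R Λ q}) l = g c →
            δ d - l ∈ Ideal.span {algebraMap R Λ π}) ∧
        (∀ (Q : Ideal D) [Q.IsPrime], algebraMap R D π ∉ Q → Algebra.IsSmoothAt R Q) ∧
        (∀ (Q : Ideal (D ⧸ Ideal.span {algebraMap R D π})) [Q.IsPrime],
          Algebra.IsSmoothAt (R ⧸ Ideal.span {q}) (Q.comap ψ) →
            Algebra.IsSmoothAt R (Q.comap (Ideal.Quotient.mk (Ideal.span {algebraMap R D π})))) := by
  subst hq
  exact lifting π hR hΛ g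

theorem pow_four_eq_zero_of {M : Type u} [AddCommGroup M] [Module R M] (π : R)
    (h : ∀ x : M, π ^ 2 • x = 0 → π • x = 0) (x : M) (hx : (π ^ 4) ^ 2 • x = 0) : π ^ 4 • x = 0 := by
  have key : ∀ k, π ^ (k + 2) • x = 0 → π ^ (k + 1) • x = 0 := fun k hk => by
    rw [add_comm, pow_add, mul_smul] at hk
    rw [pow_succ', mul_smul]
    exact h _ hk
  rw [← pow_mul] at hx
  exact key 3 (key 4 (key 5 (key 6 hx)))

theorem desingularize_mod {Λ A C : Type u} [IsNoetherianRing R] [CommRing Λ]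
    [Algebra R Λ] (π : R) (hR : ∀ r : R, π ^ 2 * r = 0 → π * r = 0)
    (hΛ : ∀ x : Λ, π ^ 2 • x = 0 → π • x = 0) [CommRing A] [Algebra R A]
    [Algebra.FinitePresentation R A] (φ : A →ₐ[R] Λ)
    (hπ : Smoothing.IsStrictlyStandard R A (algebraMap R A π))
    [CommRing C] [Algebra R C] [Algebra (R ⧸ Ideal.span {π ^ 8}) C] [IsScalarTower R (R ⧸ Ideal.span {π ^ 8}) C]
    [Algebra.FinitePresentation (R ⧸ Ideal.span {π ^ 8}) C]
    (γ : A →ₐ[R] C) (g : C →ₐ[R] Λ ⧸ Ideal.span {algebraMap R Λ (π ^ 8)})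
    (hfac : ∀ a : A, g (γ a) = Ideal.Quotient.mk (Ideal.span {algebraMap R Λ (π ^ 8)}) (φ a)) :
    ∃ (B : Type u) (_ : CommRing B) (_ : Algebra R B), Algebra.FinitePresentation R B ∧
      ∃ (α : A →ₐ[R] B) (β : B →ₐ[R] Λ), β.comp α = φ ∧
        (∀ (Q : Ideal B) [Q.IsPrime], algebraMap R B π ∉ Q → Algebra.IsSmoothAt R Q) ∧
        (Smoothing.singularIdeal (R ⧸ Ideal.span {π ^ 8}) C).map g ≤
          ((Smoothing.singularIdeal R B).map β).radical.map (Ideal.Quotient.mk (Ideal.span {algebraMap R Λ (π ^ 8)})) := by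
  classical
  obtain ⟨D, _, _, hDfp, δ, ψ, hcompat, hsm, hsm'⟩ := lifting_eq (π ^ 4) (π ^ 8) (by ring)
    (fun r hr => by
      have h := pow_four_eq_zero_of π (M := R) (fun x hx => hR x hx) r hr
      exact h)
    (pow_four_eq_zero_of π hΛ) g
  haveI := hDfp
  have hψ : ∀ (a : A) (d : D), Ideal.Quotient.mk (Ideal.span {algebraMap R D (π ^ 4)}) d = ψ.comp γ a →
      δ d - φ a ∈ Ideal.span {algebraMap R Λ (π ^ 4)} := fun a d hd => hcompat (γ a) d (φ a) hd (hfac a).symm
  obtain ⟨B, _, _, _, _, hBfp, α, β, hαβ, hβD, -, hDB⟩ :=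
    desingularize_strictly_standard π hR hΛ φ δ hπ (ψ.comp γ) hψ
  have hπD : algebraMap R D π ∈ singularIdeal R D := by
    rw [singularIdeal, PrimeSpectrum.mem_vanishingIdeal]
    intro Q hQ
    by_contra hπQ
    refine hQ (hsm Q.asIdeal fun h => hπQ ?_)
    rw [map_pow] at h
    exact Q.2.mem_of_pow_mem 4 h
  have hπB : algebraMap R B π ∈ singularIdeal R B := by
    rw [IsScalarTower.algebraMap_apply R D B]
    exact hDB (Ideal.mem_map_of_mem _ hπD)
  refine ⟨B, inferInstance, inferInstance, hBfp, α, β, hαβ, fun Q _ hQ => ?_, ?_⟩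
  · rw [singularIdeal, PrimeSpectrum.mem_vanishingIdeal] at hπB
    by_contra h
    exact hQ (hπB ⟨Q, inferInstance⟩ h)
  · rw [Ideal.map_le_iff_le_comap]
    intro c hc
    obtain ⟨d, hd⟩ := Ideal.Quotient.mk_surjective (ψ c)
    obtain ⟨l, hl⟩ := Ideal.Quotient.mk_surjective (g c)
    have hdD : d ∈ singularIdeal R D := by
      rw [singularIdeal, PrimeSpectrum.mem_vanishingIdeal]
      intro Q hQ
      have hle : Ideal.span {algebraMap R D (π ^ 4)} ≤ Q.asIdeal := by
        rw [Ideal.span_singleton_le_iff_mem]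
        by_contra h
        exact hQ (hsm Q.asIdeal h)
      let Q' := Q.asIdeal.map (Ideal.Quotient.mk (Ideal.span {algebraMap R D (π ^ 4)}))
      haveI : Q'.IsPrime := Ideal.map_isPrime_of_surjective Ideal.Quotient.mk_surjective (by rwa [Ideal.mk_ker])
      have hQ' : Q'.comap (Ideal.Quotient.mk (Ideal.span {algebraMap R D (π ^ 4)})) = Q.asIdeal := by
        rw [Ideal.comap_map_of_surjective _ Ideal.Quotient.mk_surjective, ← RingHom.ker_eq_comap_bot, Ideal.mk_ker,
          sup_eq_left.2 hle]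
      haveI : (Q'.comap ψ).IsPrime := Ideal.comap_isPrime _ _
      rw [singularIdeal, PrimeSpectrum.mem_vanishingIdeal] at hc
      have hcQ := hc ⟨Q'.comap ψ, inferInstance⟩ fun h => hQ (by
        have := hsm' Q' h
        simpa only [Algebra.smoothLocus, Set.mem_setOf_eq, hQ'] using this)
      change d ∈ Q.asIdeal
      rw [← hQ', Ideal.mem_comap, hd]
      exact hcQ
    obtain ⟨t, ht⟩ := Ideal.mem_span_singleton'.1 (hcompat c d l hd hl)
    rw [Ideal.mem_comap, ← hl]
    refine Ideal.mem_map_of_mem _ (Ideal.le_radical ?_)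
    rw [show l = β (algebraMap D B d) - t * β (algebraMap R B π) ^ 4 by
      rw [AlgHom.commutes, show β (algebraMap D B d) = δ d from AlgHom.congr_fun hβD d, ← map_pow, ht]; ring]
    exact sub_mem (Ideal.mem_map_of_mem _ (hDB (Ideal.mem_map_of_mem _ hdD)))
      (Ideal.mul_mem_left _ _ (Ideal.pow_mem_of_mem _ (Ideal.mem_map_of_mem _ hπB) 4 (by norm_num)))

end Groth.Agent.SmoothingLib
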