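import Mathlib
import Groth.Prelude.Def_Smoothing
import Groth.Agent.SmoothingLib.BaseChange
import Groth.Agent.SmoothingLib.DesingMod

/-! Reduction modulo a power of a strictly standard element. -/

set_option autoImplicit false
universe u

noncomputable section

namespace Groth.Agent.SmoothingLib

open Smoothing TensorProduct

/-- Formal smoothness passes to quotients. -/
theorem formallySmooth_quotient {R R' S S' : Type u} [CommRing R] [CommRing R'] [Algebra R R'] [CommRing S]
    [Algebra R S] [CommRing S'] [Algebra R S'] [Algebra R' S'] [IsScalarTower R R' S'] [Algebra.FormallySmooth R S]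
    (hR : Function.Surjective (algebraMap R R')) (q : S →ₐ[R] S') (hq : Function.Surjective q)
    (hker : RingHom.ker q ≤ (RingHom.ker (algebraMap R R')).map (algebraMap R S)) :
    Algebra.FormallySmooth R' S' := by
  rw [Algebra.FormallySmooth.iff_comp_surjective]
  intro B _ _ I hI f
  letI : Algebra R B := Algebra.compHom B (algebraMap R R')
  haveI : IsScalarTower R R' B := IsScalarTower.of_algebraMap_eq fun _ => rfl
  haveI : IsScalarTower R R' (B ⧸ I) := IsScalarTower.of_algebraMap_eq fun _ => rfl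
  obtain ⟨g, hg⟩ := Algebra.FormallySmooth.comp_surjective R S I hI ((f.restrictScalars R).comp q)
  have hg0 : RingHom.ker q ≤ RingHom.ker g := by
    refine hker.trans (Ideal.map_le_iff_le_comap.2 fun r hr => ?_)
    rw [Ideal.mem_comap, RingHom.mem_ker, AlgHom.commutes, IsScalarTower.algebraMap_apply R R' B,
      RingHom.mem_ker.1 hr, map_zero]
  let g0 : S' →ₐ[R] B :=
    (Ideal.Quotient.liftₐ (RingHom.ker q) g fun x hx => hg0 hx).comp
      (Ideal.quotientKerAlgEquivOfSurjective (f := q) hq).symm.toAlgHom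
  have hg1 : ∀ s, g0 (q s) = g s := fun s => by
    change Ideal.Quotient.liftₐ (RingHom.ker q) g (fun x hx => hg0 hx) ((Ideal.quotientKerAlgEquivOfSurjective (f := q) hq).symm (q s)) = g s
    rw [show (Ideal.quotientKerAlgEquivOfSurjective (f := q) hq).symm (q s) = Ideal.Quotient.mk _ s from
      (Ideal.quotientKerAlgEquivOfSurjective (f := q) hq).symm_apply_eq.2 rfl]
    rfl
  refine ⟨{ g0.toRingHom with commutes' := fun r' => ?_ }, AlgHom.ext fun s' => ?_⟩
  · obtain ⟨r, rfl⟩ := hR r'
    change g0 (algebraMap R' S' (algebraMap R R' r)) = algebraMap R' B (algebraMap R R' r)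
    rw [← IsScalarTower.algebraMap_apply, ← IsScalarTower.algebraMap_apply, AlgHom.commutes]
  · obtain ⟨s, rfl⟩ := hq s'
    change Ideal.Quotient.mk I (g0 (q s)) = f (q s)
    rw [hg1]
    exact AlgHom.congr_fun hg s

/-- Smoothness at a prime passes to quotients. -/
theorem isSmoothAt_quotient {R R' A A' : Type u} [CommRing R] [CommRing R'] [Algebra R R'] [CommRing A]
    [Algebra R A] [CommRing A'] [Algebra R A'] [Algebra R' A'] [IsScalarTower R R' A']
    (hR : Function.Surjective (algebraMap R R')) (q : A →ₐ[R] A') (hq : Function.Surjective q)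
    (hker : RingHom.ker q ≤ (RingHom.ker (algebraMap R R')).map (algebraMap R A))
    (Q : Ideal A') [Q.IsPrime] (h : Algebra.IsSmoothAt R (Q.comap q.toRingHom)) : Algebra.IsSmoothAt R' Q := by
  haveI : Algebra.FormallySmooth R (Localization.AtPrime (Q.comap q.toRingHom)) := h
  let χ : Localization.AtPrime (Q.comap q.toRingHom) →ₐ[R] Localization.AtPrime Q :=
    { toRingHom := Localization.localRingHom _ Q q.toRingHom rfl
      commutes' := fun r => by
        change Localization.localRingHom _ Q q.toRingHom rfl (algebraMap R _ r) = _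
        rw [IsScalarTower.algebraMap_apply R A (Localization.AtPrime (Q.comap q.toRingHom)),
          Localization.localRingHom_to_map, IsScalarTower.algebraMap_apply R A' (Localization.AtPrime Q)]
        exact congrArg _ (q.commutes r) }
  refine formallySmooth_quotient hR χ (NeronLib.localRingHom_surjective q.toRingHom hq Q) ?_
  change RingHom.ker (Localization.localRingHom _ Q q.toRingHom rfl) ≤ _
  rw [NeronLib.ker_localRingHom q.toRingHom hq Q, IsScalarTower.algebraMap_eq R A (Localization.AtPrime (Q.comap q.toRingHom)),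
    ← Ideal.map_map]
  exact Ideal.map_mono hker

/-- The singular ideal maps into the singular ideal of a quotient. -/
theorem mem_singularIdeal_quotient {R R' A A' : Type u} [CommRing R] [CommRing R'] [Algebra R R'] [CommRing A]
    [Algebra R A] [CommRing A'] [Algebra R A'] [Algebra R' A'] [IsScalarTower R R' A']
    (hR : Function.Surjective (algebraMap R R')) (q : A →ₐ[R] A') (hq : Function.Surjective q)
    (hker : RingHom.ker q ≤ (RingHom.ker (algebraMap R R')).map (algebraMap R A))
    {a : A} (ha : a ∈ singularIdeal R A) : q a ∈ singularIdeal R' A' := by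
  rw [singularIdeal, PrimeSpectrum.mem_vanishingIdeal] at ha ⊢
  intro Q hQ
  exact ha ⟨Q.asIdeal.comap q.toRingHom, Ideal.comap_isPrime _ _⟩ fun h => hQ (isSmoothAt_quotient hR q hq hker Q.asIdeal h)

/-- The singular ideal only depends on the base up to isomorphism. -/
theorem singularIdeal_eq_of_bijective {R R' A : Type u} [CommRing R] [CommRing R'] [Algebra R R'] [CommRing A]
    [Algebra R A] [Algebra R' A] [IsScalarTower R R' A] (hb : Function.Bijective (algebraMap R R')) :
    singularIdeal R A = singularIdeal R' A := by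
  haveI : Algebra.FormallyEtale R R' := Algebra.FormallyEtale.of_equiv (AlgEquiv.ofBijective (Algebra.ofId R R') hb)
  have h : Algebra.smoothLocus R A = Algebra.smoothLocus R' A := by
    ext x
    simp only [Algebra.smoothLocus, Set.mem_setOf_eq]
    constructor
    · intro hx
      haveI : Algebra.FormallySmooth R (Localization.AtPrime x.asIdeal) := hx
      exact Algebra.FormallySmooth.of_restrictScalars R R' _
    · intro hx
      haveI : Algebra.FormallySmooth R' (Localization.AtPrime x.asIdeal) := hx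
      exact Algebra.FormallySmooth.comp R R' _
  rw [singularIdeal, singularIdeal, h]

/-- Strictly standard elements are transported along isomorphisms. -/
theorem isStrictlyStandard_algEquiv {R A A' : Type u} [CommRing R] [CommRing A] [Algebra R A] [CommRing A']
    [Algebra R A'] (e : A ≃ₐ[R] A') {a : A} (h : IsStrictlyStandard R A a) : IsStrictlyStandard R A' (e a) := by
  obtain ⟨P, ha, hk⟩ := h
  let P' : MarkedPresentation R A' :=
    { n := P.n, m := P.m, c := P.c, hcn := P.hcn, hcm := P.hcm, rel := P.rel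
      hom := e.toAlgHom.comp P.hom
      surj := e.surjective.comp P.surj
      ker_eq := by
        rw [← P.ker_eq]
        exact RingHom.ker_comp_of_injective P.hom.toRingHom (f := e.toRingEquiv.toRingHom) e.injective }
  refine ⟨P', ?_, fun a' ha' j hj => hk a' (e.injective ha') j hj⟩
  have h1 := Ideal.mem_map_of_mem e.toAlgHom ha
  rw [Ideal.map_span, ← Set.range_comp] at h1
  exact h1

/-- Strictly standard elements pass to quotients of the base. -/
theorem isStrictlyStandard_quotient {R R' A A' : Type u} [CommRing R] [CommRing R'] [Algebra R R'] [CommRing A]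
    [Algebra R A] [CommRing A'] [Algebra R A'] [Algebra R' A'] [IsScalarTower R R' A']
    (hR : Function.Surjective (algebraMap R R')) (q : A →ₐ[R] A') (hq : Function.Surjective q)
    (hker : RingHom.ker q ≤ (RingHom.ker (algebraMap R R')).map (algebraMap R A))
    {a : A} (ha : IsStrictlyStandard R A a) : IsStrictlyStandard R' A' (q a) := by
  let e0 : R' ⊗[R] A →ₐ[R'] A' := Algebra.TensorProduct.lift (Algebra.ofId R' A') q (fun _ _ => Commute.all _ _)
  have h1 : ∀ z : R' ⊗[R] A, ∃ a, (1 : R') ⊗ₜ[R] a = z := by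
    intro z
    induction z using TensorProduct.induction_on with
    | zero => exact ⟨0, tmul_zero _ _⟩
    | tmul x a =>
      obtain ⟨r, rfl⟩ := hR x
      refine ⟨r • a, ?_⟩
      rw [TensorProduct.tmul_smul, TensorProduct.smul_tmul', Algebra.smul_def, mul_one]
    | add x y hx hy =>
      obtain ⟨a, rfl⟩ := hx
      obtain ⟨b, rfl⟩ := hy
      exact ⟨a + b, tmul_add _ _ _⟩
  have he : ∀ a, e0 ((1 : R') ⊗ₜ[R] a) = q a := fun a => by simp [e0]
  have hbij : Function.Bijective e0 := by
    constructor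
    · rw [injective_iff_map_eq_zero]
      intro z hz
      obtain ⟨a, rfl⟩ := h1 z
      rw [he] at hz
      have ha : a ∈ RingHom.ker q := hz
      have h2 : (RingHom.ker (algebraMap R R')).map (algebraMap R A) ≤
          RingHom.ker (Algebra.TensorProduct.includeRight (R := R) (A := R') (B := A)) := by
        refine Ideal.map_le_iff_le_comap.2 fun r hr => ?_
        rw [Ideal.mem_comap, RingHom.mem_ker, AlgHom.commutes, IsScalarTower.algebraMap_apply R R' (R' ⊗[R] A),
          RingHom.mem_ker.1 hr, map_zero]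
      exact h2 (hker ha)
    · intro a'
      obtain ⟨a, rfl⟩ := hq a'
      exact ⟨_, he a⟩
  rw [← he a]
  exact isStrictlyStandard_algEquiv (AlgEquiv.ofBijective e0 hbij) (isStrictlyStandard_baseChange R' ha)

/-- One step of the reduction. -/
theorem resolvable_of_quotient {R R' A A' Λ Λ' : Type u} [CommRing R] [IsNoetherianRing R]
    [CommRing R'] [Algebra R R'] [CommRing A] [Algebra R A] [Algebra.FinitePresentation R A]
    [CommRing A'] [Algebra R A'] [Algebra R' A'] [IsScalarTower R R' A']
    [CommRing Λ] [Algebra R Λ] [CommRing Λ'] [Algebra R Λ'] [Algebra R' Λ'] [IsScalarTower R R' Λ']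
    (π : R) (hπR : ∀ r : R, π ^ 2 * r = 0 → π * r = 0) (hπΛ : ∀ x : Λ, π ^ 2 • x = 0 → π • x = 0)
    (hπstd : IsStrictlyStandard R A (algebraMap R A π))
    (hR : Function.Surjective (algebraMap R R')) (hRker : RingHom.ker (algebraMap R R') = Ideal.span {π ^ 8})
    (qA : A →ₐ[R] A') (hqA : Function.Surjective qA)
    (hqAker : RingHom.ker qA ≤ (RingHom.ker (algebraMap R R')).map (algebraMap R A))
    (qΛ : Λ →ₐ[R] Λ') (hqΛ : Function.Surjective qΛ) (hqΛker : RingHom.ker qΛ = Ideal.span {algebraMap R Λ (π ^ 8)})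
    (φ : A →ₐ[R] Λ) (φ' : A' →ₐ[R'] Λ') (hcomm : ∀ a, φ' (qA a) = qΛ (φ a))
    (𝔮 : Ideal Λ) (hres : Resolvable R' φ' (𝔮.map qΛ.toRingHom)) : Resolvable R φ 𝔮 := by
  classical
  obtain ⟨C, _, _, hCfp, g, h, hgh, hle, hnle⟩ := hres
  letI : Algebra R C := Algebra.compHom C (algebraMap R R')
  haveI : IsScalarTower R R' C := IsScalarTower.of_algebraMap_eq fun _ => rfl
  let R'' := R ⧸ Ideal.span {π ^ 8}
  let e : R'' →ₐ[R] R' := Ideal.Quotient.liftₐ _ (Algebra.ofId R R') fun x hx => by rwa [← hRker, RingHom.mem_ker] at hx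
  have he : Function.Bijective e := by
    refine ⟨(injective_iff_map_eq_zero _).2 fun x hx => ?_, fun y => ?_⟩
    · obtain ⟨x, rfl⟩ := Ideal.Quotient.mk_surjective x
      rw [Ideal.Quotient.eq_zero_iff_mem, ← hRker]
      exact hx
    · obtain ⟨x, rfl⟩ := hR y
      exact ⟨Ideal.Quotient.mk _ x, rfl⟩
  letI : Algebra R'' R' := e.toRingHom.toAlgebra
  letI : Algebra R'' C := Algebra.compHom C e.toRingHom
  haveI : IsScalarTower R'' R' C := IsScalarTower.of_algebraMap_eq fun _ => rfl
  haveI : IsScalarTower R R'' C := IsScalarTower.of_algebraMap_eq fun x => by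
    change algebraMap R' C (algebraMap R R' x) = algebraMap R' C (e (algebraMap R R'' x))
    rw [e.commutes]
  haveI : Algebra.FinitePresentation R'' R' :=
    Algebra.FinitePresentation.equiv (AlgEquiv.ofBijective (Algebra.ofId R'' R') he)
  haveI : Algebra.FinitePresentation R'' C := Algebra.FinitePresentation.trans R'' R' C
  let eΛ : (Λ ⧸ Ideal.span {algebraMap R Λ (π ^ 8)}) ≃ₐ[R] Λ' :=
    (Ideal.quotientEquivAlgOfEq R hqΛker.symm).trans (Ideal.quotientKerAlgEquivOfSurjective (f := qΛ) hqΛ)
  have heΛ : ∀ x, eΛ (Ideal.Quotient.mk _ x) = qΛ x := fun x => by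
    simp only [eΛ, AlgEquiv.trans_apply, Ideal.quotientEquivAlgOfEq_mk]
    rfl
  let gC : C →ₐ[R] Λ ⧸ Ideal.span {algebraMap R Λ (π ^ 8)} := eΛ.symm.toAlgHom.comp (h.restrictScalars R)
  obtain ⟨B, _, _, hBfp, α, β, hαβ, hsm, hincl⟩ := desingularize_mod π hπR hπΛ φ hπstd
    ((g.restrictScalars R).comp qA) gC (fun a => eΛ.symm_apply_eq.2 (by
      rw [heΛ, ← hcomm]; exact AlgHom.congr_fun hgh (qA a)))
  have hπY : algebraMap R Λ π ∈ singRad R β := by
    refine Ideal.le_radical ?_
    rw [← β.commutes]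
    refine Ideal.mem_map_of_mem _ ?_
    rw [singularIdeal, PrimeSpectrum.mem_vanishingIdeal]
    intro Q hQ
    by_contra hπQ
    exact hQ (hsm Q.asIdeal hπQ)
  have hkerY : ∀ x, qΛ x = 0 → x ∈ singRad R β := fun x hx => by
    refine (Ideal.span_singleton_le_iff_mem _).2 (show algebraMap R Λ (π ^ 8) ∈ singRad R β by
      rw [map_pow]; exact Ideal.pow_mem_of_mem _ hπY 8 (by norm_num)) ?_
    rw [← hqΛker]
    exact hx
  have key : ∀ x, qΛ x ∈ singRad R' h → x ∈ singRad R β := by
    intro x hx
    obtain ⟨k, hk⟩ := hx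
    have hY : singRad R β = ((singularIdeal R B).map β).radical := rfl
    rw [hY]
    refine (Ideal.radical_isRadical _) ⟨k, ?_⟩
    rw [← map_pow] at hk
    have hle2 : (singularIdeal R' C).map h ≤ (singRad R β).map qΛ := by
      rw [Ideal.map_le_iff_le_comap]
      intro c hc
      rw [← singularIdeal_eq_of_bijective (R := R'') (R' := R') he] at hc
      obtain ⟨y, hy, hyc⟩ := (Ideal.mem_map_iff_of_surjective _ Ideal.Quotient.mk_surjective).1
        (hincl (Ideal.mem_map_of_mem gC hc))
      have : qΛ y = h c := by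
        rw [← heΛ, hyc]
        exact eΛ.apply_symm_apply _
      rw [Ideal.mem_comap, ← this]
      exact Ideal.mem_map_of_mem _ hy
    obtain ⟨y, hy, hyx⟩ := (Ideal.mem_map_iff_of_surjective _ hqΛ).1 (hle2 hk)
    have := hkerY (x ^ k - y) (by rw [map_sub, hyx, sub_self])
    have h9 := add_mem this hy
    rw [sub_add_cancel] at h9
    exact h9
  refine ⟨B, inferInstance, inferInstance, hBfp, α, β, hαβ, ?_, fun hq => hnle ?_⟩
  · refine (Ideal.IsRadical.radical_le_iff (Ideal.radical_isRadical _)).2 (Ideal.map_le_iff_le_comap.2 fun a ha => ?_)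
    refine key _ ?_
    rw [← hcomm]
    exact hle (Ideal.le_radical (Ideal.mem_map_of_mem _ (mem_singularIdeal_quotient hR qA hqA hqAker ha)))
  · intro z hz
    obtain ⟨x, rfl⟩ := hqΛ z
    exact Ideal.mem_map_of_mem _ (hq (key x hz))

section chain

variable {R A Λ : Type u} [CommRing R] [CommRing A] [Algebra R A] [CommRing Λ] [Algebra R Λ]

/-- The map induced by `φ` modulo an ideal of the base. -/
def quotMap (φ : A →ₐ[R] Λ) (I : Ideal R) :
    (A ⧸ I.map (algebraMap R A)) →ₐ[R ⧸ I] (Λ ⧸ I.map (algebraMap R Λ)) :=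
  { toRingHom := Ideal.quotientMap (I.map (algebraMap R Λ)) φ.toRingHom (Ideal.map_le_iff_le_comap.2 fun r hr => by
      rw [Ideal.mem_comap, Ideal.mem_comap, AlgHom.toRingHom_eq_coe, RingHom.coe_coe, φ.commutes]
      exact Ideal.mem_map_of_mem _ hr)
    commutes' := fun x => by
      obtain ⟨r, rfl⟩ := Ideal.Quotient.mk_surjective x
      change Ideal.Quotient.mk _ (φ (algebraMap R A r)) = Ideal.Quotient.mk _ (algebraMap R Λ r)
      rw [φ.commutes] }

theorem quotMap_mk (φ : A →ₐ[R] Λ) (I : Ideal R) (a : A) :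
    quotMap φ I (Ideal.Quotient.mk _ a) = Ideal.Quotient.mk _ (φ a) := rfl

/-- From a quotient to the original problem. -/
theorem resolvable_first [IsNoetherianRing R] [Algebra.FinitePresentation R A] (π : R) (J : Ideal R)
    (hJ : J = Ideal.span {π ^ 8}) (hπR : ∀ r : R, π ^ 2 * r = 0 → π * r = 0)
    (hπΛ : ∀ x : Λ, π ^ 2 • x = 0 → π • x = 0) (hπstd : IsStrictlyStandard R A (algebraMap R A π))
    (φ : A →ₐ[R] Λ) (𝔮 : Ideal Λ)
    (hres : Resolvable (R ⧸ J) (quotMap φ J) (𝔮.map (Ideal.Quotient.mk (J.map (algebraMap R Λ))))) :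
    Resolvable R φ 𝔮 := by
  refine resolvable_of_quotient π hπR hπΛ hπstd Ideal.Quotient.mk_surjective (Ideal.mk_ker.trans hJ)
    (Ideal.Quotient.mkₐ R _) Ideal.Quotient.mk_surjective ?_ (Ideal.Quotient.mkₐ R _) Ideal.Quotient.mk_surjective
    ?_ φ (quotMap φ J) (fun a => rfl) 𝔮 hres
  · change RingHom.ker (Ideal.Quotient.mk (J.map (algebraMap R A))) ≤ _
    rw [Ideal.mk_ker, Ideal.Quotient.algebraMap_eq, Ideal.mk_ker]
  · change RingHom.ker (Ideal.Quotient.mk (J.map (algebraMap R Λ))) = _
    rw [Ideal.mk_ker, hJ, Ideal.map_span, Set.image_singleton]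

/-- From a larger quotient to a smaller one. -/
theorem resolvable_next [IsNoetherianRing R] [Algebra.FinitePresentation R A] (π : R) (I J : Ideal R)
    (hJ : J = I ⊔ Ideal.span {π ^ 8}) (hπR : ∀ r : R, π ^ 2 * r ∈ I → π * r ∈ I)
    (hπΛ : ∀ x : Λ, algebraMap R Λ π ^ 2 * x ∈ I.map (algebraMap R Λ) → algebraMap R Λ π * x ∈ I.map (algebraMap R Λ))
    (hπstd : IsStrictlyStandard R A (algebraMap R A π)) (φ : A →ₐ[R] Λ) (𝔮 : Ideal Λ)
    (hres : Resolvable (R ⧸ J) (quotMap φ J) (𝔮.map (Ideal.Quotient.mk (J.map (algebraMap R Λ))))) :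
    Resolvable (R ⧸ I) (quotMap φ I) (𝔮.map (Ideal.Quotient.mk (I.map (algebraMap R Λ)))) := by
  have hIJ : I ≤ J := hJ ▸ le_sup_left
  let f : R ⧸ I →+* R ⧸ J := Ideal.Quotient.factor hIJ
  letI : Algebra (R ⧸ I) (R ⧸ J) := f.toAlgebra
  letI : Algebra (R ⧸ I) (A ⧸ J.map (algebraMap R A)) := Algebra.compHom _ f
  haveI : IsScalarTower (R ⧸ I) (R ⧸ J) (A ⧸ J.map (algebraMap R A)) := IsScalarTower.of_algebraMap_eq fun _ => rfl
  letI : Algebra (R ⧸ I) (Λ ⧸ J.map (algebraMap R Λ)) := Algebra.compHom _ f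
  haveI : IsScalarTower (R ⧸ I) (R ⧸ J) (Λ ⧸ J.map (algebraMap R Λ)) := IsScalarTower.of_algebraMap_eq fun _ => rfl
  haveI : Algebra.FinitePresentation (R ⧸ I) (A ⧸ I.map (algebraMap R A)) := by
    haveI : IsNoetherianRing A := Algebra.FiniteType.isNoetherianRing R A
    haveI : Algebra.FinitePresentation R (A ⧸ I.map (algebraMap R A)) :=
      Algebra.FinitePresentation.quotient (IsNoetherian.noetherian _)
    exact Algebra.FinitePresentation.of_restrict_scalars_finitePresentation R _ _
  let qA : (A ⧸ I.map (algebraMap R A)) →ₐ[R ⧸ I] (A ⧸ J.map (algebraMap R A)) :=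
    { toRingHom := Ideal.Quotient.factor (Ideal.map_mono hIJ)
      commutes' := fun x => by obtain ⟨r, rfl⟩ := Ideal.Quotient.mk_surjective x; rfl }
  let qΛ : (Λ ⧸ I.map (algebraMap R Λ)) →ₐ[R ⧸ I] (Λ ⧸ J.map (algebraMap R Λ)) :=
    { toRingHom := Ideal.Quotient.factor (Ideal.map_mono hIJ)
      commutes' := fun x => by obtain ⟨r, rfl⟩ := Ideal.Quotient.mk_surjective x; rfl }
  have hfker : RingHom.ker (algebraMap (R ⧸ I) (R ⧸ J)) = Ideal.span {Ideal.Quotient.mk I π ^ 8} := by
    rw [RingHom.algebraMap_toAlgebra, Ideal.Quotient.factor_ker, hJ, Ideal.map_sup, Ideal.map_span,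
      Set.image_singleton, Ideal.map_quotient_self, bot_sup_eq, map_pow]
  refine resolvable_of_quotient (Ideal.Quotient.mk I π) ?_ ?_ ?_ (Ideal.Quotient.factor_surjective hIJ) hfker
    qA (Ideal.Quotient.factor_surjective (Ideal.map_mono hIJ)) ?_ qΛ (Ideal.Quotient.factor_surjective (Ideal.map_mono hIJ)) ?_
    (quotMap φ I) (quotMap φ J) ?_ _ ?_
  · intro x hx
    obtain ⟨r, rfl⟩ := Ideal.Quotient.mk_surjective x
    rw [← map_pow, ← map_mul, Ideal.Quotient.eq_zero_iff_mem] at hx
    rw [← map_mul, Ideal.Quotient.eq_zero_iff_mem]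
    exact hπR r hx
  · intro x hx
    obtain ⟨y, rfl⟩ := Ideal.Quotient.mk_surjective x
    rw [Algebra.smul_def, ← map_pow] at hx
    change Ideal.Quotient.mk _ (algebraMap R Λ (π ^ 2)) * Ideal.Quotient.mk _ y = 0 at hx
    rw [← map_mul, Ideal.Quotient.eq_zero_iff_mem, map_pow] at hx
    rw [Algebra.smul_def]
    change Ideal.Quotient.mk _ (algebraMap R Λ π) * Ideal.Quotient.mk _ y = 0
    rw [← map_mul, Ideal.Quotient.eq_zero_iff_mem]
    exact hπΛ y hx
  · exact isStrictlyStandard_quotient (R := R) Ideal.Quotient.mk_surjective (Ideal.Quotient.mkₐ R _)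
      Ideal.Quotient.mk_surjective (by
        change RingHom.ker (Ideal.Quotient.mk (I.map (algebraMap R A))) ≤ _
        rw [Ideal.mk_ker, Ideal.Quotient.algebraMap_eq, Ideal.mk_ker]) hπstd
  · change RingHom.ker (Ideal.Quotient.factor (Ideal.map_mono hIJ)) ≤ _
    rw [Ideal.Quotient.factor_ker, RingHom.algebraMap_toAlgebra, Ideal.Quotient.factor_ker, Ideal.map_map, Ideal.map_map]
    exact le_of_eq (congrArg (fun g : R →+* A ⧸ I.map (algebraMap R A) => J.map g) rfl)
  · change RingHom.ker (Ideal.Quotient.factor (Ideal.map_mono hIJ)) = _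
    rw [Ideal.Quotient.factor_ker, hJ, Ideal.map_sup, Ideal.map_sup, Ideal.map_quotient_self, bot_sup_eq, Ideal.map_span,
      Set.image_singleton, Ideal.map_span, Set.image_singleton, ← map_pow]
    rfl
  · intro a
    obtain ⟨a, rfl⟩ := Ideal.Quotient.mk_surjective a
    rfl
  · rw [Ideal.map_map]
    exact hres

end chain

end Groth.Agent.SmoothingLib
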