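import Mathlib
import Groth.Agent.SmoothingLib.StrictlyStandard

/-! The symmetric algebra of the conormal module has free differentials over the smooth locus. -/

set_option autoImplicit false
universe u

noncomputable section

namespace Groth.Agent.SmoothingLib

open MvPolynomial TensorProduct

/-- Formal smoothness: relations with differential in `I Ω` are in `I²`. -/
theorem mem_sq_ker_of_formallySmooth {R P S : Type u} [CommRing R] [CommRing P] [Algebra R P]
    [CommRing S] [Algebra R S] [Algebra P S] [IsScalarTower R P S] [Algebra.FormallySmooth R P]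
    [Algebra.FormallySmooth R S] (hsurj : Function.Surjective (algebraMap P S)) {x : P}
    (hx : x ∈ RingHom.ker (algebraMap P S))
    (hD : KaehlerDifferential.D R P x ∈
      RingHom.ker (algebraMap P S) • (⊤ : Submodule P (KaehlerDifferential R P))) :
    x ∈ RingHom.ker (algebraMap P S) ^ 2 := by
  set I := RingHom.ker (algebraMap P S)
  obtain ⟨l, hl⟩ := (Algebra.FormallySmooth.iff_split_injection (R := R) hsurj).1 inferInstance
  let Φ : KaehlerDifferential R P →ₗ[P] I.Cotangent := l ∘ₗ TensorProduct.mk P S (KaehlerDifferential R P) 1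
  have hΦ : Φ (KaehlerDifferential.D R P x) = I.toCotangent ⟨x, hx⟩ := by
    have := LinearMap.congr_fun hl (I.toCotangent ⟨x, hx⟩)
    rwa [LinearMap.comp_apply, KaehlerDifferential.kerCotangentToTensor_toCotangent] at this
  refine (Ideal.toCotangent_eq_zero I ⟨x, hx⟩).1 ?_
  rw [← hΦ]
  refine Submodule.smul_induction_on hD (fun r hr z _ => ?_) (fun p q hp hq => by rw [map_add, hp, hq, add_zero])
  rw [map_smul]
  obtain ⟨y, hy⟩ := I.toCotangent_surjective (Φ z)
  rw [← hy, ← map_smul, Ideal.toCotangent_eq_zero, pow_two]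
  exact Ideal.mul_mem_mul hr y.2

section free

variable {R : Type u} [CommRing R]

/-- Differentials of a generated algebra over a base with split differentials are free. -/
theorem free_kaehler_of_generators {S C : Type u} [CommRing S] [Algebra R S] [CommRing C] [Algebra R C]
    [Algebra S C] [IsScalarTower R S C] {n m : ℕ}
    (Φ : (Fin n → S) →ₗ[S] KaehlerDifferential R S) (s : KaehlerDifferential R S →ₗ[S] (Fin n → S))
    (hs : ∀ ω, Φ (s ω) = ω) (g : Fin m → Fin n → S) (hg : ∀ i, Φ (g i) = 0)
    (hker : ∀ v, Φ v = 0 → v ∈ Submodule.span S (Set.range g))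
    (t : Fin m → C) (ν : Fin n → C) (ht : ∀ i, t i = ∑ l, algebraMap S C (g i l) * ν l)
    (δ : Derivation R C (Fin n → C))
    (hδS : ∀ a, δ (algebraMap S C a) = fun l => algebraMap S C (s (KaehlerDifferential.D R S a) l))
    (hδt : ∀ i, δ (t i) = (fun l => algebraMap S C (g i l)) +
      ∑ l, ν l • fun j => algebraMap S C (s (KaehlerDifferential.D R S (g i l)) j))
    (hgen : ∀ Q : Submodule C (KaehlerDifferential R C),
      (∀ a, KaehlerDifferential.D R C (algebraMap S C a) ∈ Q) → (∀ i, KaehlerDifferential.D R C (t i) ∈ Q) → Q = ⊤) :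
    Module.Free C (KaehlerDifferential R C) := by
  classical
  let ι : (Fin n → S) →ₗ[S] (Fin n → C) := LinearMap.pi fun l => Algebra.linearMap S C ∘ₗ LinearMap.proj l
  have hι : ∀ v, ι v = fun l => algebraMap S C (v l) := fun v => rfl
  have hιsum : ∀ v : Fin n → C, v = ∑ l, v l • ι (Pi.single l 1) := fun v => by
    funext j
    simp [hι, Finset.sum_apply, Pi.single_apply, apply_ite (algebraMap S C)]
  let α : KaehlerDifferential R S →ₗ[S] KaehlerDifferential R C := KaehlerDifferential.map R R S C
  let β : (Fin n → S) →ₗ[S] KaehlerDifferential R C :=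
    Fintype.linearCombination S fun l => KaehlerDifferential.D R C (ν l)
  let ξ : (Fin n → S) →ₗ[S] KaehlerDifferential R C := α ∘ₗ Φ + β ∘ₗ (LinearMap.id - s ∘ₗ Φ)
  let Θ : (Fin n → C) →ₗ[C] KaehlerDifferential R C :=
    Fintype.linearCombination C fun l => ξ (Pi.single l 1)
  have hΘ : ∀ v, Θ (ι v) = ξ v := fun v => by
    conv_rhs => rw [pi_eq_sum_univ' v, map_sum]
    simp only [Θ, Fintype.linearCombination_apply, hι, map_smul, algebraMap_smul]
  have hξs : ∀ ω, ξ (s ω) = α ω := fun ω => by
    simp [ξ, hs]
  have hξg : ∀ i, ξ (g i) = β (g i) := fun i => by simp [ξ, hg]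
  let Ψ : KaehlerDifferential R C →ₗ[C] (Fin n → C) := δ.liftKaehlerDifferential
  have hΨD : ∀ c, Ψ (KaehlerDifferential.D R C c) = δ c := fun c => Derivation.liftKaehlerDifferential_comp_D _ _
  have hΘΨ : ∀ ω, Θ (Ψ ω) = ω := by
    have h := hgen (LinearMap.eqLocus (Θ ∘ₗ Ψ) LinearMap.id) (fun a => ?_) (fun i => ?_)
    · intro ω
      have hω : ω ∈ LinearMap.eqLocus (Θ ∘ₗ Ψ) LinearMap.id := by rw [h]; trivial
      exact hω
    · change Θ (Ψ _) = _
      rw [hΨD, hδS, ← hι, hΘ, hξs]
      exact KaehlerDifferential.map_D R R S C a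
    · change Θ (Ψ _) = _
      rw [hΨD, hδt, ← hι, map_add, map_sum, hΘ, hξg]
      simp only [map_smul, ← hι, hΘ, hξs, LinearMap.id_apply]
      rw [show α = KaehlerDifferential.map R R S C from rfl]
      simp only [KaehlerDifferential.map_D]
      conv_rhs => rw [ht, map_sum]
      simp only [Derivation.leibniz, Finset.sum_add_distrib, β, Fintype.linearCombination_apply, algebraMap_smul]
  have hsurj : Function.Surjective Ψ := by
    rw [← LinearMap.range_eq_top, eq_top_iff]
    have hS : ∀ ω, ι (s ω) ∈ LinearMap.range Ψ := fun ω => by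
      have hω : ω ∈ Submodule.span S (Set.range (KaehlerDifferential.D R S)) := by
        rw [KaehlerDifferential.span_range_derivation]; trivial
      induction hω using Submodule.span_induction with
      | mem y hy =>
        obtain ⟨a, rfl⟩ := hy
        exact ⟨KaehlerDifferential.D R C (algebraMap S C a), by rw [hΨD, hδS, hι]⟩
      | zero => rw [map_zero, map_zero]; exact zero_mem _
      | add p q _ _ hp hq => rw [map_add, map_add]; exact add_mem hp hq
      | smul r p _ hp =>
        rw [map_smul, map_smul, ← algebraMap_smul C r]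
        exact Submodule.smul_mem _ _ hp
    have hg' : ∀ i, ι (g i) ∈ LinearMap.range Ψ := fun i => by
      rw [show ι (g i) = δ (t i) - ∑ l, ν l • fun j => algebraMap S C (s (KaehlerDifferential.D R S (g i l)) j) by
        rw [hδt, hι, add_sub_cancel_right]]
      refine sub_mem ⟨_, hΨD _⟩ (Submodule.sum_mem _ fun l _ => Submodule.smul_mem _ _ ?_)
      rw [← hι]
      exact hS _
    intro v _
    rw [hιsum v]
    refine Submodule.sum_mem _ fun l _ => Submodule.smul_mem _ _ ?_
    have h1 : (Pi.single l 1 : Fin n → S) - s (Φ (Pi.single l 1)) ∈ Submodule.span S (Set.range g) :=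
      hker _ (by rw [map_sub, hs, sub_self])
    obtain ⟨τ, hτ⟩ := (Submodule.mem_span_range_iff_exists_fun S).1 h1
    have e1 : (Pi.single l 1 : Fin n → S) = s (Φ (Pi.single l 1)) + ∑ i, τ i • g i := by rw [hτ]; abel
    rw [e1, map_add, map_sum]
    simp only [map_smul]
    refine add_mem (hS _) (Submodule.sum_mem _ fun i _ => ?_)
    rw [← algebraMap_smul C (τ i)]
    exact Submodule.smul_mem _ _ (hg' i)
  exact Module.Free.of_equiv (LinearEquiv.ofBijective Ψ
    ⟨fun p q h => by rw [← hΘΨ p, h, hΘΨ], hsurj⟩).symm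

end free

section helpers

theorem grad_eq_zero_of_mem_sq {R S : Type u} [CommRing R] [CommRing S] [Algebra R S] {n : ℕ}
    (φ : MvPolynomial (Fin n) R →ₐ[R] S) (I : Ideal (MvPolynomial (Fin n) R)) (hI : ∀ x ∈ I, φ x = 0)
    {x : MvPolynomial (Fin n) R} (hx : x ∈ I ^ 2) : NeronLib.grad φ x = 0 := by
  rw [pow_two] at hx
  refine Submodule.mul_induction_on hx (fun p hp q hq => ?_) (fun p q hp hq => by
    rw [NeronLib.grad_add, hp, hq, add_zero])
  rw [NeronLib.grad_mul, hI p hp, hI q hq, zero_smul, zero_smul, add_zero]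

/-- A derivation in the form used below kills linear relations of the gradients. -/
theorem rel_vanishes {R S C M : Type u} [CommRing R] [CommRing S] [Algebra R S] [CommRing C] [Algebra S C]
    [AddCommGroup M] [Module C M] [Module S M] [Module R M] [IsScalarTower S C M] {n m : ℕ} (g : Fin m → Fin n → S)
    (c : Fin m → S) (hc : ∀ l, ∑ i, c i * g i l = 0) (D : Derivation R S M) (e : Fin n → M) (ν : Fin n → C) :
    ∑ i, (algebraMap S C (c i) • (∑ l, algebraMap S C (g i l) • e l + ∑ l, ν l • D (g i l)) +
      (∑ l, algebraMap S C (g i l) * ν l) • D (c i)) = 0 := by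
  have hs : ∀ (r : S) (x : M), r • x = algebraMap S C r • x := fun r x => (algebraMap_smul C r x).symm
  have h1 : ∀ i, algebraMap S C (c i) • (∑ l, algebraMap S C (g i l) • e l + ∑ l, ν l • D (g i l)) +
      (∑ l, algebraMap S C (g i l) * ν l) • D (c i) =
      ∑ l, (algebraMap S C (c i * g i l) • e l + ν l • D (c i * g i l)) := fun i => by
    rw [smul_add, Finset.smul_sum, Finset.smul_sum, Finset.sum_smul, ← Finset.sum_add_distrib, ← Finset.sum_add_distrib]
    refine Finset.sum_congr rfl fun l _ => ?_
    rw [map_mul, Derivation.leibniz, hs, hs]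
    module
  simp only [h1]
  rw [Finset.sum_comm]
  refine Finset.sum_eq_zero fun l _ => ?_
  rw [Finset.sum_add_distrib, ← Finset.sum_smul, ← map_sum, hc, map_zero, zero_smul, zero_add, ← Finset.smul_sum,
    ← map_sum, hc, map_zero, smul_zero]

/-- Derivations on a localization are determined on the base. -/
theorem derivation_ext_away {R A S M : Type u} [CommRing R] [CommRing A] [CommRing S] [Algebra R S] [Algebra A S]
    [AddCommGroup M] [Module S M] [Module R M] (a : A) [IsLocalization.Away a S] (D D' : Derivation R S M)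
    (h : ∀ x, D (algebraMap A S x) = D' (algebraMap A S x)) (z : S) : D z = D' z := by
  obtain ⟨k, x, hx⟩ := IsLocalization.Away.surj a z
  have h2 : D (algebraMap A S a ^ k) = D' (algebraMap A S a ^ k) := by rw [← map_pow]; exact h _
  have h1 := h x
  rw [← hx, Derivation.leibniz, Derivation.leibniz, h2, add_right_inj] at h1
  exact ((IsLocalization.Away.algebraMap_isUnit a).pow k).smul_left_cancel.1 h1

/-- A derivation from a ring map to a trivial square zero extension. -/
theorem exists_derivation_of_sqZero {R C M : Type u} [CommRing R] [CommRing C] [Algebra R C] [AddCommGroup M]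
    [Module C M] [Module Cᵐᵒᵖ M] [IsCentralScalar C M] [Module R M] [IsScalarTower R C M]
    (L : C →+* TrivSqZeroExt C M) (hfst : ∀ c, (L c).fst = c) (hR : ∀ r, (L (algebraMap R C r)).snd = 0) :
    ∃ δ : Derivation R C M, ∀ c, δ c = (L c).snd := by
  have hmul : ∀ c c', (L (c * c')).snd = c • (L c').snd + c' • (L c).snd := fun c c' => by
    rw [map_mul, TrivSqZeroExt.snd_mul, hfst, hfst, op_smul_eq_smul]
  refine ⟨Derivation.mk'
    { toFun := fun c => (L c).snd
      map_add' := fun c c' => by rw [map_add, TrivSqZeroExt.snd_add]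
      map_smul' := fun r c => by
        rw [Algebra.smul_def, hmul, hR, smul_zero, add_zero, algebraMap_smul, RingHom.id_apply] }
    (fun c c' => hmul c c'), fun c => rfl⟩

end helpers

section conormal
variable {R A : Type u} [CommRing R] [CommRing A] [Algebra R A] {n m : ℕ}
  (π : MvPolynomial (Fin n) R →ₐ[R] A) (f : Fin m → MvPolynomial (Fin n) R)

/-- Linear relations among the conormal classes of `f`. -/
def conormalRels : Ideal (MvPolynomial (Fin m) A) :=
  Ideal.span {y | ∃ b : Fin m → MvPolynomial (Fin n) R,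
    ∑ i, b i * f i ∈ RingHom.ker π.toRingHom ^ 2 ∧ y = ∑ i, C (π (b i)) * X i}

/-- The symmetric algebra of the conormal module. -/
abbrev ConormalSym : Type u := MvPolynomial (Fin m) A ⧸ conormalRels π f

theorem free_kaehler_conormalSym (hπ : Function.Surjective π)
    (hker : RingHom.ker π.toRingHom = Ideal.span (Set.range f)) (a : A) [Algebra.Smooth R (Localization.Away a)] :
    Module.Free (Localization.Away (algebraMap A (ConormalSym π f) a))
      (KaehlerDifferential R (Localization.Away (algebraMap A (ConormalSym π f) a))) := by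
  classical
  let Pn := MvPolynomial (Fin n) R
  let I : Ideal Pn := RingHom.ker π.toRingHom
  let S := Localization.Away a
  let C0 := ConormalSym π f
  let a' : C0 := algebraMap A C0 a
  let C := Localization.Away a'
  let j : S →+* C := Localization.awayMap (algebraMap A C0) a
  letI : Algebra S C := j.toAlgebra
  have hj : ∀ x, algebraMap S C (algebraMap A S x) = algebraMap A C x := fun x => by
    rw [RingHom.algebraMap_toAlgebra, IsScalarTower.algebraMap_apply A C0 C]
    exact IsLocalization.map_eq _ x
  haveI : IsScalarTower A S C := IsScalarTower.of_algebraMap_eq fun x => (hj x).symm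
  haveI : IsScalarTower R S C := IsScalarTower.of_algebraMap_eq fun r => by
    rw [IsScalarTower.algebraMap_apply R A S, hj, ← IsScalarTower.algebraMap_apply]
  let φ := (IsScalarTower.toAlgHom R A S).comp π
  have hIφ : ∀ x ∈ I, φ x = 0 := fun x hx => by
    change algebraMap A S (π x) = 0
    rw [show π x = 0 from hx, map_zero]
  have hfI : ∀ i, f i ∈ I := fun i => by
    change f i ∈ RingHom.ker π.toRingHom
    rw [hker]; exact Ideal.subset_span ⟨i, rfl⟩
  obtain ⟨Φ₀, hΦ₀, hΦker⟩ := exists_tensorKaehler_presentation (Λ := S) π hπ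
  haveI : Algebra.FormallyEtale A S := Algebra.FormallyEtale.of_isLocalization (Submonoid.powers a)
  let eΩ := (KaehlerDifferential.isBaseChange_of_formallyEtale R A S).equiv
  let Φ : (Fin n → S) →ₗ[S] KaehlerDifferential R S := eΩ.toLinearMap ∘ₗ Φ₀
  obtain ⟨s, hs⟩ := Module.projective_lifting_property Φ LinearMap.id
    (eΩ.surjective.comp hΦ₀ : Function.Surjective Φ)
  let g : Fin m → Fin n → S := fun i => NeronLib.grad φ (f i)
  have hkerΦ : LinearMap.ker Φ = Submodule.span S (Set.range g) := by
    rw [LinearMap.ker_comp, LinearEquiv.ker, ← LinearMap.ker, hΦker]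
    refine le_antisymm (Submodule.span_le.2 ?_) (Submodule.span_le.2 ?_)
    · rintro _ ⟨x, hx, rfl⟩
      obtain ⟨b, rfl⟩ := Ideal.mem_span_range_iff_exists_fun.1 (hker ▸ hx : x ∈ Ideal.span (Set.range f))
      rw [NeronLib.grad_sum]
      refine Submodule.sum_mem _ fun i _ => ?_
      rw [NeronLib.grad_mul, show (IsScalarTower.toAlgHom R A S).comp π (f i) = 0 from hIφ _ (hfI i), zero_smul,
        add_zero]
      exact Submodule.smul_mem _ _ (Submodule.subset_span ⟨i, rfl⟩)
    · rintro _ ⟨i, rfl⟩
      exact Submodule.subset_span ⟨f i, hfI i, rfl⟩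
  have hg : ∀ i, Φ (g i) = 0 := fun i => by
    rw [← LinearMap.mem_ker, hkerΦ]; exact Submodule.subset_span ⟨i, rfl⟩
  have hs' : ∀ ω, Φ (s ω) = ω := fun ω => LinearMap.congr_fun hs ω
  have hw : ∀ l, (Pi.single l 1 : Fin n → S) - s (Φ (Pi.single l 1)) ∈ Submodule.span S (Set.range g) := fun l => by
    rw [← hkerΦ, LinearMap.mem_ker, map_sub, hs', sub_self]
  choose τ hτ using fun l => (Submodule.mem_span_range_iff_exists_fun S).1 (hw l)
  let tC0 : Fin m → C0 := fun i => Ideal.Quotient.mkₐ A (conormalRels π f) (X i)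
  let t : Fin m → C := fun i => algebraMap C0 C (tC0 i)
  let ν : Fin n → C := fun l => ∑ i, algebraMap S C (τ l i) * t i
  -- relations in `C` from relations of gradients
  have hrel : ∀ c : Fin m → S, (∑ i, c i • g i) = 0 → ∑ i, algebraMap S C (c i) * t i = 0 := by
    intro c hc
    obtain ⟨⟨_, k, rfl⟩, hk⟩ := IsLocalization.exist_integer_multiples_of_finite (Submonoid.powers a) c
    choose d hd using hk
    choose b hb using fun i => hπ (d i)
    obtain ⟨a₀, ha₀⟩ := hπ a
    have hb' : ∀ i, φ (b i) = algebraMap A S (a ^ k) * c i := fun i => by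
      change algebraMap A S (π (b i)) = _
      rw [hb]
      exact (hd i).trans (Algebra.smul_def _ _)
    have hgrad : NeronLib.grad φ (∑ i, b i * f i) = 0 := by
      rw [NeronLib.grad_sum]
      simp only [NeronLib.grad_mul, hIφ _ (hfI _), zero_smul, add_zero, hb', mul_smul, ← Finset.smul_sum]
      rw [show ∑ i, c i • NeronLib.grad φ (f i) = 0 from hc, smul_zero]
    let P' := Localization.Away a₀
    haveI : IsLocalization.Away (π.toRingHom a₀) S := by
      rw [show π.toRingHom a₀ = a from ha₀]; infer_instance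
    let χ : P' →+* S := IsLocalization.Away.map P' S π.toRingHom a₀
    letI := χ.toAlgebra
    have hχ : ∀ y, χ (algebraMap Pn P' y) = algebraMap A S (π y) := fun y => by
      simp only [χ, IsLocalization.Away.map]
      exact IsLocalization.map_eq _ y
    haveI : IsScalarTower R P' S := IsScalarTower.of_algebraMap_eq fun r => by
      rw [IsScalarTower.algebraMap_apply R Pn P', RingHom.algebraMap_toAlgebra, hχ, AlgHom.commutes]
      exact IsScalarTower.algebraMap_apply R A S r
    haveI : Algebra.FormallyEtale Pn P' := Algebra.FormallyEtale.of_isLocalization (Submonoid.powers a₀)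
    haveI : Algebra.FormallySmooth R P' := Algebra.FormallySmooth.comp R Pn P'
    have hu : IsUnit (algebraMap Pn P' a₀) := IsLocalization.Away.algebraMap_isUnit a₀
    have hsurj : Function.Surjective (algebraMap P' S) := by
      intro z
      obtain ⟨e, y, hy⟩ := IsLocalization.Away.surj a z
      obtain ⟨y, rfl⟩ := hπ y
      refine ⟨algebraMap Pn P' y * ↑(hu.pow e).unit⁻¹, ?_⟩
      refine ((IsLocalization.Away.algebraMap_isUnit a).pow e : IsUnit (algebraMap A S a ^ e)).mul_left_inj.1 ?_
      rw [hy, RingHom.algebraMap_toAlgebra, map_mul, hχ]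
      have h1 : χ ↑(hu.pow e).unit⁻¹ * algebraMap A S a ^ e = 1 := by
        rw [← (hχ a₀).trans (congrArg (algebraMap A S) ha₀), ← map_pow χ, ← map_mul χ, IsUnit.val_inv_mul, map_one]
      rw [mul_assoc, h1, mul_one]
    have hkP : RingHom.ker (algebraMap P' S) = I.map (algebraMap Pn P') := by
      refine le_antisymm (fun x hx => ?_) (Ideal.map_le_iff_le_comap.2 fun x hx => ?_)
      · obtain ⟨e, y, hy⟩ := IsLocalization.Away.surj a₀ x
        have h0 : algebraMap A S (π y) = 0 := by
          rw [← hχ, ← hy, map_mul]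
          rw [RingHom.mem_ker, RingHom.algebraMap_toAlgebra] at hx
          rw [hx, zero_mul]
        obtain ⟨⟨_, e', rfl⟩, he⟩ := (IsLocalization.map_eq_zero_iff (Submonoid.powers a) S _).1 h0
        have h2 := Ideal.mem_map_of_mem (algebraMap Pn P') (show a₀ ^ e' * y ∈ I by
          change π (a₀ ^ e' * y) = 0
          rw [map_mul, map_pow, ha₀]; exact he)
        rw [map_mul, map_pow, Ideal.unit_mul_mem_iff_mem _ (hu.pow e'), ← hy,
          Ideal.mul_unit_mem_iff_mem _ (hu.pow e)] at h2
        exact h2
      · rw [Ideal.mem_comap, RingHom.mem_ker, RingHom.algebraMap_toAlgebra, hχ, show π x = 0 from hx, map_zero]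
    let y : Pn := ∑ i, b i * f i
    have hyI : y ∈ I := I.sum_mem fun i _ => I.mul_mem_left _ (hfI i)
    have h2 : algebraMap Pn P' y ∈ RingHom.ker (algebraMap P' S) ^ 2 := by
      refine mem_sq_ker_of_formallySmooth (R := R) hsurj (hkP ▸ Ideal.mem_map_of_mem _ hyI) ?_
      rw [← KaehlerDifferential.map_D R R Pn P', NeronLib.D_eq_sum, map_sum]
      refine Submodule.sum_mem _ fun l _ => ?_
      rw [map_smul, KaehlerDifferential.map_D,
        ← algebraMap_smul (A := P') (pderiv l y) (KaehlerDifferential.D R P' (algebraMap Pn P' (X l)))]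
      refine Submodule.smul_mem_smul ?_ Submodule.mem_top
      rw [RingHom.mem_ker, RingHom.algebraMap_toAlgebra, hχ]
      exact congrFun hgrad l
    rw [hkP, ← Ideal.map_pow] at h2
    obtain ⟨_, ⟨e, rfl⟩, he⟩ :=
      (IsLocalization.algebraMap_mem_map_algebraMap_iff (Submonoid.powers a₀) P' (I ^ 2) y).1 h2
    have h3 : (∑ i, MvPolynomial.C (π (a₀ ^ e * b i)) * X i : MvPolynomial (Fin m) A) ∈ conormalRels π f :=
      Ideal.subset_span ⟨fun i => a₀ ^ e * b i, by
        simp only [mul_assoc, ← Finset.mul_sum]; exact he, rfl⟩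
    have h4 : ∑ i, algebraMap A C (a ^ e * π (b i)) * t i = 0 := by
      have h5 : Ideal.Quotient.mkₐ A (conormalRels π f) (∑ i, MvPolynomial.C (π (a₀ ^ e * b i)) * X i) = 0 :=
        Ideal.Quotient.eq_zero_iff_mem.2 h3
      have h6 := congrArg (algebraMap C0 C) h5
      rw [map_sum, map_sum, map_zero] at h6
      simp only [map_mul π, map_pow π, ha₀, map_mul (Ideal.Quotient.mkₐ A (conormalRels π f)),
        map_mul (algebraMap C0 C), ← MvPolynomial.algebraMap_eq, AlgHom.commutes] at h6
      simpa only [IsScalarTower.algebraMap_apply A C0 C] using h6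
    have h7 : algebraMap A C (a ^ e) * algebraMap A C (a ^ k) * ∑ i, algebraMap S C (c i) * t i = 0 := by
      rw [← h4, Finset.mul_sum]
      refine Finset.sum_congr rfl fun i _ => ?_
      rw [map_mul (algebraMap A C) (a ^ e), ← hj (π (b i)), show algebraMap A S (π (b i)) = _ from hb' i, map_mul, hj]
      ring
    have hua : IsUnit (algebraMap A C a) := by
      rw [IsScalarTower.algebraMap_apply A C0 C]
      exact IsLocalization.Away.algebraMap_isUnit a'
    rw [map_pow, map_pow] at h7
    exact ((hua.pow e).mul (hua.pow k)).mul_right_eq_zero.1 h7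
  have hKg : ∀ i, (∑ l, g i l • ((Pi.single l 1 : Fin n → S) - s (Φ (Pi.single l 1)))) = g i := fun i => by
    simp only [smul_sub, Finset.sum_sub_distrib, ← map_smul, ← map_sum, ← pi_eq_sum_univ', hg, map_zero, sub_zero]
  have ht : ∀ i, t i = ∑ l, algebraMap S C (g i l) * ν l := by
    intro i
    have h := hrel (fun i' => (Pi.single i 1 : Fin m → S) i' - ∑ l, g i l * τ l i') (by
      have e1 : ∑ x, (∑ l, g i l * τ l x) • g x = g i := by
        rw [Finset.sum_congr rfl fun x _ => (Finset.sum_smul (s := Finset.univ) (f := fun l => g i l * τ l x) (x := g x)).trans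
          (Finset.sum_congr rfl fun l _ => mul_smul (g i l) (τ l x) (g x))]
        rw [Finset.sum_comm]
        rw [Finset.sum_congr rfl fun l _ => (Finset.smul_sum).symm.trans (congrArg (g i l • ·) (hτ l))]
        exact hKg i
      simp only [sub_smul, Finset.sum_sub_distrib]
      rw [e1, Finset.sum_eq_single i (fun k _ hk => by simp [Pi.single_eq_of_ne hk]) (by simp), Pi.single_eq_same,
        one_smul, sub_self])
    simp only [map_sub, map_sum, map_mul, sub_mul, Finset.sum_sub_distrib, Finset.sum_mul] at h
    rw [Finset.sum_eq_single i (fun k _ hk => by simp [Pi.single_eq_of_ne hk]) (by simp), Pi.single_eq_same,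
      map_one, one_mul, sub_eq_zero] at h
    rw [h, Finset.sum_comm]
    simp only [ν, mul_assoc]
    exact Finset.sum_congr rfl fun l _ => (Finset.mul_sum _ _ _).symm
  -- the derivation on `C`
  let ι : (Fin n → S) →ₗ[S] (Fin n → C) := LinearMap.pi fun l => Algebra.linearMap S C ∘ₗ LinearMap.proj l
  let DS : Derivation R S (Fin n → C) := (ι ∘ₗ s).compDer (KaehlerDifferential.D R S)
  let e : Fin n → (Fin n → C) := fun l => Pi.single l 1
  let G : Fin m → Fin n → C := fun i => ∑ l, algebraMap S C (g i l) • e l + ∑ l, ν l • DS (g i l)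
  let k0 : A →+* TrivSqZeroExt C (Fin n → C) :=
    { toFun := fun x => TrivSqZeroExt.inl (algebraMap A C x) + TrivSqZeroExt.inr (DS (algebraMap A S x))
      map_one' := by simp
      map_zero' := by simp
      map_add' := fun x y => by
        refine TrivSqZeroExt.ext ?_ ?_ <;> simp <;> ring
      map_mul' := fun x y => by
        refine TrivSqZeroExt.ext ?_ ?_
        · simp; ring
        · simp only [TrivSqZeroExt.snd_add, TrivSqZeroExt.snd_inl, TrivSqZeroExt.snd_inr, zero_add,
            TrivSqZeroExt.snd_mul, TrivSqZeroExt.fst_add, TrivSqZeroExt.fst_inl, TrivSqZeroExt.fst_inr, add_zero,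
            map_mul, Derivation.leibniz, op_smul_eq_smul]
          rw [← algebraMap_smul C (algebraMap A S x), ← algebraMap_smul C (algebraMap A S y), hj, hj] }
  let L0 : MvPolynomial (Fin m) A →+* TrivSqZeroExt C (Fin n → C) :=
    MvPolynomial.eval₂Hom k0 fun i => TrivSqZeroExt.inl (t i) + TrivSqZeroExt.inr (G i)
  let ev : MvPolynomial (Fin m) A →+* C := (algebraMap C0 C).comp (Ideal.Quotient.mk (conormalRels π f))
  have hfst0 : ∀ p, (L0 p).fst = ev p := by
    intro p
    induction p using MvPolynomial.induction_on with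
    | C x =>
      simp only [L0, eval₂Hom_C, ev, RingHom.comp_apply]
      change _ = algebraMap C0 C (algebraMap A C0 x)
      rw [← IsScalarTower.algebraMap_apply]
      simp [k0]
    | add p q hp hq => rw [map_add, TrivSqZeroExt.fst_add, hp, hq, map_add]
    | mul_X p i hp =>
      rw [map_mul, TrivSqZeroExt.fst_mul, hp, map_mul]
      congr 1
      simp only [L0, eval₂Hom_X', TrivSqZeroExt.fst_add, TrivSqZeroExt.fst_inl, TrivSqZeroExt.fst_inr, add_zero]
      rfl
  have hL0rel : ∀ y ∈ conormalRels π f, L0 y = 0 := by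
    intro y hy
    induction hy using Submodule.span_induction with
    | mem z hz =>
      refine TrivSqZeroExt.ext ?_ ?_
      · rw [hfst0, TrivSqZeroExt.fst_zero]
        simp only [ev, RingHom.comp_apply]
        rw [Ideal.Quotient.eq_zero_iff_mem.2 (show z ∈ conormalRels π f from Ideal.subset_span hz), map_zero]
      obtain ⟨b, hb, rfl⟩ := hz
      have hbg : ∀ l, ∑ i, φ (b i) * g i l = 0 := fun l => by
        have h1 : NeronLib.grad φ (∑ i, b i * f i) = 0 := grad_eq_zero_of_mem_sq φ I hIφ hb
        rw [NeronLib.grad_sum] at h1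
        simp only [NeronLib.grad_mul, hIφ _ (hfI _), zero_smul, add_zero] at h1
        simpa [Finset.sum_apply, g] using congrFun h1 l
      rw [map_sum, TrivSqZeroExt.snd_sum, TrivSqZeroExt.snd_zero]
      refine Eq.trans (Finset.sum_congr rfl fun i _ => ?_) (rel_vanishes g (fun i => φ (b i)) hbg DS e ν)
      rw [map_mul, TrivSqZeroExt.snd_mul, op_smul_eq_smul]
      simp only [L0, k0, eval₂Hom_C, eval₂Hom_X', RingHom.coe_mk, MonoidHom.coe_mk, OneHom.coe_mk,
        TrivSqZeroExt.fst_add, TrivSqZeroExt.fst_inl, TrivSqZeroExt.fst_inr, add_zero, TrivSqZeroExt.snd_add,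
        TrivSqZeroExt.snd_inl, TrivSqZeroExt.snd_inr, zero_add]
      rw [← ht i, show algebraMap S C (φ (b i)) = algebraMap A C (π (b i)) from hj _]
      rfl
    | zero => exact map_zero _
    | add u v _ _ hu hv => rw [map_add, hu, hv, add_zero]
    | smul c u _ ih => rw [smul_eq_mul, map_mul, ih, mul_zero]
  let L1 : C0 →+* TrivSqZeroExt C (Fin n → C) := Ideal.Quotient.lift _ L0 hL0rel
  have hfst1 : ∀ c, (L1 c).fst = algebraMap C0 C c := fun c => by
    obtain ⟨p, rfl⟩ := Ideal.Quotient.mk_surjective c
    exact hfst0 p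
  have hunit : IsUnit (L1 a') := by
    rw [TrivSqZeroExt.isUnit_iff_isUnit_fst, hfst1]
    exact IsLocalization.Away.algebraMap_isUnit a'
  let L : C →+* TrivSqZeroExt C (Fin n → C) := IsLocalization.Away.lift a' hunit
  have hL : ∀ c, L (algebraMap C0 C c) = L1 c := fun c => IsLocalization.Away.lift_eq a' hunit c
  have hfst : ∀ c, (L c).fst = c := by
    have h : (TrivSqZeroExt.fstHom C C (Fin n → C)).toRingHom.comp L = RingHom.id C :=
      IsLocalization.ringHom_ext (Submonoid.powers a') (RingHom.ext fun c => by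
        change (L (algebraMap C0 C c)).fst = algebraMap C0 C c
        rw [hL, hfst1])
    exact fun c => RingHom.congr_fun h c
  have hLA : ∀ x, (L (algebraMap A C x)).snd = DS (algebraMap A S x) := fun x => by
    rw [IsScalarTower.algebraMap_apply A C0 C, hL]
    change (L0 (MvPolynomial.C x)).snd = _
    simp [L0, k0]
  obtain ⟨δ, hδ⟩ := exists_derivation_of_sqZero L hfst (fun r => by
    rw [IsScalarTower.algebraMap_apply R A C, hLA, ← IsScalarTower.algebraMap_apply, Derivation.map_algebraMap])
  have hδS : ∀ z, δ (algebraMap S C z) = DS z := by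
    intro z
    refine derivation_ext_away a (δ.compAlgebraMap S) DS (fun x => ?_) z
    change δ (algebraMap S C (algebraMap A S x)) = _
    rw [hj, hδ, hLA]
  refine free_kaehler_of_generators Φ s hs' g hg (fun v hv => hkerΦ ▸ hv) t ν ht δ ?_ (fun i => ?_) (fun Q hQS hQt => ?_)
  · exact hδS
  · rw [hδ, show t i = algebraMap C0 C (tC0 i) from rfl, hL]
    change (L0 (X i)).snd = _
    simp only [L0, eval₂Hom_X', TrivSqZeroExt.snd_add, TrivSqZeroExt.snd_inl, TrivSqZeroExt.snd_inr, zero_add, G]
    congr 1
    funext j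
    simp [e, Finset.sum_apply, Pi.single_apply, Algebra.smul_def]
    rfl
  · have hC0 : ∀ c, KaehlerDifferential.D R C (algebraMap C0 C c) ∈ Q := fun c => by
      obtain ⟨p, rfl⟩ := Ideal.Quotient.mk_surjective c
      induction p using MvPolynomial.induction_on with
      | C x =>
        have : algebraMap C0 C (Ideal.Quotient.mk (conormalRels π f) (MvPolynomial.C x)) = algebraMap S C (algebraMap A S x) := by
          rw [hj, IsScalarTower.algebraMap_apply A C0 C]; rfl
        rw [this]
        exact hQS _
      | add p q hp hq => rw [map_add, map_add, map_add]; exact add_mem hp hq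
      | mul_X p i hp =>
        rw [map_mul, map_mul, Derivation.leibniz]
        exact add_mem (Q.smul_mem _ (hQt i)) (Q.smul_mem _ hp)
    rw [eq_top_iff, ← KaehlerDifferential.span_range_derivation, Submodule.span_le]
    rintro _ ⟨c, rfl⟩
    obtain ⟨k, y, hy⟩ := IsLocalization.Away.surj a' c
    have h1 := hC0 y
    rw [← hy, Derivation.leibniz, add_comm] at h1
    have h2 : algebraMap C0 C a' ^ k • KaehlerDifferential.D R C c ∈ Q := by
      have h3 : KaehlerDifferential.D R C (algebraMap C0 C a' ^ k) ∈ Q := by rw [← map_pow]; exact hC0 _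
      exact (Submodule.add_mem_iff_left Q (Q.smul_mem _ h3)).1 h1
    exact (Submodule.smul_mem_iff_of_isUnit Q ((IsLocalization.Away.algebraMap_isUnit a').pow k)).1 h2

end conormal

end Groth.Agent.SmoothingLib
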