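import Mathlib
import Groth.Agent.SmoothingLib.ConormalSym

/-! The symmetric algebra of the conormal module is smooth over the smooth locus. -/

set_option autoImplicit false
universe u

noncomputable section

namespace Groth.Agent.SmoothingLib

open MvPolynomial TensorProduct

variable {R A : Type u} [CommRing R] [CommRing A] [Algebra R A] {n m : ℕ}
  (π : MvPolynomial (Fin n) R →ₐ[R] A) (f : Fin m → MvPolynomial (Fin n) R)

theorem formallySmooth_conormalSym (hπ : Function.Surjective π)
    (hker : RingHom.ker π.toRingHom = Ideal.span (Set.range f)) (a : A) [Algebra.Smooth R (Localization.Away a)] :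
    Algebra.FormallySmooth R (Localization.Away (algebraMap A (ConormalSym π f) a)) := by
  classical
  let Pn := MvPolynomial (Fin n) R
  let I : Ideal Pn := RingHom.ker π.toRingHom
  let S := Localization.Away a
  let C0 := ConormalSym π f
  let a' : C0 := algebraMap A C0 a
  let C := Localization.Away a'
  let j : S →+* C := Localization.awayMap (algebraMap A C0) a
  letI : Algebra S C := j.toAlgebra
  have hj : ∀ x, algebraMap S C (algebraMap A S x) = algebraMap A C x := fun x => by
    rw [RingHom.algebraMap_toAlgebra, IsScalarTower.algebraMap_apply A C0 C]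
    exact IsLocalization.map_eq _ x
  haveI : IsScalarTower A S C := IsScalarTower.of_algebraMap_eq fun x => (hj x).symm
  haveI : IsScalarTower R S C := IsScalarTower.of_algebraMap_eq fun r => by
    rw [IsScalarTower.algebraMap_apply R A S, hj, ← IsScalarTower.algebraMap_apply]
  let φ := (IsScalarTower.toAlgHom R A S).comp π
  have hIφ : ∀ x ∈ I, φ x = 0 := fun x hx => by
    change algebraMap A S (π x) = 0
    rw [show π x = 0 from hx, map_zero]
  have hfI : ∀ i, f i ∈ I := fun i => by
    change f i ∈ RingHom.ker π.toRingHom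
    rw [hker]; exact Ideal.subset_span ⟨i, rfl⟩
  obtain ⟨Φ₀, hΦ₀, hΦker⟩ := exists_tensorKaehler_presentation (Λ := S) π hπ
  haveI : Algebra.FormallyEtale A S := Algebra.FormallyEtale.of_isLocalization (Submonoid.powers a)
  let eΩ := (KaehlerDifferential.isBaseChange_of_formallyEtale R A S).equiv
  let Φ : (Fin n → S) →ₗ[S] KaehlerDifferential R S := eΩ.toLinearMap ∘ₗ Φ₀
  obtain ⟨s, hs⟩ := Module.projective_lifting_property Φ LinearMap.id
    (eΩ.surjective.comp hΦ₀ : Function.Surjective Φ)
  let g : Fin m → Fin n → S := fun i => NeronLib.grad φ (f i)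
  have hkerΦ : LinearMap.ker Φ = Submodule.span S (Set.range g) := by
    rw [LinearMap.ker_comp, LinearEquiv.ker, ← LinearMap.ker, hΦker]
    refine le_antisymm (Submodule.span_le.2 ?_) (Submodule.span_le.2 ?_)
    · rintro _ ⟨x, hx, rfl⟩
      obtain ⟨b, rfl⟩ := Ideal.mem_span_range_iff_exists_fun.1 (hker ▸ hx : x ∈ Ideal.span (Set.range f))
      rw [NeronLib.grad_sum]
      refine Submodule.sum_mem _ fun i _ => ?_
      rw [NeronLib.grad_mul, show (IsScalarTower.toAlgHom R A S).comp π (f i) = 0 from hIφ _ (hfI i), zero_smul,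
        add_zero]
      exact Submodule.smul_mem _ _ (Submodule.subset_span ⟨i, rfl⟩)
    · rintro _ ⟨i, rfl⟩
      exact Submodule.subset_span ⟨f i, hfI i, rfl⟩
  have hg : ∀ i, Φ (g i) = 0 := fun i => by
    rw [← LinearMap.mem_ker, hkerΦ]; exact Submodule.subset_span ⟨i, rfl⟩
  have hs' : ∀ ω, Φ (s ω) = ω := fun ω => LinearMap.congr_fun hs ω
  have hw : ∀ l, (Pi.single l 1 : Fin n → S) - s (Φ (Pi.single l 1)) ∈ Submodule.span S (Set.range g) := fun l => by
    rw [← hkerΦ, LinearMap.mem_ker, map_sub, hs', sub_self]
  choose τ hτ using fun l => (Submodule.mem_span_range_iff_exists_fun S).1 (hw l)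
  let tC0 : Fin m → C0 := fun i => Ideal.Quotient.mkₐ A (conormalRels π f) (X i)
  let t : Fin m → C := fun i => algebraMap C0 C (tC0 i)
  let ν : Fin n → C := fun l => ∑ i, algebraMap S C (τ l i) * t i
  -- relations in `C` from relations of gradients
  have hrel : ∀ c : Fin m → S, (∑ i, c i • g i) = 0 → ∑ i, algebraMap S C (c i) * t i = 0 := by
    intro c hc
    obtain ⟨⟨_, k, rfl⟩, hk⟩ := IsLocalization.exist_integer_multiples_of_finite (Submonoid.powers a) c
    choose d hd using hk
    choose b hb using fun i => hπ (d i)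
    obtain ⟨a₀, ha₀⟩ := hπ a
    have hb' : ∀ i, φ (b i) = algebraMap A S (a ^ k) * c i := fun i => by
      change algebraMap A S (π (b i)) = _
      rw [hb]
      exact (hd i).trans (Algebra.smul_def _ _)
    have hgrad : NeronLib.grad φ (∑ i, b i * f i) = 0 := by
      rw [NeronLib.grad_sum]
      simp only [NeronLib.grad_mul, hIφ _ (hfI _), zero_smul, add_zero, hb', mul_smul, ← Finset.smul_sum]
      rw [show ∑ i, c i • NeronLib.grad φ (f i) = 0 from hc, smul_zero]
    let P' := Localization.Away a₀
    haveI : IsLocalization.Away (π.toRingHom a₀) S := by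
      rw [show π.toRingHom a₀ = a from ha₀]; infer_instance
    let χ : P' →+* S := IsLocalization.Away.map P' S π.toRingHom a₀
    letI := χ.toAlgebra
    have hχ : ∀ y, χ (algebraMap Pn P' y) = algebraMap A S (π y) := fun y => by
      simp only [χ, IsLocalization.Away.map]
      exact IsLocalization.map_eq _ y
    haveI : IsScalarTower R P' S := IsScalarTower.of_algebraMap_eq fun r => by
      rw [IsScalarTower.algebraMap_apply R Pn P', RingHom.algebraMap_toAlgebra, hχ, AlgHom.commutes]
      exact IsScalarTower.algebraMap_apply R A S r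
    haveI : Algebra.FormallyEtale Pn P' := Algebra.FormallyEtale.of_isLocalization (Submonoid.powers a₀)
    haveI : Algebra.FormallySmooth R P' := Algebra.FormallySmooth.comp R Pn P'
    have hu : IsUnit (algebraMap Pn P' a₀) := IsLocalization.Away.algebraMap_isUnit a₀
    have hsurj : Function.Surjective (algebraMap P' S) := by
      intro z
      obtain ⟨e, y, hy⟩ := IsLocalization.Away.surj a z
      obtain ⟨y, rfl⟩ := hπ y
      refine ⟨algebraMap Pn P' y * ↑(hu.pow e).unit⁻¹, ?_⟩
      refine ((IsLocalization.Away.algebraMap_isUnit a).pow e : IsUnit (algebraMap A S a ^ e)).mul_left_inj.1 ?_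
      rw [hy, RingHom.algebraMap_toAlgebra, map_mul, hχ]
      have h1 : χ ↑(hu.pow e).unit⁻¹ * algebraMap A S a ^ e = 1 := by
        rw [← (hχ a₀).trans (congrArg (algebraMap A S) ha₀), ← map_pow χ, ← map_mul χ, IsUnit.val_inv_mul, map_one]
      rw [mul_assoc, h1, mul_one]
    have hkP : RingHom.ker (algebraMap P' S) = I.map (algebraMap Pn P') := by
      refine le_antisymm (fun x hx => ?_) (Ideal.map_le_iff_le_comap.2 fun x hx => ?_)
      · obtain ⟨e, y, hy⟩ := IsLocalization.Away.surj a₀ x
        have h0 : algebraMap A S (π y) = 0 := by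
          rw [← hχ, ← hy, map_mul]
          rw [RingHom.mem_ker, RingHom.algebraMap_toAlgebra] at hx
          rw [hx, zero_mul]
        obtain ⟨⟨_, e', rfl⟩, he⟩ := (IsLocalization.map_eq_zero_iff (Submonoid.powers a) S _).1 h0
        have h2 := Ideal.mem_map_of_mem (algebraMap Pn P') (show a₀ ^ e' * y ∈ I by
          change π (a₀ ^ e' * y) = 0
          rw [map_mul, map_pow, ha₀]; exact he)
        rw [map_mul, map_pow, Ideal.unit_mul_mem_iff_mem _ (hu.pow e'), ← hy,
          Ideal.mul_unit_mem_iff_mem _ (hu.pow e)] at h2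
        exact h2
      · rw [Ideal.mem_comap, RingHom.mem_ker, RingHom.algebraMap_toAlgebra, hχ, show π x = 0 from hx, map_zero]
    let y : Pn := ∑ i, b i * f i
    have hyI : y ∈ I := I.sum_mem fun i _ => I.mul_mem_left _ (hfI i)
    have h2 : algebraMap Pn P' y ∈ RingHom.ker (algebraMap P' S) ^ 2 := by
      refine mem_sq_ker_of_formallySmooth (R := R) hsurj (hkP ▸ Ideal.mem_map_of_mem _ hyI) ?_
      rw [← KaehlerDifferential.map_D R R Pn P', NeronLib.D_eq_sum, map_sum]
      refine Submodule.sum_mem _ fun l _ => ?_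
      rw [map_smul, KaehlerDifferential.map_D,
        ← algebraMap_smul (A := P') (pderiv l y) (KaehlerDifferential.D R P' (algebraMap Pn P' (X l)))]
      refine Submodule.smul_mem_smul ?_ Submodule.mem_top
      rw [RingHom.mem_ker, RingHom.algebraMap_toAlgebra, hχ]
      exact congrFun hgrad l
    rw [hkP, ← Ideal.map_pow] at h2
    obtain ⟨_, ⟨e, rfl⟩, he⟩ :=
      (IsLocalization.algebraMap_mem_map_algebraMap_iff (Submonoid.powers a₀) P' (I ^ 2) y).1 h2
    have h3 : (∑ i, MvPolynomial.C (π (a₀ ^ e * b i)) * X i : MvPolynomial (Fin m) A) ∈ conormalRels π f :=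
      Ideal.subset_span ⟨fun i => a₀ ^ e * b i, by
        simp only [mul_assoc, ← Finset.mul_sum]; exact he, rfl⟩
    have h4 : ∑ i, algebraMap A C (a ^ e * π (b i)) * t i = 0 := by
      have h5 : Ideal.Quotient.mkₐ A (conormalRels π f) (∑ i, MvPolynomial.C (π (a₀ ^ e * b i)) * X i) = 0 :=
        Ideal.Quotient.eq_zero_iff_mem.2 h3
      have h6 := congrArg (algebraMap C0 C) h5
      rw [map_sum, map_sum, map_zero] at h6
      simp only [map_mul π, map_pow π, ha₀, map_mul (Ideal.Quotient.mkₐ A (conormalRels π f)),
        map_mul (algebraMap C0 C), ← MvPolynomial.algebraMap_eq, AlgHom.commutes] at h6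
      simpa only [IsScalarTower.algebraMap_apply A C0 C] using h6
    have h7 : algebraMap A C (a ^ e) * algebraMap A C (a ^ k) * ∑ i, algebraMap S C (c i) * t i = 0 := by
      rw [← h4, Finset.mul_sum]
      refine Finset.sum_congr rfl fun i _ => ?_
      rw [map_mul (algebraMap A C) (a ^ e), ← hj (π (b i)), show algebraMap A S (π (b i)) = _ from hb' i, map_mul, hj]
      ring
    have hua : IsUnit (algebraMap A C a) := by
      rw [IsScalarTower.algebraMap_apply A C0 C]
      exact IsLocalization.Away.algebraMap_isUnit a'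
    rw [map_pow, map_pow] at h7
    exact ((hua.pow e).mul (hua.pow k)).mul_right_eq_zero.1 h7
  have hKg : ∀ i, (∑ l, g i l • ((Pi.single l 1 : Fin n → S) - s (Φ (Pi.single l 1)))) = g i := fun i => by
    simp only [smul_sub, Finset.sum_sub_distrib, ← map_smul, ← map_sum, ← pi_eq_sum_univ', hg, map_zero, sub_zero]
  have ht : ∀ i, t i = ∑ l, algebraMap S C (g i l) * ν l := by
    intro i
    have h := hrel (fun i' => (Pi.single i 1 : Fin m → S) i' - ∑ l, g i l * τ l i') (by
      have e1 : ∑ x, (∑ l, g i l * τ l x) • g x = g i := by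
        rw [Finset.sum_congr rfl fun x _ => (Finset.sum_smul (s := Finset.univ) (f := fun l => g i l * τ l x) (x := g x)).trans
          (Finset.sum_congr rfl fun l _ => mul_smul (g i l) (τ l x) (g x))]
        rw [Finset.sum_comm]
        rw [Finset.sum_congr rfl fun l _ => (Finset.smul_sum).symm.trans (congrArg (g i l • ·) (hτ l))]
        exact hKg i
      simp only [sub_smul, Finset.sum_sub_distrib]
      rw [e1, Finset.sum_eq_single i (fun k _ hk => by simp [Pi.single_eq_of_ne hk]) (by simp), Pi.single_eq_same,
        one_smul, sub_self])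
    simp only [map_sub, map_sum, map_mul, sub_mul, Finset.sum_sub_distrib, Finset.sum_mul] at h
    rw [Finset.sum_eq_single i (fun k _ hk => by simp [Pi.single_eq_of_ne hk]) (by simp), Pi.single_eq_same,
      map_one, one_mul, sub_eq_zero] at h
    rw [h, Finset.sum_comm]
    simp only [ν, mul_assoc]
    exact Finset.sum_congr rfl fun l _ => (Finset.mul_sum _ _ _).symm
  -- a retraction from a polynomial algebra
  let Em : Fin m → MvPolynomial (Fin m) S := fun i => ∑ i', MvPolynomial.C (∑ l, g i l * τ l i') * X i'
  let σ0 : MvPolynomial (Fin m) A →ₐ[A] MvPolynomial (Fin m) S := aeval Em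
  have hσ0 : ∀ y ∈ conormalRels π f, σ0 y = 0 := by
    intro y hy
    induction hy using Submodule.span_induction with
    | mem z hz =>
      obtain ⟨b, hb, rfl⟩ := hz
      have hbg : ∀ l, ∑ i, φ (b i) * g i l = 0 := fun l => by
        have h1 : NeronLib.grad φ (∑ i, b i * f i) = 0 := grad_eq_zero_of_mem_sq φ I hIφ hb
        rw [NeronLib.grad_sum] at h1
        simp only [NeronLib.grad_mul, hIφ _ (hfI _), zero_smul, add_zero] at h1
        simpa [Finset.sum_apply, g] using congrFun h1 l
      simp only [map_sum, map_mul, σ0, aeval_C, aeval_X, Em, Finset.mul_sum]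
      rw [Finset.sum_comm]
      refine Finset.sum_eq_zero fun i' _ => ?_
      simp only [IsScalarTower.algebraMap_apply A S (MvPolynomial (Fin m) S), MvPolynomial.algebraMap_eq, ← mul_assoc,
        ← map_mul, ← Finset.sum_mul, ← map_sum]
      simp only [Finset.mul_sum]
      rw [Finset.sum_comm]
      refine mul_eq_zero_of_left ((congrArg MvPolynomial.C (Finset.sum_eq_zero fun l _ => ?_)).trans (map_zero MvPolynomial.C)) _
      simp only [← mul_assoc, ← Finset.sum_mul]
      exact mul_eq_zero_of_left (hbg l) _
    | zero => exact map_zero _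
    | add u v _ _ hu hv => rw [map_add, hu, hv, add_zero]
    | smul c u _ ih => rw [smul_eq_mul, map_mul, ih, mul_zero]
  let σ1 : C0 →ₐ[A] MvPolynomial (Fin m) S := Ideal.Quotient.liftₐ _ σ0 hσ0
  have ha' : IsUnit (σ1 a') := by
    rw [AlgHom.commutes, IsScalarTower.algebraMap_apply A S (MvPolynomial (Fin m) S)]
    exact (IsLocalization.Away.algebraMap_isUnit a).map _
  let σ2 : C →+* MvPolynomial (Fin m) S := IsLocalization.Away.lift a' (g := σ1.toRingHom) ha'
  have hσ2 : ∀ c, σ2 (algebraMap C0 C c) = σ1 c := fun c => IsLocalization.Away.lift_eq a' ha' c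
  have hσS : ∀ s, σ2 (algebraMap S C s) = MvPolynomial.C s := by
    have h1 : σ2.comp (algebraMap S C) = MvPolynomial.C := by
      refine IsLocalization.ringHom_ext (Submonoid.powers a) (RingHom.ext fun x => ?_)
      simp only [RingHom.comp_apply]
      rw [hj, IsScalarTower.algebraMap_apply A C0 C, hσ2, AlgHom.commutes]
      exact IsScalarTower.algebraMap_apply A S (MvPolynomial (Fin m) S) x
    exact fun s => RingHom.congr_fun h1 s
  let θ : MvPolynomial (Fin m) S →ₐ[S] C := aeval t
  let σ : C →ₐ[S] MvPolynomial (Fin m) S := { σ2 with commutes' := hσS }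
  have hθσ : θ.comp σ = AlgHom.id S C := by
    have h0 : θ.toRingHom.comp σ2 = RingHom.id C := by
      refine IsLocalization.ringHom_ext (Submonoid.powers a') ?_
      refine Ideal.Quotient.ringHom_ext (MvPolynomial.ringHom_ext (fun x => ?_) fun i => ?_)
      · simp only [RingHom.comp_apply, RingHom.id_comp]
        rw [show (Ideal.Quotient.mk (conormalRels π f)) (MvPolynomial.C x) = algebraMap A C0 x from rfl, hσ2,
          AlgHom.commutes, IsScalarTower.algebraMap_apply A S (MvPolynomial (Fin m) S)]
        change θ (algebraMap S _ _) = _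
        rw [AlgHom.commutes, hj]
        exact IsScalarTower.algebraMap_apply A C0 C x
      · simp only [RingHom.comp_apply, RingHom.id_comp]
        rw [show (Ideal.Quotient.mk (conormalRels π f)) (X i) = tC0 i from rfl, hσ2]
        change θ (σ0 (X i)) = t i
        rw [aeval_X, ht i]
        simp only [θ, Em, ν, map_sum, map_mul, aeval_C, aeval_X, Finset.mul_sum, Finset.sum_mul, mul_assoc]
        rw [Finset.sum_comm]
        exact Finset.sum_congr rfl fun l _ => (Finset.mul_sum _ _ _).symm
    exact AlgHom.ext fun c => RingHom.congr_fun h0 c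
  haveI : Algebra.FormallySmooth S C := by
    refine Algebra.FormallySmooth.of_split θ ((Ideal.Quotient.mkₐ S _).comp σ) ?_
    refine AlgHom.ext fun c => ?_
    exact AlgHom.congr_fun hθσ c
  exact Algebra.FormallySmooth.comp R S C

end Groth.Agent.SmoothingLib
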