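import Mathlib
import Groth.Prelude.Def_Smoothing
import Groth.Agent.SmoothingLib.ConormalSym
import Groth.Agent.NeronLib.BlowupSmooth

/-! Powers of an element with smooth localization and stably free differentials are strictly standard. -/

set_option autoImplicit false
universe u

noncomputable section

namespace Groth.Agent.SmoothingLib

open MvPolynomial Smoothing TensorProduct

variable {R A : Type u} [CommRing R] [CommRing A] [Algebra R A] (a : A)

/-- Over the smooth locus, relations with vanishing gradient are of second order. -/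
theorem exists_pow_mul_mem_sq [Algebra.Smooth R (Localization.Away a)] {n : ℕ}
    (π : MvPolynomial (Fin n) R →ₐ[R] A) (hπ : Function.Surjective π) {a₀ : MvPolynomial (Fin n) R} (ha₀ : π a₀ = a)
    {y : MvPolynomial (Fin n) R} (hy : π y = 0)
    (hgrad : NeronLib.grad ((IsScalarTower.toAlgHom R A (Localization.Away a)).comp π) y = 0) :
    ∃ e : ℕ, a₀ ^ e * y ∈ RingHom.ker π.toRingHom ^ 2 := by
  let Pn := MvPolynomial (Fin n) R
  let S := Localization.Away a
  let P' := Localization.Away a₀
  haveI : IsLocalization.Away (π.toRingHom a₀) S := by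
    rw [show π.toRingHom a₀ = a from ha₀]; infer_instance
  let χ : P' →+* S := IsLocalization.Away.map P' S π.toRingHom a₀
  letI := χ.toAlgebra
  have hχ : ∀ y, χ (algebraMap Pn P' y) = algebraMap A S (π y) := fun y => by
    simp only [χ, IsLocalization.Away.map]
    exact IsLocalization.map_eq _ y
  haveI : IsScalarTower R P' S := IsScalarTower.of_algebraMap_eq fun r => by
    rw [IsScalarTower.algebraMap_apply R Pn P', RingHom.algebraMap_toAlgebra, hχ, AlgHom.commutes]
    exact IsScalarTower.algebraMap_apply R A S r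
  haveI : Algebra.FormallyEtale Pn P' := Algebra.FormallyEtale.of_isLocalization (Submonoid.powers a₀)
  haveI : Algebra.FormallySmooth R P' := Algebra.FormallySmooth.comp R Pn P'
  have hu : IsUnit (algebraMap Pn P' a₀) := IsLocalization.Away.algebraMap_isUnit a₀
  have hsurj : Function.Surjective (algebraMap P' S) := by
    intro z
    obtain ⟨e, y, hy⟩ := IsLocalization.Away.surj a z
    obtain ⟨y, rfl⟩ := hπ y
    refine ⟨algebraMap Pn P' y * ↑(hu.pow e).unit⁻¹, ?_⟩
    refine ((IsLocalization.Away.algebraMap_isUnit a).pow e : IsUnit (algebraMap A S a ^ e)).mul_left_inj.1 ?_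
    rw [hy, RingHom.algebraMap_toAlgebra, map_mul, hχ]
    have h1 : χ ↑(hu.pow e).unit⁻¹ * algebraMap A S a ^ e = 1 := by
      rw [← (hχ a₀).trans (congrArg (algebraMap A S) ha₀), ← map_pow χ, ← map_mul χ, IsUnit.val_inv_mul, map_one]
    rw [mul_assoc, h1, mul_one]
  let I : Ideal Pn := RingHom.ker π.toRingHom
  have hkP : RingHom.ker (algebraMap P' S) = I.map (algebraMap Pn P') := by
    refine le_antisymm (fun x hx => ?_) (Ideal.map_le_iff_le_comap.2 fun x hx => ?_)
    · obtain ⟨e, y, hy⟩ := IsLocalization.Away.surj a₀ x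
      have h0 : algebraMap A S (π y) = 0 := by
        rw [← hχ, ← hy, map_mul]
        rw [RingHom.mem_ker, RingHom.algebraMap_toAlgebra] at hx
        rw [hx, zero_mul]
      obtain ⟨⟨_, e', rfl⟩, he⟩ := (IsLocalization.map_eq_zero_iff (Submonoid.powers a) S _).1 h0
      have h2 := Ideal.mem_map_of_mem (algebraMap Pn P') (show a₀ ^ e' * y ∈ I by
        change π (a₀ ^ e' * y) = 0
        rw [map_mul, map_pow, ha₀]; exact he)
      rw [map_mul, map_pow, Ideal.unit_mul_mem_iff_mem _ (hu.pow e'), ← hy,
        Ideal.mul_unit_mem_iff_mem _ (hu.pow e)] at h2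
      exact h2
    · rw [Ideal.mem_comap, RingHom.mem_ker, RingHom.algebraMap_toAlgebra, hχ, show π x = 0 from hx, map_zero]
  have h2 : algebraMap Pn P' y ∈ RingHom.ker (algebraMap P' S) ^ 2 := by
    refine mem_sq_ker_of_formallySmooth (R := R) hsurj (hkP ▸ Ideal.mem_map_of_mem _ (show y ∈ I from hy)) ?_
    rw [← KaehlerDifferential.map_D R R Pn P', NeronLib.D_eq_sum, map_sum]
    refine Submodule.sum_mem _ fun l _ => ?_
    rw [map_smul, KaehlerDifferential.map_D,
      ← algebraMap_smul (A := P') (pderiv l y) (KaehlerDifferential.D R P' (algebraMap Pn P' (X l)))]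
    refine Submodule.smul_mem_smul ?_ Submodule.mem_top
    rw [RingHom.mem_ker, RingHom.algebraMap_toAlgebra, hχ]
    exact congrFun hgrad l
  rw [hkP, ← Ideal.map_pow] at h2
  obtain ⟨_, ⟨e, rfl⟩, he⟩ :=
    (IsLocalization.algebraMap_mem_map_algebraMap_iff (Submonoid.powers a₀) P' (I ^ 2) y).1 h2
  exact ⟨e, he⟩

/-- Rows with a left inverse have minors generating the unit ideal. -/
theorem span_minors_eq_top {S : Type u} [CommRing S] {c n : ℕ} (g : Fin c → Fin n → S)
    (W : (Fin n → S) →ₗ[S] (Fin c → S)) (hW : ∀ i, W (g i) = Pi.single i 1) :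
    Ideal.span (Set.range fun cols : Fin c → Fin n => Matrix.det (Matrix.of fun i j => g i (cols j))) = ⊤ := by
  classical
  by_contra hne
  obtain ⟨Q, hQ, hle⟩ := Ideal.exists_le_maximal _ hne
  let q := Ideal.Quotient.mk Q
  letI : Field (S ⧸ Q) := Ideal.Quotient.field Q
  let col : Fin n → Fin c → S ⧸ Q := fun l i => q (g i l)
  obtain ⟨ι', b, hb, hspanb, hlib⟩ := exists_linearIndependent' (S ⧸ Q) col
  have htop : Submodule.span (S ⧸ Q) (Set.range (col ∘ b)) = ⊤ := by
    rw [hspanb, eq_top_iff]
    rintro v -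
    rw [pi_eq_sum_univ' v]
    refine Submodule.sum_mem _ fun j _ => Submodule.smul_mem _ _ ?_
    have e : (Pi.single j 1 : Fin c → S ⧸ Q) = ∑ l, q (W (Pi.single l 1) j) • col l := funext fun i => by
      have h := congrFun (hW i) j
      rw [pi_eq_sum_univ' (g i), map_sum, Finset.sum_apply] at h
      simp only [map_smul, Pi.smul_apply, smul_eq_mul] at h
      simp only [Finset.sum_apply, Pi.smul_apply, smul_eq_mul, col]
      rw [← Finset.sum_congr rfl (fun l _ => (map_mul q (W (Pi.single l 1) j) (g i l))), ← map_sum,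
        Finset.sum_congr rfl (fun l _ => mul_comm (W (Pi.single l 1) j) (g i l)), h]
      by_cases hij : i = j
      · subst hij; simp
      · simp [Pi.single_eq_of_ne hij, Pi.single_eq_of_ne (Ne.symm hij)]
    rw [e]
    exact Submodule.sum_mem _ fun l _ => Submodule.smul_mem _ _ (Submodule.subset_span ⟨l, rfl⟩)
  let bas := Module.Basis.mk hlib (le_of_eq htop.symm)
  let σ := (Pi.basisFun (S ⧸ Q) (Fin c)).indexEquiv bas
  let cols : Fin c → Fin n := b ∘ σ
  have h1 : LinearIndependent (S ⧸ Q) (col ∘ cols) := hlib.comp σ σ.injective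
  have h2 : IsUnit (Matrix.of fun k i => col (cols k) i) := Matrix.linearIndependent_rows_iff_isUnit.1 h1
  have h3 := ((Matrix.isUnit_iff_isUnit_det _).1 h2).ne_zero
  rw [← Matrix.det_transpose] at h3
  refine h3 ?_
  have h4 : q (Matrix.det (Matrix.of fun i j => g i (cols j))) = 0 :=
    Ideal.Quotient.eq_zero_iff_mem.2 (hle (Ideal.subset_span ⟨cols, rfl⟩))
  rw [RingHom.map_det] at h4
  exact h4

/-- Extending a presentation by variables mapping to zero. -/
theorem exists_split_relations [Algebra.FinitePresentation R A] [Algebra.Smooth R (Localization.Away a)]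
    (p q : ℕ) (e : (KaehlerDifferential R (Localization.Away a) × (Fin p → Localization.Away a)) ≃ₗ[Localization.Away a]
      (Fin q → Localization.Away a)) :
    ∃ (N c : ℕ) (π : MvPolynomial (Fin N) R →ₐ[R] A) (b : Fin c → Fin N → Localization.Away a)
      (W : (Fin N → Localization.Away a) →ₗ[Localization.Away a] (Fin c → Localization.Away a)),
      Function.Surjective π ∧ (RingHom.ker π.toRingHom).FG ∧ (∀ i, W (b i) = Pi.single i 1) ∧
      NeronLib.relJac (Λ := Localization.Away a) π = Submodule.span (Localization.Away a) (Set.range b) := by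
  classical
  let S := Localization.Away a
  obtain ⟨n, π, hπ, hfg⟩ := Algebra.FinitePresentation.out (R := R) (A := A)
  obtain ⟨Φ₀, hΦ₀, hΦker⟩ := exists_tensorKaehler_presentation (Λ := S) π hπ
  haveI : Algebra.FormallyEtale A S := Algebra.FormallyEtale.of_isLocalization (Submonoid.powers a)
  let eΩ := (KaehlerDifferential.isBaseChange_of_formallyEtale R A S).equiv
  let Φ : (Fin n → S) →ₗ[S] KaehlerDifferential R S := eΩ.toLinearMap ∘ₗ Φ₀
  obtain ⟨s, hs⟩ := Module.projective_lifting_property Φ LinearMap.id
    (eΩ.surjective.comp hΦ₀ : Function.Surjective Φ)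
  have hs' : ∀ ω, Φ (s ω) = ω := fun ω => LinearMap.congr_fun hs ω
  let K : Submodule S (Fin n → S) := LinearMap.ker Φ
  have hK : NeronLib.relJac (Λ := S) π = K := by
    rw [← hΦker, show K = LinearMap.ker (eΩ.toLinearMap ∘ₗ Φ₀) from rfl, LinearMap.ker_comp, LinearEquiv.ker]
    rfl
  let pr : (Fin n → S) →ₗ[S] K := LinearMap.codRestrict K (LinearMap.id - s ∘ₗ Φ) fun v => by
    simp [K, hs']
  have hpr : ∀ v : K, pr v = v := fun v => Subtype.ext (by
    change (v : Fin n → S) - s (Φ v) = v
    rw [show Φ v = 0 from v.2, map_zero, sub_zero])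
  let eK : (K × KaehlerDifferential R S) ≃ₗ[S] (Fin n → S) :=
    LinearEquiv.ofLinear (K.subtype.coprod s) (pr.prod Φ)
      (LinearMap.ext fun v => by
        change (v - s (Φ v)) + s (Φ v) = v
        exact sub_add_cancel _ _)
      (LinearMap.ext fun ⟨k, ω⟩ => by
        have hk : Φ (k : Fin n → S) = 0 := k.2
        refine Prod.ext (Subtype.ext ?_) ?_
        · change ((k : Fin n → S) + s ω) - s (Φ ((k : Fin n → S) + s ω)) = k
          rw [map_add, hk, hs', zero_add, add_sub_cancel_right]
        · change Φ ((k : Fin n → S) + s ω) = ω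
          rw [map_add, hk, hs', zero_add])
  let eF : (K × (Fin q → S)) ≃ₗ[S] ((Fin n ⊕ Fin p) → S) :=
    ((LinearEquiv.refl S K).prodCongr e.symm).trans
      ((LinearEquiv.prodAssoc S K (KaehlerDifferential R S) (Fin p → S)).symm.trans
        ((eK.prodCongr (LinearEquiv.refl S (Fin p → S))).trans (LinearEquiv.sumArrowLequivProdArrow (Fin n) (Fin p) S S).symm))
  let eG : (K × (Fin q → S)) ≃ₗ[S] (Fin (n + p) → S) :=
    eF.trans (LinearEquiv.funCongrLeft S S finSumFinEquiv.symm)
  let π' : MvPolynomial (Fin (n + q)) R →ₐ[R] A := aeval (Fin.append (fun l => π (X l)) (fun _ => 0))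
  have hincl : ∀ x, π' (rename (Fin.castAdd q) x) = π x := by
    have : π'.comp (rename (Fin.castAdd q)) = π := MvPolynomial.algHom_ext fun l => by simp [π']
    exact fun x => AlgHom.congr_fun this x
  have hπ' : Function.Surjective π' := fun y => by
    obtain ⟨x, rfl⟩ := hπ y
    exact ⟨_, hincl x⟩
  let φ := (IsScalarTower.toAlgHom R A S).comp π
  let φ' := (IsScalarTower.toAlgHom R A S).comp π'
  have hφincl : ∀ x, φ' (rename (Fin.castAdd q) x) = φ x := fun x => congrArg (algebraMap A S) (hincl x)
  let J : (K × (Fin q → S)) →ₗ[S] (Fin (n + q) → S) :=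
    { toFun := fun x => Fin.append (x.1 : Fin n → S) x.2
      map_add' := fun x y => funext fun i => by refine Fin.addCases (fun l => ?_) (fun j => ?_) i <;> simp
      map_smul' := fun r x => funext fun i => by refine Fin.addCases (fun l => ?_) (fun j => ?_) i <;> simp }
  let P : (Fin (n + q) → S) →ₗ[S] (K × (Fin q → S)) :=
    (pr ∘ₗ LinearMap.pi fun l => LinearMap.proj (Fin.castAdd q l)).prod
      (LinearMap.pi fun j => LinearMap.proj (Fin.natAdd n j))
  have hPJ : ∀ x, P (J x) = x := fun x => by
    refine Prod.ext ?_ (funext fun j => ?_)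
    · change pr (fun l => Fin.append (x.1 : Fin n → S) x.2 (Fin.castAdd q l)) = x.1
      simp [hpr]
    · change Fin.append (x.1 : Fin n → S) x.2 (Fin.natAdd n j) = x.2 j
      simp
  let bas : Module.Basis (Fin (n + p)) S (K × (Fin q → S)) := (Pi.basisFun S (Fin (n + p))).map eG.symm
  refine ⟨n + q, n + p, π', fun i => J (bas i), eG.toLinearMap ∘ₗ P, hπ',
    Algebra.FinitePresentation.ker_fG_of_surjective π' hπ', fun i => ?_, ?_⟩
  · rw [LinearMap.comp_apply, hPJ]
    simp [bas]
  · have hrange : Submodule.span S (Set.range fun i => J (bas i)) = LinearMap.range J := by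
      rw [show (fun i => J (bas i)) = J ∘ bas from rfl, Set.range_comp, ← Submodule.map_span, bas.span_eq,
        Submodule.map_top]
    rw [hrange]
    have hxcoord : ∀ (x : MvPolynomial (Fin n) R) (i : Fin n),
        NeronLib.grad φ' (rename (Fin.castAdd q) x) (Fin.castAdd q i) = NeronLib.grad φ x i := fun x i => by
      change φ' (pderiv (Fin.castAdd q i) (rename (Fin.castAdd q) x)) = φ (pderiv i x)
      rw [NeronLib.pderiv_rename_apply (Fin.castAdd_injective _ _), hφincl]
    refine le_antisymm (Submodule.span_le.2 ?_) ?_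
    · rintro _ ⟨x, hx, rfl⟩
      let σ : MvPolynomial (Fin (n + q)) R →ₐ[R] MvPolynomial (Fin n) R := aeval (Fin.append X (fun _ => 0))
      have hσπ : ∀ y, π (σ y) = π' y := by
        have : π.comp σ = π' := MvPolynomial.algHom_ext fun i => by
          refine Fin.addCases (fun l => ?_) (fun j => ?_) i <;> simp [σ, π']
        exact fun y => AlgHom.congr_fun this y
      have hσd : ∀ (l : Fin n) y, π (pderiv l (σ y)) = π' (pderiv (Fin.castAdd q l) y) := by
        intro l y
        induction y using MvPolynomial.induction_on with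
        | C r => simp [σ]
        | add u v hu hv => simp only [map_add, hu, hv]
        | mul_X u i hu =>
          rw [map_mul σ, pderiv_mul, pderiv_mul, map_add, map_add, map_mul, map_mul, map_mul, map_mul, hu, hσπ, hσπ]
          congr 2
          refine Fin.addCases (fun l' => ?_) (fun j => ?_) i
          · simp only [σ, aeval_X, Fin.append_left]
            by_cases h : l' = l
            · subst h; simp
            · rw [pderiv_X_of_ne h, pderiv_X_of_ne (fun e => h (Fin.castAdd_injective _ _ e)), map_zero, map_zero]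
          · have hne : Fin.natAdd n j ≠ Fin.castAdd q l := fun h => by
              have := congrArg Fin.val h; simp at this; omega
            simp [σ, pderiv_X_of_ne hne]
      have hxker : π (σ x) = 0 := by rw [hσπ]; exact hx
      refine ⟨(⟨NeronLib.grad φ (σ x), hK ▸ Submodule.subset_span ⟨σ x, hxker, rfl⟩⟩,
        fun j => φ' (pderiv (Fin.natAdd n j) x)), ?_⟩
      funext i
      refine Fin.addCases (fun l => ?_) (fun j => ?_) i
      · change Fin.append _ _ (Fin.castAdd q l) = algebraMap A S (π' (pderiv (Fin.castAdd q l) x))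
        rw [Fin.append_left, ← hσd]
        rfl
      · change Fin.append _ _ (Fin.natAdd n j) = _
        rw [Fin.append_right]
        rfl
    · rintro _ ⟨⟨⟨v, hv⟩, w⟩, rfl⟩
      have e1 : J (⟨v, hv⟩, w) = Fin.append v 0 + ∑ j, w j • Pi.single (Fin.natAdd n j) 1 := funext fun i => by
        change Fin.append v w i = _
        refine Fin.addCases (fun l => ?_) (fun j => ?_) i
        · have hne : ∀ j, Fin.castAdd q l ≠ Fin.natAdd n j := fun j h => by
            have := congrArg Fin.val h; simp at this; omega
          simp [Finset.sum_apply, Pi.single_eq_of_ne (hne _)]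
        · simp [Finset.sum_apply, Pi.single_apply]
      rw [e1]
      refine add_mem ?_ (Submodule.sum_mem _ fun j _ => Submodule.smul_mem _ _ ?_)
      · have hv' : v ∈ NeronLib.relJac (Λ := S) π := hK ▸ hv
        let E : (Fin n → S) →ₗ[S] (Fin (n + q) → S) :=
          { toFun := fun v => Fin.append v 0
            map_add' := fun x y => funext fun i => by refine Fin.addCases (fun l => ?_) (fun j => ?_) i <;> simp
            map_smul' := fun r x => funext fun i => by refine Fin.addCases (fun l => ?_) (fun j => ?_) i <;> simp }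
        refine (Submodule.span_le.2 ?_ : NeronLib.relJac (Λ := S) π ≤ Submodule.comap E (NeronLib.relJac (Λ := S) π')) hv'
        rintro _ ⟨x, hx, rfl⟩
        refine Submodule.subset_span ⟨rename (Fin.castAdd q) x, show π' _ = 0 by rw [hincl]; exact hx, ?_⟩
        funext i
        refine Fin.addCases (fun l => ?_) (fun j => ?_) i
        · rw [hxcoord]
          exact (Fin.append_left _ _ _).symm
        · change φ' (pderiv (Fin.natAdd n j) (rename (Fin.castAdd q) x)) = Fin.append _ (0 : Fin q → S) _
          rw [Fin.append_right, NeronLib.pderiv_rename_of_notMem_range _ (fun l h => by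
            have := congrArg Fin.val h; simp at this; omega), map_zero]
          rfl
      · exact Submodule.subset_span ⟨X (Fin.natAdd n j), show π' _ = 0 by simp [π'], NeronLib.grad_X _ _⟩

/-- Powers of `a` are strictly standard. -/
theorem exists_pow_isStrictlyStandard [Algebra.FinitePresentation R A] [Algebra.Smooth R (Localization.Away a)]
    (p q : ℕ) (e : (KaehlerDifferential R (Localization.Away a) × (Fin p → Localization.Away a)) ≃ₗ[Localization.Away a]
      (Fin q → Localization.Away a)) :
    ∃ e₀ : ℕ, ∀ k : ℕ, e₀ ≤ k → IsStrictlyStandard R A (a ^ k) := by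
  classical
  obtain ⟨N, c, π, b, W, hπ, hfg, hW, hspan⟩ := exists_split_relations a p q e
  let S := Localization.Away a
  obtain ⟨m, G, hG⟩ := Submodule.fg_iff_exists_fin_generating_family.1 hfg
  obtain ⟨a₀, ha₀⟩ := hπ a
  let φ := (IsScalarTower.toAlgHom R A S).comp π
  let I : Ideal (MvPolynomial (Fin N) R) := RingHom.ker π.toRingHom
  have hIφ : ∀ x ∈ I, φ x = 0 := fun x hx => by
    change algebraMap A S (π x) = 0
    rw [show π x = 0 from hx, map_zero]
  have hu : ∀ k : ℕ, IsUnit (algebraMap A S (a ^ k)) := fun k => by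
    rw [map_pow]; exact (IsLocalization.Away.algebraMap_isUnit a).pow k
  -- lifts of the basis
  have hlift : ∀ v ∈ NeronLib.relJac (Λ := S) π, ∃ (k : ℕ) (f : MvPolynomial (Fin N) R),
      f ∈ I ∧ NeronLib.grad φ f = algebraMap A S (a ^ k) • v := by
    intro v hv
    induction hv using Submodule.span_induction with
    | mem w hw => obtain ⟨x, hx, rfl⟩ := hw; exact ⟨0, x, hx, by rw [pow_zero, map_one, one_smul]⟩
    | zero => exact ⟨0, 0, I.zero_mem, by rw [NeronLib.grad_zero, smul_zero]⟩
    | add u w _ _ hu' hw' =>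
      obtain ⟨k, f, hf, hfe⟩ := hu'
      obtain ⟨k', f', hf', hfe'⟩ := hw'
      refine ⟨k + k', a₀ ^ k' * f + a₀ ^ k * f', add_mem (I.mul_mem_left _ hf) (I.mul_mem_left _ hf'), ?_⟩
      rw [NeronLib.grad_add, NeronLib.grad_mul, NeronLib.grad_mul, hIφ f hf, hIφ f' hf', zero_smul, zero_smul,
        add_zero, add_zero, hfe, hfe', smul_add, smul_smul, smul_smul]
      have hφ : ∀ k, φ (a₀ ^ k) = algebraMap A S (a ^ k) := fun k => by
        change algebraMap A S (π (a₀ ^ k)) = _
        rw [map_pow, ha₀]
      rw [hφ, hφ, ← map_mul, ← map_mul, ← pow_add, ← pow_add, add_comm k' k]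
    | smul r w _ hw' =>
      obtain ⟨k, f, hf, hfe⟩ := hw'
      obtain ⟨k', y, hy⟩ := IsLocalization.Away.surj a r
      obtain ⟨y, rfl⟩ := hπ y
      refine ⟨k + k', y * f, I.mul_mem_left _ hf, ?_⟩
      rw [NeronLib.grad_mul, hIφ f hf, zero_smul, add_zero, hfe, smul_smul, smul_smul]
      congr 1
      rw [show φ y = algebraMap A S (π y) from rfl, ← hy, map_pow, map_pow, pow_add]
      ring
  choose kb fb hfbI hfb using fun i => hlift (b i) (hspan ▸ Submodule.subset_span ⟨i, rfl⟩)
  let g : Fin c → Fin N → S := fun i => NeronLib.grad φ (fb i)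
  let W' : (Fin N → S) →ₗ[S] (Fin c → S) :=
    LinearMap.pi fun i => (↑(hu (kb i)).unit⁻¹ : S) • (LinearMap.proj i ∘ₗ W)
  have hW' : ∀ i, W' (g i) = Pi.single i 1 := fun i => funext fun j => by
    change (↑(hu (kb j)).unit⁻¹ : S) * W (NeronLib.grad φ (fb i)) j = _
    rw [hfb, map_smul, hW, Pi.smul_apply, smul_eq_mul]
    by_cases h : j = i
    · subst h; simp
    · simp [Pi.single_eq_of_ne h]
  by_cases hcN : c ≤ N
  swap
  · -- the localization is trivial
    have htop := span_minors_eq_top g W' hW'
    have h0 : (1 : S) = 0 := by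
      by_contra h10
      haveI : Nontrivial S := ⟨⟨1, 0, h10⟩⟩
      refine hcN ?_
      have hinj : Function.Injective (Fintype.linearCombination S g) := by
        have : ∀ v, W' (Fintype.linearCombination S g v) = v := fun v => by
          rw [Fintype.linearCombination_apply, map_sum]
          simp only [map_smul, hW']
          exact (pi_eq_sum_univ' v).symm
        exact Function.LeftInverse.injective this
      exact le_of_fin_injective S _ hinj
    obtain ⟨⟨_, k₀, rfl⟩, hk₀⟩ := (IsLocalization.map_eq_zero_iff (Submonoid.powers a) S 1).1 (by rw [map_one]; exact h0)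
    refine ⟨k₀, fun k hk => ?_⟩
    have hak : a ^ k = 0 := by
      rw [← Nat.add_sub_of_le hk, pow_add, show a ^ k₀ = 0 by simpa using hk₀, zero_mul]
    refine ⟨⟨N, m, 0, Nat.zero_le _, Nat.zero_le _, G, π, hπ, hG.symm⟩, by rw [hak]; exact zero_mem _, ?_⟩
    intro a' ha' j _
    refine Submodule.mem_sup_right ?_
    rw [pow_two]
    refine Ideal.mul_mem_mul ?_ (Ideal.subset_span ⟨j, rfl⟩)
    change (a' : MvPolynomial (Fin N) R) ∈ Ideal.span (Set.range G)
    rw [show Ideal.span (Set.range G) = I from hG]
    exact ha'.trans hak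
  -- the tail
  have htail : ∀ j, ∃ k : ℕ, a₀ ^ k * G j ∈ Ideal.span (Set.range fb) ⊔ I ^ 2 := by
    intro j
    have hGI : G j ∈ I := by
      change G j ∈ RingHom.ker π.toRingHom
      rw [← hG]; exact Submodule.subset_span ⟨j, rfl⟩
    obtain ⟨μ, hμ⟩ := (Submodule.mem_span_range_iff_exists_fun S).1
      (show NeronLib.grad φ (G j) ∈ Submodule.span S (Set.range b) from hspan ▸ Submodule.subset_span ⟨G j, hGI, rfl⟩)
    obtain ⟨⟨_, k, rfl⟩, hk⟩ := IsLocalization.exist_integer_multiples_of_finite (Submonoid.powers a)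
      (fun i => μ i * (↑(hu (kb i)).unit⁻¹ : S))
    choose d hd using hk
    choose y hy using fun i => hπ (d i)
    let z := a₀ ^ k * G j - ∑ i, y i * fb i
    have hzI : π z = 0 := (sub_mem (I.mul_mem_left _ hGI) (I.sum_mem fun i _ => I.mul_mem_left _ (hfbI i)) : z ∈ I)
    have hzg : NeronLib.grad φ z = 0 := by
      simp only [z, NeronLib.grad_sub, NeronLib.grad_sum, NeronLib.grad_mul, hIφ _ hGI, hIφ _ (hfbI _), zero_smul,
        add_zero, hfb, smul_smul]
      rw [← hμ, show φ (a₀ ^ k) = algebraMap A S (a ^ k) by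
        change algebraMap A S (π (a₀ ^ k)) = _
        rw [map_pow, ha₀], Finset.smul_sum, sub_eq_zero]
      refine Finset.sum_congr rfl fun i _ => ?_
      rw [smul_smul]
      congr 1
      rw [show φ (y i) = algebraMap A S (d i) from congrArg (algebraMap A S) (hy i), hd i, Algebra.smul_def, mul_assoc, mul_assoc,
        IsUnit.val_inv_mul, mul_one]
    obtain ⟨k', hk'⟩ := exists_pow_mul_mem_sq a π hπ ha₀ hzI hzg
    refine ⟨k' + k, ?_⟩
    rw [show a₀ ^ (k' + k) * G j = (∑ i, a₀ ^ k' * y i * fb i) + a₀ ^ k' * z by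
      simp only [z, mul_assoc, ← Finset.mul_sum]; ring]
    exact Submodule.add_mem_sup (Ideal.sum_mem _ fun i _ => Ideal.mul_mem_left _ _ (Ideal.subset_span ⟨i, rfl⟩)) hk'
  choose kt hkt using htail
  -- the minors
  have hone : (1 : S) ∈ (Ideal.span (Set.range fun cols : Fin c → Fin N => π (jacobianMinor fb id cols))).map (algebraMap A S) := by
    rw [Ideal.map_span, ← Set.range_comp]
    have hminor : ∀ cols, algebraMap A S (π (jacobianMinor fb id cols)) = Matrix.det (Matrix.of fun i j => g i (cols j)) := by
      intro cols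
      change φ (jacobianMinor fb id cols) = _
      rw [jacobianMinor, AlgHom.map_det]
      rfl
    have hfun : (algebraMap A S ∘ fun cols : Fin c → Fin N => π (jacobianMinor fb id cols)) =
        fun cols => Matrix.det (Matrix.of fun i j => g i (cols j)) := funext hminor
    rw [hfun, span_minors_eq_top g W' hW']
    trivial
  rw [← map_one (algebraMap A S), IsLocalization.algebraMap_mem_map_algebraMap_iff (Submonoid.powers a)] at hone
  obtain ⟨_, ⟨km, rfl⟩, hkm⟩ := hone
  rw [mul_one] at hkm
  let e₀ := km + ∑ j, kt j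
  refine ⟨e₀, fun k hk => ?_⟩
  let rel : Fin (c + m) → MvPolynomial (Fin N) R := Fin.append fb G
  have hker : RingHom.ker π.toRingHom = Ideal.span (Set.range rel) := by
    refine le_antisymm ?_ (Ideal.span_le.2 ?_)
    · rw [← hG]
      refine Ideal.span_mono ?_
      rintro _ ⟨j, rfl⟩
      exact ⟨Fin.natAdd c j, by simp [rel]⟩
    · rintro _ ⟨i, rfl⟩
      refine Fin.addCases (fun i => ?_) (fun j => ?_) i
      · simp only [rel, Fin.append_left]; exact hfbI i
      · simp only [rel, Fin.append_right]
        rw [← hG]; exact Submodule.subset_span ⟨j, rfl⟩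
  refine ⟨⟨N, c + m, c, hcN, Nat.le_add_right c m, rel, π, hπ, hker⟩, ?_, ?_⟩
  · change a ^ k ∈ Ideal.span (Set.range fun cols : Fin c → Fin N =>
      π (jacobianMinor rel (Fin.castLE (Nat.le_add_right c m)) cols))
    have hrows : ∀ cols : Fin c → Fin N,
        jacobianMinor rel (Fin.castLE (Nat.le_add_right c m)) cols = jacobianMinor fb id cols := fun cols => by
      rw [jacobianMinor, jacobianMinor]
      congr 1
      refine Matrix.ext fun i j => ?_
      simp only [Matrix.of_apply, id_eq]
      rw [show Fin.castLE (Nat.le_add_right c m) i = Fin.castAdd m i from Fin.ext rfl]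
      simp [rel]
    simp only [hrows]
    rw [← Nat.add_sub_of_le (show km ≤ k from le_trans (Nat.le_add_right _ _) hk), pow_add]
    exact Ideal.mul_mem_right _ _ hkm
  · intro a' ha' j hj
    change Fin (c + m) at j
    change (a' : MvPolynomial (Fin N) R) * rel j ∈
      Ideal.span (rel '' {j' : Fin (c + m) | (j' : ℕ) < c}) ⊔ Ideal.span (Set.range rel) ^ 2
    rw [← hker, show (a' : MvPolynomial (Fin N) R) * rel j = a₀ ^ k * rel j + (a' - a₀ ^ k) * rel j by ring]
    refine add_mem ?_ (Submodule.mem_sup_right ?_)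
    · revert hj
      refine Fin.addCases (fun i => ?_) (fun j => ?_) j
      · intro hj; exact absurd hj (by simp)
      · intro _
        have hle : kt j ≤ k := le_trans (Finset.single_le_sum (f := kt) (fun _ _ => Nat.zero_le _) (Finset.mem_univ j))
          (le_trans (Nat.le_add_left _ _) hk)
        rw [show rel (Fin.natAdd c j) = G j by simp [rel], ← Nat.sub_add_cancel hle, pow_add, mul_assoc]
        refine Ideal.mul_mem_left _ _ ?_
        refine (sup_le_sup (Ideal.span_mono ?_) le_rfl : Ideal.span (Set.range fb) ⊔ I ^ 2 ≤ _) (hkt j)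
        rintro _ ⟨i, rfl⟩
        exact ⟨Fin.castAdd m i, i.2, by simp [rel]⟩
    · rw [pow_two]
      refine Ideal.mul_mem_mul ?_ (hker ▸ Ideal.subset_span ⟨j, rfl⟩)
      rw [RingHom.mem_ker, map_sub, sub_eq_zero]
      refine ha'.trans ?_
      change _ = π (a₀ ^ k)
      rw [map_pow, ha₀]

end Groth.Agent.SmoothingLib
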