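import Mathlib
import Groth.Prelude.Def_Smoothing
import Groth.Agent.SmoothingLib.StablyFree
import Groth.Agent.SmoothingLib.ConormalSym
import Groth.Agent.SmoothingLib.ConormalSmooth

/-! Adjoining parameters to a problem over a field. -/

set_option autoImplicit false
universe u

noncomputable section

namespace Groth.Agent.SmoothingLib

open MvPolynomial Smoothing

section param

variable {k A : Type u} [CommRing k] [CommRing A] [Algebra k A] {d t : ℕ} (a : Fin t → A) (N : ℕ)

/-- The equation tying a parameter to the elements `a`. -/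
def paramRel (i : Fin d) : MvPolynomial (Fin d ⊕ Fin d × Fin t) A :=
  X (Sum.inl i) ^ N - ∑ j, C (a j) * X (Sum.inr (i, j))

/-- The algebra with parameters. -/
abbrev ParamAlg (d : ℕ) : Type u :=
  MvPolynomial (Fin d ⊕ Fin d × Fin t) A ⧸ Ideal.span (Set.range (paramRel (d := d) a N))

theorem exists_param [IsNoetherianRing k] [Algebra.FinitePresentation k A] {Λ : Type u} [CommRing Λ] [Algebra k Λ]
    [Algebra (MvPolynomial (Fin d) k) Λ] [IsScalarTower k (MvPolynomial (Fin d) k) Λ]
    (φ : A →ₐ[k] Λ) (lam : Fin d → Fin t → Λ)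
    (hlam : ∀ i, algebraMap (MvPolynomial (Fin d) k) Λ (X i) ^ N = ∑ j, φ (a j) * lam i j)
    (hsm : ∀ j, Algebra.Smooth k (Localization.Away (a j))) :
    ∃ (A' : Type u) (_ : CommRing A') (_ : Algebra k A') (_ : Algebra (MvPolynomial (Fin d) k) A')
      (_ : IsScalarTower k (MvPolynomial (Fin d) k) A'),
      Algebra.FinitePresentation (MvPolynomial (Fin d) k) A' ∧
      ∃ (ι : A →ₐ[k] A') (φ' : A' →ₐ[MvPolynomial (Fin d) k] Λ), (∀ x, φ' (ι x) = φ x) ∧
        (∀ j, Algebra.Smooth (MvPolynomial (Fin d) k) (Localization.Away (ι (a j)))) ∧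
        ∀ i, Algebra.Smooth (MvPolynomial (Fin d) k)
          (Localization.Away (algebraMap (MvPolynomial (Fin d) k) A' (X i))) := by
  classical
  let mkA : MvPolynomial (Fin d ⊕ Fin d × Fin t) A →ₐ[k] ParamAlg a N d := Ideal.Quotient.mkₐ k _
  let x : Fin d → ParamAlg a N d := fun i => mkA (X (Sum.inl i))
  letI : Algebra (MvPolynomial (Fin d) k) (ParamAlg a N d) := (aeval x).toRingHom.toAlgebra
  haveI : IsScalarTower k (MvPolynomial (Fin d) k) (ParamAlg a N d) :=
    IsScalarTower.of_algebraMap_eq fun c => ((aeval x).commutes c).symm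
  have hX : ∀ i, algebraMap (MvPolynomial (Fin d) k) (ParamAlg a N d) (X i) = x i := fun i => aeval_X x i
  haveI : IsNoetherianRing A := Algebra.FiniteType.isNoetherianRing k A
  haveI : Algebra.FinitePresentation k (MvPolynomial (Fin d ⊕ Fin d × Fin t) A) :=
    Algebra.FinitePresentation.trans k A _
  haveI : Algebra.FinitePresentation k (ParamAlg a N d) :=
    Algebra.FinitePresentation.quotient (IsNoetherian.noetherian _)
  haveI hfp : Algebra.FinitePresentation (MvPolynomial (Fin d) k) (ParamAlg a N d) :=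
    Algebra.FinitePresentation.of_restrict_scalars_finitePresentation k _ _
  let ι : A →ₐ[k] ParamAlg a N d := mkA.comp (IsScalarTower.toAlgHom k A _)
  have hι : ∀ y, ι y = mkA (C y) := fun y => rfl
  have hrel : ∀ i, x i ^ N = ∑ j, ι (a j) * mkA (X (Sum.inr (i, j))) := fun i => by
    have h : mkA (paramRel a N i) = 0 := Ideal.Quotient.eq_zero_iff_mem.2 (Ideal.subset_span ⟨i, rfl⟩)
    simp only [paramRel, map_sub, map_pow, map_sum, map_mul] at h
    exact sub_eq_zero.1 h
  -- smoothness where some `a j` is invertible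
  have hsma : ∀ j₀, Algebra.Smooth (MvPolynomial (Fin d) k) (Localization.Away (ι (a j₀))) := by
    intro j₀
    haveI := hsm j₀
    haveI : Algebra.FinitePresentation (ParamAlg a N d) (Localization.Away (ι (a j₀))) :=
      IsLocalization.Away.finitePresentation (ι (a j₀))
    refine ⟨?_, Algebra.FinitePresentation.trans (MvPolynomial (Fin d) k) (ParamAlg a N d) _⟩
    rw [Algebra.FormallySmooth.iff_comp_surjective]
    intro B _ _ I hI f
    letI : Algebra k B := Algebra.compHom B (algebraMap k (MvPolynomial (Fin d) k))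
    haveI : IsScalarTower k (MvPolynomial (Fin d) k) B := IsScalarTower.of_algebraMap_eq fun _ => rfl
    haveI : IsScalarTower k (MvPolynomial (Fin d) k) (B ⧸ I) := IsScalarTower.of_algebraMap_eq fun _ => rfl
    let toE : ParamAlg a N d →ₐ[k] Localization.Away (ι (a j₀)) := IsScalarTower.toAlgHom k _ _
    let fA : A →ₐ[k] B ⧸ I := (f.restrictScalars k).comp (toE.comp ι)
    have hfu : IsUnit (fA (a j₀)) := (IsLocalization.Away.algebraMap_isUnit (ι (a j₀))).map f
    let fa : Localization.Away (a j₀) →ₐ[k] B ⧸ I :=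
      { toRingHom := IsLocalization.Away.lift (a j₀) (g := fA.toRingHom) hfu
        commutes' := fun c => by
          change IsLocalization.Away.lift (a j₀) hfu (algebraMap k _ c) = _
          rw [IsScalarTower.algebraMap_apply k A (Localization.Away (a j₀)), IsLocalization.Away.lift_eq]
          exact fA.commutes c }
    obtain ⟨g, hg⟩ := Algebra.FormallySmooth.comp_surjective k (Localization.Away (a j₀)) I hI fa
    let gA : A →ₐ[k] B := g.comp (IsScalarTower.toAlgHom k A (Localization.Away (a j₀)))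
    have hgA : ∀ y, Ideal.Quotient.mk I (gA y) = fA y := fun y =>
      (AlgHom.congr_fun hg (algebraMap A _ y)).trans (IsLocalization.Away.lift_eq (a j₀) hfu y)
    have hu : IsUnit (gA (a j₀)) := (IsLocalization.Away.algebraMap_isUnit (a j₀)).map g
    choose ζ hζ using fun p : Fin d × Fin t => Ideal.Quotient.mk_surjective (f (toE (mkA (X (Sum.inr p)))))
    let ζ' : Fin d × Fin t → B := fun p =>
      if p.2 = j₀ then ↑hu.unit⁻¹ * (algebraMap (MvPolynomial (Fin d) k) B (X p.1) ^ N -
        ∑ j ∈ Finset.univ.erase j₀, gA (a j) * ζ (p.1, j)) else ζ p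
    let vals : Fin d ⊕ Fin d × Fin t → B := Sum.elim (fun i => algebraMap (MvPolynomial (Fin d) k) B (X i)) ζ'
    let G0 : MvPolynomial (Fin d ⊕ Fin d × Fin t) A →ₐ[k] B := aevalTower gA vals
    have hG0 : ∀ y ∈ Ideal.span (Set.range (paramRel (d := d) a N)), G0 y = 0 := by
      intro y hy
      refine (show Ideal.span (Set.range (paramRel (d := d) a N)) ≤ RingHom.ker G0 from Ideal.span_le.2 ?_) hy
      rintro _ ⟨i, rfl⟩
      have hne : ∀ j ∈ Finset.univ.erase j₀, gA (a j) * ζ' (i, j) = gA (a j) * ζ (i, j) := fun j hj => by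
        simp only [ζ', if_neg (Finset.ne_of_mem_erase hj)]
      rw [SetLike.mem_coe, RingHom.mem_ker, paramRel, map_sub, map_pow, map_sum]
      simp only [G0, map_mul, aevalTower_C, aevalTower_X, vals, Sum.elim_inl, Sum.elim_inr]
      rw [← Finset.add_sum_erase _ _ (Finset.mem_univ j₀), Finset.sum_congr rfl hne]
      simp only [ζ', if_true]
      rw [← mul_assoc, IsUnit.mul_val_inv, one_mul]
      ring
    let G1 : ParamAlg a N d →ₐ[k] B := Ideal.Quotient.liftₐ _ G0 hG0
    have hG1u : IsUnit (G1 (ι (a j₀))) := by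
      change IsUnit (G0 (C (a j₀)))
      simpa [G0] using hu
    let G2 : Localization.Away (ι (a j₀)) →+* B := IsLocalization.Away.lift (ι (a j₀)) (g := G1.toRingHom) hG1u
    have hG2 : ∀ y, G2 (toE y) = G1 y := fun y => IsLocalization.Away.lift_eq _ hG1u y
    have hcommR : ∀ p, G2 (algebraMap (MvPolynomial (Fin d) k) _ p) = algebraMap (MvPolynomial (Fin d) k) B p := by
      intro p
      rw [IsScalarTower.algebraMap_apply (MvPolynomial (Fin d) k) (ParamAlg a N d) (Localization.Away (ι (a j₀)))]
      change G2 (toE _) = _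
      rw [hG2]
      have : G1.comp (IsScalarTower.toAlgHom k (MvPolynomial (Fin d) k) (ParamAlg a N d)) =
          IsScalarTower.toAlgHom k (MvPolynomial (Fin d) k) B := MvPolynomial.algHom_ext fun i => by
        change G1 (algebraMap _ _ (X i)) = algebraMap _ B (X i)
        rw [hX]
        change G0 (X (Sum.inl i)) = _
        simp [G0, vals]
      exact AlgHom.congr_fun this p
    refine ⟨{ G2 with commutes' := hcommR }, AlgHom.ext fun z => ?_⟩
    have key : ((Ideal.Quotient.mk I).comp G2) = f.toRingHom := by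
      refine IsLocalization.ringHom_ext (Submonoid.powers (ι (a j₀))) ?_
      refine Ideal.Quotient.ringHom_ext (MvPolynomial.ringHom_ext (fun y => ?_) fun o => ?_)
      · change Ideal.Quotient.mk I (G2 (toE (ι y))) = f (toE (ι y))
        rw [hG2]
        change Ideal.Quotient.mk I (G0 (C y)) = _
        simp only [G0, aevalTower_C]
        exact hgA y
      · change Ideal.Quotient.mk I (G2 (toE (mkA (X o)))) = f (toE (mkA (X o)))
        rw [hG2]
        change Ideal.Quotient.mk I (G0 (X o)) = _
        simp only [G0, aevalTower_X, vals]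
        have hx : ∀ i, Ideal.Quotient.mk I (algebraMap (MvPolynomial (Fin d) k) B (X i)) = f (toE (x i)) := fun i => by
          rw [← hX]
          change algebraMap (MvPolynomial (Fin d) k) (B ⧸ I) (X i) =
            f (algebraMap (ParamAlg a N d) _ (algebraMap (MvPolynomial (Fin d) k) _ (X i)))
          rw [← IsScalarTower.algebraMap_apply, AlgHom.commutes]
        rcases o with i | ⟨i, j⟩
        · exact hx i
        · simp only [Sum.elim_inr, ζ']
          split_ifs with h
          · subst h
            refine (hu.map (Ideal.Quotient.mk I)).mul_right_inj.1 ?_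
            rw [← map_mul, ← mul_assoc, IsUnit.mul_val_inv, one_mul, map_sub, map_pow, hx, map_sum]
            simp only [map_mul, hgA, hζ]
            rw [← map_pow, ← map_pow, hrel i, ← Finset.add_sum_erase _ _ (Finset.mem_univ j)]
            simp only [map_add, map_sum, map_mul]
            exact add_sub_cancel_right _ _
          · exact hζ (i, j)
    exact RingHom.congr_fun key z
  -- the map to `Λ`
  let Φ0 : MvPolynomial (Fin d ⊕ Fin d × Fin t) A →ₐ[k] Λ :=
    aevalTower φ (Sum.elim (fun i => algebraMap (MvPolynomial (Fin d) k) Λ (X i)) fun p => lam p.1 p.2)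
  have hΦ0 : ∀ y ∈ Ideal.span (Set.range (paramRel (d := d) a N)), Φ0 y = 0 := by
    intro y hy
    refine (show Ideal.span (Set.range (paramRel (d := d) a N)) ≤ RingHom.ker Φ0 from Ideal.span_le.2 ?_) hy
    rintro _ ⟨i, rfl⟩
    rw [SetLike.mem_coe, RingHom.mem_ker, paramRel, map_sub, map_pow, map_sum, sub_eq_zero]
    simp only [Φ0, map_mul, aevalTower_C, aevalTower_X, Sum.elim_inl, Sum.elim_inr]
    exact hlam i
  let Φ1 : ParamAlg a N d →ₐ[k] Λ := Ideal.Quotient.liftₐ _ Φ0 hΦ0
  have hΦR : Φ1.comp (IsScalarTower.toAlgHom k (MvPolynomial (Fin d) k) (ParamAlg a N d)) =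
      IsScalarTower.toAlgHom k (MvPolynomial (Fin d) k) Λ := MvPolynomial.algHom_ext fun i => by
    change Φ1 (algebraMap _ _ (X i)) = algebraMap _ Λ (X i)
    rw [hX]
    change Φ0 (X (Sum.inl i)) = _
    simp [Φ0]
  refine ⟨ParamAlg a N d, inferInstance, inferInstance, inferInstance, inferInstance, hfp, ι,
    { toRingHom := Φ1.toRingHom, commutes' := fun p => AlgHom.congr_fun hΦR p }, fun y => ?_, hsma, fun i => ?_⟩
  · exact aevalTower_C _ _ y
  · refine Algebra.basicOpen_subset_smoothLocus_iff_smooth.1 fun Q hQ => ?_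
    have hex : ∃ j, ι (a j) ∉ Q.asIdeal := by
      by_contra hne
      simp only [not_exists, not_not] at hne
      refine hQ (Q.2.mem_of_pow_mem N ?_)
      rw [hX, hrel]
      exact Ideal.sum_mem _ fun j _ => Ideal.mul_mem_right _ _ (hne j)
    obtain ⟨j, hj⟩ := hex
    exact Algebra.basicOpen_subset_smoothLocus_iff_smooth.2 (hsma j) hj

end param

/-- A retract with strictly standard powers. -/
theorem exists_standard_retract {R A : Type u} [CommRing R] [IsNoetherianRing R] [CommRing A] [Algebra R A]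
    [Algebra.FinitePresentation R A] :
    ∃ (C : Type u) (_ : CommRing C) (_ : Algebra R C), Algebra.FinitePresentation R C ∧
      ∃ (ι : A →ₐ[R] C) (ρ : C →ₐ[R] A), (∀ a, ρ (ι a) = a) ∧
        ∀ a : A, Algebra.Smooth R (Localization.Away a) →
          Algebra.Smooth R (Localization.Away (ι a)) ∧
            ∃ e₀ : ℕ, ∀ n : ℕ, e₀ ≤ n → IsStrictlyStandard R C (ι a ^ n) := by
  obtain ⟨n, π, hπ, hfg⟩ := Algebra.FinitePresentation.out (R := R) (A := A)
  obtain ⟨m, f, hf⟩ := Submodule.fg_iff_exists_fin_generating_family.1 hfg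
  haveI : IsNoetherianRing A := Algebra.FiniteType.isNoetherianRing R A
  haveI : Algebra.FinitePresentation R (MvPolynomial (Fin m) A) := Algebra.FinitePresentation.trans R A _
  haveI hC : Algebra.FinitePresentation R (ConormalSym π f) :=
    Algebra.FinitePresentation.of_surjective
      (f := Ideal.Quotient.mkₐ R (conormalRels π f)) Ideal.Quotient.mk_surjective (by
      change (RingHom.ker (Ideal.Quotient.mk (conormalRels π f))).FG
      rw [Ideal.mk_ker]
      exact IsNoetherian.noetherian _)
  have hρ : ∀ y ∈ conormalRels π f, MvPolynomial.aeval (fun _ : Fin m => (0 : A)) y = 0 := by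
    intro y hy
    have hle : conormalRels π f ≤ RingHom.ker (MvPolynomial.aeval (fun _ : Fin m => (0 : A))) := by
      refine Ideal.span_le.2 ?_
      rintro _ ⟨b, -, rfl⟩
      simp
    exact hle hy
  let ρ : ConormalSym π f →ₐ[A] A := Ideal.Quotient.liftₐ _ (MvPolynomial.aeval fun _ => (0 : A)) hρ
  refine ⟨ConormalSym π f, inferInstance, inferInstance, hC, IsScalarTower.toAlgHom R A _, ρ.restrictScalars R,
    fun a => ρ.commutes a, fun a ha => ?_⟩
  haveI := ha
  haveI hfs := formallySmooth_conormalSym π f hπ hf.symm a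
  haveI : Algebra.FinitePresentation (ConormalSym π f)
      (Localization.Away (algebraMap A (ConormalSym π f) a)) :=
    IsLocalization.Away.finitePresentation (algebraMap A (ConormalSym π f) a)
  haveI : Algebra.FinitePresentation R (Localization.Away (algebraMap A (ConormalSym π f) a)) :=
    Algebra.FinitePresentation.trans R (ConormalSym π f) _
  haveI hsmC : Algebra.Smooth R (Localization.Away (algebraMap A (ConormalSym π f) a)) := ⟨hfs, inferInstance⟩
  refine ⟨hsmC, ?_⟩
  haveI := free_kaehler_conormalSym π f hπ hf.symm a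
  let b := Module.Free.chooseBasis (Localization.Away (algebraMap A (ConormalSym π f) a))
    (KaehlerDifferential R (Localization.Away (algebraMap A (ConormalSym π f) a)))
  exact exists_pow_isStrictlyStandard (algebraMap A (ConormalSym π f) a) 0 _
    (LinearEquiv.prodUnique.trans (b.reindex (Fintype.equivFin _)).equivFun)

/-- Zero is strictly standard. -/
theorem isStrictlyStandard_zero {R A : Type u} [CommRing R] [CommRing A] [Algebra R A]
    [Algebra.FinitePresentation R A] : IsStrictlyStandard R A 0 := by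
  obtain ⟨n, π, hπ, hfg⟩ := Algebra.FinitePresentation.out (R := R) (A := A)
  obtain ⟨m, f, hf⟩ := Submodule.fg_iff_exists_fin_generating_family.1 hfg
  let P : MarkedPresentation R A :=
    { n := n, m := m, c := 0, hcn := n.zero_le, hcm := m.zero_le, rel := f, hom := π, surj := hπ
      ker_eq := hf.symm }
  refine ⟨P, zero_mem _, fun a' ha' j _ => Submodule.mem_sup_right ?_⟩
  rw [pow_two]
  refine Ideal.mul_mem_mul ?_ (Ideal.subset_span ⟨j, rfl⟩)
  rw [← P.ker_eq]
  exact ha'

/-- A variable is regular modulo powers of other variables. -/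
theorem mem_of_X_pow_mul_mem {k : Type u} [CommRing k] {d : ℕ} (S : Set (Fin d)) (e : Fin d → ℕ) (i : Fin d)
    (hi : i ∉ S) (M : ℕ) {p : MvPolynomial (Fin d) k}
    (h : X i ^ M * p ∈ Ideal.span ((fun j => X j ^ e j) '' S)) :
    p ∈ Ideal.span ((fun j => (X j : MvPolynomial (Fin d) k) ^ e j) '' S) := by
  have himg : ((fun j => (X j : MvPolynomial (Fin d) k) ^ e j) '' S) =
      (fun s => monomial s (1 : k)) '' ((fun j => Finsupp.single j (e j)) '' S) := by
    rw [← Set.image_comp]
    exact Set.image_congr fun j _ => X_pow_eq_monomial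
  rw [himg] at h ⊢
  rw [mem_ideal_span_monomial_image] at h ⊢
  intro v hv
  have hv' : Finsupp.single i M + v ∈ (X i ^ M * p).support := by
    rw [mem_support_iff, X_pow_eq_monomial, coeff_monomial_mul, one_mul]
    exact mem_support_iff.1 hv
  obtain ⟨_, ⟨j, hj, rfl⟩, hle⟩ := h _ hv'
  refine ⟨_, ⟨j, hj, rfl⟩, Finsupp.single_le_iff.2 ?_⟩
  have := Finsupp.single_le_iff.1 hle
  rwa [Finsupp.add_apply, Finsupp.single_eq_of_ne (show j ≠ i from fun h => hi (h ▸ hj)), zero_add] at this

/-- Kernels of multiplication by powers stabilise. -/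
theorem exists_stable_pow {Λ : Type u} [CommRing Λ] [IsNoetherianRing Λ] (J : Ideal Λ) (y : Λ) :
    ∃ M, ∀ n, M ≤ n → ∀ z, (y ^ n) ^ 2 * z ∈ J → y ^ n * z ∈ J := by
  let f : ℕ →o Ideal Λ :=
    { toFun := fun n => Submodule.comap (LinearMap.mulLeft Λ (y ^ n)) J
      monotone' := monotone_nat_of_le_succ fun n z hz => by
        change y ^ (n + 1) * z ∈ J
        rw [pow_succ, mul_comm (y ^ n), mul_assoc]
        exact J.mul_mem_left _ hz }
  obtain ⟨M, hM⟩ := monotone_stabilizes_iff_noetherian.2 (inferInstance : IsNoetherian Λ Λ) f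
  refine ⟨M, fun n hn z hz => ?_⟩
  have hz' : z ∈ f (n * 2) := by
    change y ^ (n * 2) * z ∈ J
    rwa [pow_mul]
  rw [← hM (n * 2) (by omega), hM n hn] at hz'
  exact hz'

/-- Exponents with stable annihilators. -/
theorem exists_exponents {Λ : Type u} [CommRing Λ] [IsNoetherianRing Λ] {d : ℕ} (y : Fin d → Λ) (lb : Fin d → ℕ) :
    ∃ m : Fin d → ℕ, (∀ i, lb i ≤ m i) ∧ (∀ i, 0 < m i) ∧ ∀ i : Fin d, ∀ z : Λ,
      (y i ^ m i) ^ 2 * z ∈ Ideal.span (Set.range fun j : {j : Fin d // (j : ℕ) < (i : ℕ)} => (y j ^ m j) ^ 8) →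
      y i ^ m i * z ∈ Ideal.span (Set.range fun j : {j : Fin d // (j : ℕ) < (i : ℕ)} => (y j ^ m j) ^ 8) := by
  classical
  suffices h : ∀ k, k ≤ d → ∃ m : Fin d → ℕ, (∀ i, lb i ≤ m i) ∧ (∀ i, 0 < m i) ∧ ∀ i : Fin d, (i : ℕ) < k → ∀ z : Λ,
      (y i ^ m i) ^ 2 * z ∈ Ideal.span (Set.range fun j : {j : Fin d // (j : ℕ) < (i : ℕ)} => (y j ^ m j) ^ 8) →
      y i ^ m i * z ∈ Ideal.span (Set.range fun j : {j : Fin d // (j : ℕ) < (i : ℕ)} => (y j ^ m j) ^ 8) by
    obtain ⟨m, h1, h2, h3⟩ := h d le_rfl
    exact ⟨m, h1, h2, fun i => h3 i i.2⟩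
  intro k
  induction k with
  | zero => exact fun _ => ⟨fun i => lb i + 1, fun i => Nat.le_succ _, fun i => Nat.succ_pos _,
      fun i hi => absurd hi (Nat.not_lt_zero _)⟩
  | succ k ih =>
    intro hk
    obtain ⟨m, h1, h2, h3⟩ := ih (by omega)
    let i₀ : Fin d := ⟨k, hk⟩
    obtain ⟨M, hM⟩ := exists_stable_pow
      (Ideal.span (Set.range fun j : {j : Fin d // (j : ℕ) < (i₀ : ℕ)} => (y j ^ m j) ^ 8)) (y i₀)
    let m' : Fin d → ℕ := Function.update m i₀ (m i₀ + M)
    have hne : ∀ i : Fin d, (i : ℕ) < k → m' i = m i := fun i hi =>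
      Function.update_of_ne (fun e => by rw [e] at hi; exact lt_irrefl k hi) _ _
    have hJ : ∀ i : Fin d, (i : ℕ) ≤ k →
        Ideal.span (Set.range fun j : {j : Fin d // (j : ℕ) < (i : ℕ)} => (y j ^ m' j) ^ 8) =
          Ideal.span (Set.range fun j : {j : Fin d // (j : ℕ) < (i : ℕ)} => (y j ^ m j) ^ 8) := fun i hi => by
      refine congrArg Ideal.span (congrArg Set.range (funext fun j => ?_))
      rw [hne j (lt_of_lt_of_le j.2 hi)]
    have hi₀ : m' i₀ = m i₀ + M := Function.update_self _ _ _
    refine ⟨m', fun i => ?_, fun i => ?_, fun i hi z hz => ?_⟩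
    · rcases eq_or_ne i i₀ with rfl | h
      · rw [hi₀]; exact (h1 i₀).trans (Nat.le_add_right _ _)
      · simp only [m', Function.update_of_ne h]; exact h1 i
    · rcases eq_or_ne i i₀ with rfl | h
      · rw [hi₀]; exact Nat.lt_of_lt_of_le (h2 i₀) (Nat.le_add_right _ _)
      · simp only [m', Function.update_of_ne h]; exact h2 i
    · rw [hJ i (Nat.lt_succ_iff.1 hi)] at hz ⊢
      rcases Nat.lt_succ_iff_lt_or_eq.1 hi with h | h
      · rw [hne i h] at hz ⊢
        exact h3 i h z hz
      · have e : i = i₀ := Fin.ext h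
        subst e
        rw [hi₀] at hz ⊢
        exact hM _ (Nat.le_add_left _ _) z hz

end Groth.Agent.SmoothingLib
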