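import Mathlib
import Groth.Prelude.Def_Smoothing
import Groth.Agent.FieldExtLib.Separable

/-! Ind-smoothness of separable field extensions. -/

set_option autoImplicit false
universe u

noncomputable section

namespace Groth.Agent.SmoothingLib

open Smoothing

/-- A geometrically reduced field extension is ind-smooth. -/
theorem indSmooth_of_isGeometricallyReduced {k F : Type u} [Field k] [Field F] [Algebra k F]
    [Algebra.IsGeometricallyReduced k F] : IndSmooth k F := by
  intro A _ _ hA f
  haveI := hA
  haveI : IsNoetherianRing A := Algebra.FiniteType.isNoetherianRing k A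
  let D := A ⧸ RingHom.ker f
  haveI : (RingHom.ker f).IsPrime := RingHom.ker_isPrime _
  haveI : Algebra.FinitePresentation k D := Algebra.FinitePresentation.quotient (IsNoetherian.noetherian _)
  let fD : D →ₐ[k] F := Ideal.Quotient.liftₐ (RingHom.ker f) f fun x hx => hx
  have hfD : Function.Injective fD := by
    rw [injective_iff_map_eq_zero]
    intro x hx
    obtain ⟨a, rfl⟩ := Ideal.Quotient.mk_surjective x
    exact Ideal.Quotient.eq_zero_iff_mem.2 hx
  let fK : FractionRing D →ₐ[k] F := IsFractionRing.liftAlgHom (g := fD) hfD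
  haveI : Algebra.IsGeometricallyReduced k (FractionRing D) :=
    Algebra.IsGeometricallyReduced.of_injective fK fK.toRingHom.injective
  haveI : Algebra.FormallySmooth k (FractionRing D) :=
    FieldExtLib.formallySmooth_of_isGeometricallyReduced inferInstance
  haveI : IsLocalization (⊥ : Ideal D).primeCompl (FractionRing D) := by
    rw [Ideal.primeCompl_bot]
    infer_instance
  have hsm : (⟨⊥, Ideal.isPrime_bot⟩ : PrimeSpectrum D) ∈ Algebra.smoothLocus k D :=
    Algebra.FormallySmooth.of_equiv
      ((IsLocalization.algEquiv (⊥ : Ideal D).primeCompl (FractionRing D) (Localization.AtPrime (⊥ : Ideal D))).restrictScalars k)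
  obtain ⟨_, ⟨g, rfl⟩, hg, hsub⟩ :=
    PrimeSpectrum.isTopologicalBasis_basic_opens.exists_subset_of_mem_open hsm Algebra.isOpen_smoothLocus
  have hg0 : g ≠ 0 := fun h => hg (show g ∈ (⊥ : Ideal D) from h)
  haveI : Algebra.Smooth k (Localization.Away g) := Algebra.basicOpen_subset_smoothLocus_iff_smooth.1 hsub
  have hgu : IsUnit (fD g) := isUnit_iff_ne_zero.2 ((map_ne_zero_iff _ hfD).2 hg0)
  let h : Localization.Away g →ₐ[k] F :=
    { toRingHom := IsLocalization.Away.lift g (g := fD.toRingHom) hgu
      commutes' := fun c => by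
        change IsLocalization.Away.lift g hgu (algebraMap k _ c) = _
        rw [IsScalarTower.algebraMap_apply k D (Localization.Away g), IsLocalization.Away.lift_eq]
        exact fD.commutes c }
  refine ⟨Localization.Away g, inferInstance, inferInstance, inferInstance,
    (IsScalarTower.toAlgHom k D (Localization.Away g)).comp (Ideal.Quotient.mkₐ k (RingHom.ker f)), h, AlgHom.ext fun a => ?_⟩
  change IsLocalization.Away.lift g hgu (algebraMap D (Localization.Away g) (Ideal.Quotient.mk _ a)) = f a
  rw [IsLocalization.Away.lift_eq]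
  rfl

/-- Ind-smoothness is invariant under isomorphisms. -/
theorem indSmooth_transfer {k k' F F' : Type u} [CommRing k] [CommRing k'] [CommRing F] [CommRing F']
    [Algebra k F] [Algebra k' F'] (e : k →+* k') (he : Function.Bijective e) (ε : F ≃+* F')
    (hcomm : ∀ x, ε (algebraMap k F x) = algebraMap k' F' (e x)) (h : IndSmooth k F) : IndSmooth k' F' := by
  intro A _ _ hA f
  haveI := hA
  letI : Algebra k k' := e.toAlgebra
  letI : Algebra k A := Algebra.compHom A e
  haveI : IsScalarTower k k' A := IsScalarTower.of_algebraMap_eq fun _ => rfl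
  haveI : Algebra.FinitePresentation k k' :=
    Algebra.FinitePresentation.equiv (AlgEquiv.ofBijective (Algebra.ofId k k') he)
  haveI : Algebra.FormallyEtale k k' :=
    Algebra.FormallyEtale.of_equiv (AlgEquiv.ofBijective (Algebra.ofId k k') he)
  let f' : A →ₐ[k] F :=
    { toRingHom := ε.symm.toRingHom.comp f.toRingHom
      commutes' := fun x => by
        change ε.symm (f (algebraMap k' A (e x))) = _
        rw [AlgHom.commutes, ← hcomm, RingEquiv.symm_apply_apply] }
  obtain ⟨B, _, _, hB, g, hh, hgh⟩ := h A (Algebra.FinitePresentation.trans k k' A) f'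
  letI : Algebra k' B := (g.toRingHom.comp (algebraMap k' A)).toAlgebra
  haveI : IsScalarTower k k' B := IsScalarTower.of_algebraMap_eq fun x => (g.commutes x).symm
  haveI : Algebra.FinitePresentation k B := hB.finitePresentation
  haveI : Algebra.FormallySmooth k B := hB.formallySmooth
  haveI : Algebra.FormallySmooth k' B := Algebra.FormallySmooth.of_restrictScalars k k' B
  haveI : Algebra.FinitePresentation k' B :=
    Algebra.FinitePresentation.of_restrict_scalars_finitePresentation k k' B
  refine ⟨B, inferInstance, inferInstance, ⟨inferInstance, inferInstance⟩,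
    { toRingHom := g.toRingHom, commutes' := fun _ => rfl },
    { toRingHom := ε.toRingHom.comp hh.toRingHom, commutes' := fun x => ?_ }, AlgHom.ext fun a => ?_⟩
  · change ε (hh (g (algebraMap k' A x))) = _
    rw [show hh (g (algebraMap k' A x)) = f' (algebraMap k' A x) from AlgHom.congr_fun hgh _]
    change ε (ε.symm (f (algebraMap k' A x))) = _
    rw [RingEquiv.apply_symm_apply, AlgHom.commutes]
  · change ε (hh (g a)) = f a
    rw [show hh (g a) = f' a from AlgHom.congr_fun hgh a]
    exact ε.apply_symm_apply _

/-- An ind-smooth target can be resolved at every prime. -/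
theorem resolvable_of_indSmooth {R A Λ : Type u} [CommRing R] [CommRing A] [Algebra R A]
    [Algebra.FinitePresentation R A] [CommRing Λ] [Algebra R Λ] (h : IndSmooth R Λ) (φ : A →ₐ[R] Λ)
    (𝔮 : Ideal Λ) (hq : 𝔮 ≠ ⊤) : Resolvable R φ 𝔮 := by
  obtain ⟨B, _, _, hB, g, hh, hgh⟩ := h A inferInstance φ
  haveI := hB
  have htop : singularIdeal R B = ⊤ := by
    rw [singularIdeal, Algebra.smoothLocus_eq_univ, Set.compl_univ, PrimeSpectrum.vanishingIdeal_empty]
  have htop' : singRad R hh = ⊤ := by
    rw [singRad, htop, Ideal.map_top, Ideal.radical_top]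
  refine ⟨B, inferInstance, inferInstance, inferInstance, g, hh, hgh, by rw [htop']; exact le_top, ?_⟩
  rw [htop', top_le_iff]
  exact hq

/-- A problem whose extended singular ideal is not inside the prime is resolved by the identity. -/
theorem resolvable_self {R A Λ : Type u} [CommRing R] [CommRing A] [Algebra R A]
    [Algebra.FinitePresentation R A] [CommRing Λ] [Algebra R Λ] (φ : A →ₐ[R] Λ) (𝔮 : Ideal Λ)
    (h : ¬ singRad R φ ≤ 𝔮) : Resolvable R φ 𝔮 :=
  ⟨A, inferInstance, inferInstance, inferInstance, AlgHom.id R A, φ, AlgHom.comp_id φ, le_refl _, h⟩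

end Groth.Agent.SmoothingLib
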