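import Mathlib
import Groth.Prelude.Def_Smoothing
import Groth.Agent.RegLocal.Basic
import Groth.Agent.MiracleFlatLib.Basic
import Groth.Agent.CMSliceLib.Poly
import Groth.Agent.SmoothingLib.Parameters
import Groth.Agent.SmoothingLib.SepField
import Groth.Agent.SmoothingLib.Quotient
import Groth.Agent.S2022
import Groth.Agent.S2034
import Groth.Agent.S6822

/-! Resolution at a prime with regular local ring and separable residue field. -/

set_option autoImplicit false
universe u

noncomputable section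

namespace Groth.Agent.SmoothingLib

open MvPolynomial Smoothing IsLocalRing

/-- Flat algebras stay flat modulo an ideal of the base. -/
theorem flat_quotient {R S : Type u} [CommRing R] [CommRing S] [Algebra R S] [Module.Flat R S] (K : Ideal R) :
    Module.Flat (R ⧸ K) (S ⧸ K.map (algebraMap R S)) := by
  let e0 : TensorProduct R (R ⧸ K) S →ₐ[R ⧸ K] S ⧸ K.map (algebraMap R S) :=
    Algebra.TensorProduct.lift (Algebra.ofId (R ⧸ K) _) (Ideal.Quotient.mkₐ R _) (fun _ _ => Commute.all _ _)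
  have h1 : ∀ z : TensorProduct R (R ⧸ K) S, ∃ s, (1 : R ⧸ K) ⊗ₜ[R] s = z := by
    intro z
    induction z using TensorProduct.induction_on with
    | zero => exact ⟨0, TensorProduct.tmul_zero _ _⟩
    | tmul x a =>
      obtain ⟨r, rfl⟩ := Ideal.Quotient.mk_surjective x
      refine ⟨r • a, ?_⟩
      rw [TensorProduct.tmul_smul, TensorProduct.smul_tmul', Algebra.smul_def, mul_one]
      rfl
    | add x y hx hy =>
      obtain ⟨a, rfl⟩ := hx
      obtain ⟨b, rfl⟩ := hy
      exact ⟨a + b, TensorProduct.tmul_add _ _ _⟩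
  have he : ∀ s, e0 ((1 : R ⧸ K) ⊗ₜ[R] s) = Ideal.Quotient.mk _ s := fun s => by simp [e0]
  have hbij : Function.Bijective e0 := by
    refine ⟨(injective_iff_map_eq_zero _).2 fun z hz => ?_, fun y => ?_⟩
    · obtain ⟨s, rfl⟩ := h1 z
      rw [he, Ideal.Quotient.eq_zero_iff_mem] at hz
      have h2 : K.map (algebraMap R S) ≤
          RingHom.ker (Algebra.TensorProduct.includeRight (R := R) (A := R ⧸ K) (B := S)) := by
        refine Ideal.map_le_iff_le_comap.2 fun r hr => ?_
        rw [Ideal.mem_comap, RingHom.mem_ker, AlgHom.commutes, IsScalarTower.algebraMap_apply R (R ⧸ K),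
          Ideal.Quotient.algebraMap_eq, Ideal.Quotient.eq_zero_iff_mem.2 hr, map_zero]
      exact h2 hz
    · obtain ⟨s, rfl⟩ := Ideal.Quotient.mk_surjective y
      exact ⟨_, he s⟩
  exact Module.Flat.of_linearEquiv (AlgEquiv.ofBijective e0 hbij).symm.toLinearEquiv

/-- Localizations at primes pass to quotients. -/
theorem isLocalization_quotient {Λ S Λ' S' : Type u} [CommRing Λ] [CommRing S] [Algebra Λ S] [CommRing Λ']
    [CommRing S'] [Algebra Λ' S'] (q : Ideal Λ) [q.IsPrime] [IsLocalization.AtPrime S q]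
    (f : Λ →+* Λ') (hf : Function.Surjective f) (g : S →+* S') (hg : Function.Surjective g)
    (hcomm : ∀ x, g (algebraMap Λ S x) = algebraMap Λ' S' (f x))
    (hker : RingHom.ker g ≤ (RingHom.ker f).map (algebraMap Λ S)) (hfq : RingHom.ker f ≤ q)
    (q' : Ideal Λ') [q'.IsPrime] (hq' : q' = q.map f) : IsLocalization.AtPrime S' q' := by
  have hmem : ∀ x, f x ∈ q' ↔ x ∈ q := fun x => by
    rw [hq', ← Ideal.mem_comap, Ideal.comap_map_of_surjective f hf, ← RingHom.ker_eq_comap_bot, sup_eq_left.2 hfq]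
  rw [IsLocalization.AtPrime, isLocalization_iff]
  refine ⟨fun y => ?_, fun z => ?_, fun {x y} h => ?_⟩
  · obtain ⟨x, hx⟩ := hf y
    have hxq : x ∈ q.primeCompl := fun h => y.2 (by rw [← hx]; exact (hmem x).2 h)
    rw [← hx, ← hcomm]
    exact (IsLocalization.map_units S (⟨x, hxq⟩ : q.primeCompl)).map g
  · obtain ⟨z, rfl⟩ := hg z
    obtain ⟨⟨a, b⟩, hab⟩ := IsLocalization.surj q.primeCompl z
    refine ⟨(f a, ⟨f b, fun h => b.2 ((hmem _).1 h)⟩), ?_⟩
    change g z * algebraMap Λ' S' (f b) = algebraMap Λ' S' (f a)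
    rw [← hcomm, ← hcomm, ← map_mul, hab]
  · obtain ⟨x, rfl⟩ := hf x
    obtain ⟨y, rfl⟩ := hf y
    rw [← hcomm, ← hcomm, ← sub_eq_zero, ← map_sub, ← map_sub] at h
    obtain ⟨s, hs, hsm⟩ :=
      (IsLocalization.algebraMap_mem_map_algebraMap_iff q.primeCompl S (RingHom.ker f) (x - y)).1 (hker h)
    refine ⟨⟨f s, fun h => hs ((hmem s).1 h)⟩, ?_⟩
    rw [RingHom.mem_ker, map_mul, map_sub, mul_sub, sub_eq_zero] at hsm
    exact hsm

variable {k : Type u} [Field k] {d : ℕ}

theorem sub_C_constantCoeff_mem (p : MvPolynomial (Fin d) k) :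
    p - C (constantCoeff p) ∈ Ideal.span (Set.range (X : Fin d → MvPolynomial (Fin d) k)) := by
  induction p using MvPolynomial.induction_on with
  | C a => simp
  | add p q hp hq =>
    rw [map_add, map_add, add_sub_add_comm]
    exact add_mem hp hq
  | mul_X p i hp =>
    rw [map_mul, constantCoeff_X, mul_zero, map_zero, sub_zero]
    exact Ideal.mul_mem_left _ _ (Ideal.subset_span ⟨i, rfl⟩)

theorem eq_span_X {p : Ideal (MvPolynomial (Fin d) k)} [p.IsPrime] (h : ∀ i, X i ∈ p) :
    p = Ideal.span (Set.range X) := by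
  refine le_antisymm (fun x hx => ?_) (Ideal.span_le.2 (by rintro _ ⟨i, rfl⟩; exact h i))
  have h1 := sub_C_constantCoeff_mem x
  have h2 : C (constantCoeff x) ∈ p := by
    have := p.sub_mem hx ((Ideal.span_le.2 (by rintro _ ⟨i, rfl⟩; exact h i) : Ideal.span (Set.range X) ≤ p) h1)
    rwa [sub_sub_cancel] at this
  by_cases hc : constantCoeff x = 0
  · rwa [hc, map_zero, sub_zero] at h1
  · exact absurd (Ideal.eq_top_of_isUnit_mem _ h2 ((isUnit_iff_ne_zero.2 hc).map C)) (Ideal.IsPrime.ne_top inferInstance)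

/-- A regular local ring is flat over the polynomial ring on a regular system of parameters. -/
theorem flat_of_parameters {S : Type u} [CommRing S] [IsRegularLocalRing S] [Algebra (MvPolynomial (Fin d) k) S]
    (hgen : Ideal.span (Set.range fun i => algebraMap (MvPolynomial (Fin d) k) S (X i)) = maximalIdeal S)
    (hdim : ringKrullDim S = d) : Module.Flat (MvPolynomial (Fin d) k) S := by
  let R := MvPolynomial (Fin d) k
  let p : Ideal R := (maximalIdeal S).comap (algebraMap R S)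
  haveI : p.IsPrime := Ideal.comap_isPrime _ _
  have hX : ∀ i, X i ∈ p := fun i => by
    change algebraMap R S (X i) ∈ maximalIdeal S
    rw [← hgen]; exact Ideal.subset_span ⟨i, rfl⟩
  have hp : p = Ideal.span (Set.range X) := eq_span_X hX
  let L := Localization.AtPrime p
  have hu : ∀ y : p.primeCompl, IsUnit (algebraMap R S y) := fun y => by
    by_contra h
    exact y.2 h
  letI : Algebra L S := (IsLocalization.lift hu : L →+* S).toAlgebra
  haveI : IsScalarTower R L S := IsScalarTower.of_algebraMap_eq fun x => (IsLocalization.lift_eq hu x).symm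
  haveI : IsNoetherianRing L := IsLocalization.isNoetherianRing p.primeCompl _ inferInstance
  let rs : List L := List.ofFn fun i => algebraMap R L (X i)
  have hm : maximalIdeal L = Ideal.ofList rs := by
    rw [← IsLocalization.AtPrime.map_eq_maximalIdeal p L]
    refine (congrArg (Ideal.map (algebraMap R L)) hp).trans ?_
    rw [Ideal.map_span, ← Set.range_comp, Ideal.ofList]
    congr 1
    ext z
    simp [rs, List.mem_ofFn]
  haveI : IsLocalHom (algebraMap L S) := by
    refine ((IsLocalRing.local_hom_TFAE (algebraMap L S)).out 0 2 rfl rfl).mpr ?_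
    rw [← IsLocalization.AtPrime.map_eq_maximalIdeal p L, Ideal.map_map, ← IsScalarTower.algebraMap_eq]
    exact Ideal.map_comap_le
  haveI : Module.Flat R L := IsLocalization.flat L p.primeCompl
  have hL : RingTheory.Sequence.IsWeaklyRegular L rs := by
    have h := RingTheory.Sequence.IsWeaklyRegular.of_flat (S := L) (CMSliceLib.isWeaklyRegular_X k d)
    rw [List.map_ofFn] at h
    exact h
  have hS : RingTheory.Sequence.IsWeaklyRegular S rs := by
    have h := (RegLocal.isRegular_of_generators S hdim _ hgen).toIsWeaklyRegular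
    rw [← RingTheory.Sequence.isWeaklyRegular_map_algebraMap_iff S S rs, List.map_ofFn]
    convert h using 2
    funext i
    exact (IsScalarTower.algebraMap_apply R L S (X i)).symm
  haveI : Module.Flat L S := MiracleFlatLib.flat_of_isWeaklyRegular d L S rs (List.length_ofFn) hm hL hS
  exact Module.Flat.trans R L S

set_option maxSynthPendingDepth 5 in
/-- The problem modulo powers of the parameters is resolvable. -/
theorem resolvable_mod {C Λ : Type u} [CommRing C] [Algebra (MvPolynomial (Fin d) k) C]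
    [Algebra.FinitePresentation (MvPolynomial (Fin d) k) C] [CommRing Λ] [Algebra (MvPolynomial (Fin d) k) Λ]
    [Algebra k Λ] [IsScalarTower k (MvPolynomial (Fin d) k) Λ]
    (φ : C →ₐ[MvPolynomial (Fin d) k] Λ) (𝔮 : Ideal Λ) [𝔮.IsPrime] [IsRegularLocalRing (Localization.AtPrime 𝔮)]
    [Algebra.IsGeometricallyReduced k 𝔮.ResidueField]
    (hgen : Ideal.span (Set.range fun i => algebraMap (MvPolynomial (Fin d) k) (Localization.AtPrime 𝔮) (X i)) =
      maximalIdeal (Localization.AtPrime 𝔮))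
    (hdim : ringKrullDim (Localization.AtPrime 𝔮) = d)
    (K : Ideal (MvPolynomial (Fin d) k)) (hK : K.map (algebraMap (MvPolynomial (Fin d) k) Λ) ≤ 𝔮)
    (M : Fin d → ℕ) (hM : ∀ i, X i ^ M i ∈ K) :
    Resolvable (MvPolynomial (Fin d) k ⧸ K) (quotMap φ K)
      (𝔮.map (Ideal.Quotient.mk (K.map (algebraMap (MvPolynomial (Fin d) k) Λ)))) := by
  classical
  let R := MvPolynomial (Fin d) k
  let S := Localization.AtPrime 𝔮
  let J : Ideal Λ := K.map (algebraMap R Λ)
  let q' : Ideal (Λ ⧸ J) := 𝔮.map (Ideal.Quotient.mk J)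
  haveI : q'.IsPrime := Ideal.map_isPrime_of_surjective Ideal.Quotient.mk_surjective (by rwa [Ideal.mk_ker])
  haveI : IsNoetherianRing C := Algebra.FiniteType.isNoetherianRing R C
  haveI : Algebra.FinitePresentation R (C ⧸ K.map (algebraMap R C)) :=
    Algebra.FinitePresentation.quotient (IsNoetherian.noetherian _)
  haveI hfpC : Algebra.FinitePresentation (R ⧸ K) (C ⧸ K.map (algebraMap R C)) :=
    Algebra.FinitePresentation.of_restrict_scalars_finitePresentation R _ _
  by_cases hle : singRad (R ⧸ K) (quotMap φ K) ≤ q'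
  swap
  · exact resolvable_self _ _ hle
  haveI : Module.Flat R S := flat_of_parameters hgen hdim
  let KS : Ideal S := K.map (algebraMap R S)
  have hJS : J.map (algebraMap Λ S) = KS := by rw [Ideal.map_map, ← IsScalarTower.algebraMap_eq]
  have hKS : KS ≤ maximalIdeal S := by
    rw [← hJS, ← IsLocalization.AtPrime.map_eq_maximalIdeal 𝔮 S]
    exact Ideal.map_mono hK
  haveI : Nontrivial (S ⧸ KS) := Ideal.Quotient.nontrivial_iff.2 fun h =>
    (maximalIdeal.isMaximal S).ne_top (top_le_iff.1 (h ▸ hKS))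
  letI : Algebra (Λ ⧸ J) (S ⧸ KS) :=
    (Ideal.quotientMap KS (algebraMap Λ S) (Ideal.map_le_iff_le_comap.1 hJS.le)).toAlgebra
  haveI : IsScalarTower (R ⧸ K) (Λ ⧸ J) (S ⧸ KS) := IsScalarTower.of_algebraMap_eq fun x => by
    obtain ⟨x, rfl⟩ := Ideal.Quotient.mk_surjective x
    change Ideal.Quotient.mk KS (algebraMap R S x) = Ideal.Quotient.mk KS (algebraMap Λ S (algebraMap R Λ x))
    rw [← IsScalarTower.algebraMap_apply]
  haveI hloc : IsLocalization.AtPrime (S ⧸ KS) q' := isLocalization_quotient 𝔮 (S := S) (Ideal.Quotient.mk J)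
    Ideal.Quotient.mk_surjective (Ideal.Quotient.mk KS) Ideal.Quotient.mk_surjective (fun x => rfl)
    (by rw [Ideal.mk_ker, Ideal.mk_ker, hJS]) (by rw [Ideal.mk_ker]; exact hK) q' rfl
  haveI : IsLocalRing (S ⧸ KS) := IsLocalization.AtPrime.isLocalRing (S ⧸ KS) q'
  let x : Fin d → S ⧸ KS := fun i => algebraMap (R ⧸ K) (S ⧸ KS) (Ideal.Quotient.mk K (X i))
  have hxnil : ∀ i, IsNilpotent (x i) := fun i => ⟨M i, by
    simp only [x, ← map_pow, Ideal.Quotient.eq_zero_iff_mem.2 (hM i), map_zero]⟩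
  have hmax : Ideal.span (Set.range x) = maximalIdeal (S ⧸ KS) := by
    rw [← RegLocal.maximalIdeal_quot (fun h => (maximalIdeal.isMaximal S).ne_top (top_le_iff.1 (h ▸ hKS))) |>.symm,
      ← hgen, Ideal.map_span, ← Set.range_comp]
    rfl
  haveI hdim0 : Ring.KrullDimLE 0 (S ⧸ KS) := Ring.KrullDimLE.mk₀ fun P hP => by
    haveI := hP
    have hP' : maximalIdeal (S ⧸ KS) ≤ P := by
      rw [← hmax, Ideal.span_le]
      rintro _ ⟨i, rfl⟩
      exact (hxnil i).elim fun n hn => hP.mem_of_pow_mem n (hn ▸ P.zero_mem)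
    rw [← (maximalIdeal.isMaximal (S ⧸ KS)).eq_of_le hP.ne_top hP']
    infer_instance
  have hdim' : ringKrullDim (S ⧸ KS) = 0 :=
    le_antisymm (Ring.krullDimLE_iff.1 hdim0) ringKrullDim_nonneg_of_nontrivial
  have hmin : q' ∈ (singRad (R ⧸ K) (quotMap φ K)).minimalPrimes := by
    refine ⟨⟨inferInstance, hle⟩, fun P hP hPq => ?_⟩
    haveI := hP.1
    intro z hz
    have hdisj : Disjoint (q'.primeCompl : Set (Λ ⧸ J)) P := Set.disjoint_left.2 fun y hy hyP => hy (hPq hyP)
    haveI := IsLocalization.isPrime_of_isPrime_disjoint q'.primeCompl (S ⧸ KS) P inferInstance hdisj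
    have hPmax : P.map (algebraMap (Λ ⧸ J) (S ⧸ KS)) = maximalIdeal (S ⧸ KS) :=
      IsLocalRing.eq_maximalIdeal (Ideal.IsPrime.isMaximal' inferInstance)
    rw [← IsLocalization.comap_map_of_isPrime_disjoint q'.primeCompl (S ⧸ KS) inferInstance hdisj, hPmax,
      ← IsLocalization.AtPrime.map_eq_maximalIdeal q' (S ⧸ KS)]
    exact Ideal.le_comap_map hz
  -- the base
  let p : Ideal (R ⧸ K) := q'.comap (algebraMap (R ⧸ K) (Λ ⧸ J))
  haveI : p.IsPrime := Ideal.comap_isPrime _ _
  let Rₚ := Localization.AtPrime p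
  have hu : ∀ y : p.primeCompl, IsUnit (algebraMap (R ⧸ K) (S ⧸ KS) y) := fun y => by
    rw [IsScalarTower.algebraMap_apply (R ⧸ K) (Λ ⧸ J) (S ⧸ KS)]
    exact IsLocalization.map_units (S ⧸ KS)
      (⟨algebraMap (R ⧸ K) (Λ ⧸ J) (y : R ⧸ K), y.2⟩ : q'.primeCompl)
  letI : Algebra Rₚ (S ⧸ KS) := (IsLocalization.lift hu : Rₚ →+* S ⧸ KS).toAlgebra
  haveI : IsScalarTower (R ⧸ K) Rₚ (S ⧸ KS) := IsScalarTower.of_algebraMap_eq fun y => (IsLocalization.lift_eq hu y).symm
  haveI : Module.Flat (R ⧸ K) (S ⧸ KS) := flat_quotient K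
  haveI : Module.Flat Rₚ (S ⧸ KS) :=
    (Module.flat_iff_of_isLocalization Rₚ p.primeCompl (S ⧸ KS)).2 inferInstance
  have hXp : ∀ i, X i ∈ p.comap (Ideal.Quotient.mk K) := fun i => by
    change Ideal.Quotient.mk J (algebraMap R Λ (X i)) ∈ q'
    refine Ideal.mem_map_of_mem _ ?_
    have h1 : algebraMap R S (X i) ∈ maximalIdeal S := hgen ▸ Ideal.subset_span ⟨i, rfl⟩
    rw [IsScalarTower.algebraMap_apply R Λ S] at h1
    exact (IsLocalization.AtPrime.to_map_mem_maximal_iff S 𝔮 _).1 h1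
  have hpc : p.comap (Ideal.Quotient.mk K) = Ideal.span (Set.range X) := by
    haveI : (p.comap (Ideal.Quotient.mk K)).IsPrime := Ideal.comap_isPrime _ _
    exact eq_span_X hXp
  have hp : p = Ideal.span (Set.range fun i => Ideal.Quotient.mk K (X i)) := by
    rw [← Ideal.map_comap_of_surjective _ Ideal.Quotient.mk_surjective p, hpc, Ideal.map_span, ← Set.range_comp]
    rfl
  have hmaxR : maximalIdeal Rₚ = Ideal.span (Set.range fun i => algebraMap (R ⧸ K) Rₚ (Ideal.Quotient.mk K (X i))) := by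
    rw [← IsLocalization.AtPrime.map_eq_maximalIdeal p Rₚ]
    exact (congrArg (Ideal.map (algebraMap (R ⧸ K) Rₚ)) hp).trans (by rw [Ideal.map_span, ← Set.range_comp]; rfl)
  have hnil : IsNilpotent (maximalIdeal Rₚ) := by
    obtain ⟨n, hn⟩ := Ideal.exists_pow_le_of_le_radical_of_fg (I := maximalIdeal Rₚ) (J := ⊥) (by
      rw [hmaxR, Ideal.span_le]
      rintro _ ⟨i, rfl⟩
      exact ⟨M i, by rw [← map_pow, ← map_pow, Ideal.Quotient.eq_zero_iff_mem.2 (hM i), map_zero]; exact zero_mem _⟩)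
      (hmaxR ▸ Submodule.fg_span (Set.finite_range _))
    exact ⟨n, le_bot_iff.1 hn⟩
  have hmaxT : (maximalIdeal Rₚ).map (algebraMap Rₚ (S ⧸ KS)) = maximalIdeal (S ⧸ KS) := by
    rw [hmaxR, Ideal.map_span, ← Set.range_comp, ← hmax]
    congr 2
    funext i
    exact (IsScalarTower.algebraMap_apply (R ⧸ K) Rₚ (S ⧸ KS) _).symm
  let ek : k →+* Rₚ := (algebraMap (R ⧸ K) Rₚ).comp ((Ideal.Quotient.mk K).comp (MvPolynomial.C : k →+* R))
  let e : k →+* Rₚ ⧸ maximalIdeal Rₚ := (Ideal.Quotient.mk _).comp ek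
  have hmk : ∀ r : R, Ideal.Quotient.mk (maximalIdeal Rₚ) (algebraMap (R ⧸ K) Rₚ (Ideal.Quotient.mk K r)) = e (constantCoeff r) := by
    intro r
    have h1 : Ideal.Quotient.mk K (r - MvPolynomial.C (constantCoeff r)) ∈ p := by
      have h := sub_C_constantCoeff_mem r
      rw [← hpc] at h
      exact h
    change _ = Ideal.Quotient.mk (maximalIdeal Rₚ) (algebraMap (R ⧸ K) Rₚ (Ideal.Quotient.mk K (MvPolynomial.C (constantCoeff r))))
    rw [Ideal.Quotient.eq, ← map_sub, ← map_sub, IsLocalization.AtPrime.to_map_mem_maximal_iff Rₚ p]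
    exact h1
  have he : Function.Bijective e := by
    refine ⟨e.injective, fun y => ?_⟩
    obtain ⟨y, rfl⟩ := Ideal.Quotient.mk_surjective y
    obtain ⟨⟨a, b⟩, hab⟩ := IsLocalization.surj p.primeCompl y
    obtain ⟨a, rfl⟩ := Ideal.Quotient.mk_surjective a
    obtain ⟨b0, hb0⟩ := Ideal.Quotient.mk_surjective (b : R ⧸ K)
    have h1 := congrArg (Ideal.Quotient.mk (maximalIdeal Rₚ)) hab
    rw [map_mul, ← hb0, hmk, hmk] at h1
    have hne : constantCoeff b0 ≠ 0 := fun h => b.2 (by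
      rw [← hb0]
      have h2 := sub_C_constantCoeff_mem b0
      rw [h, map_zero, sub_zero, ← hpc] at h2
      exact h2)
    refine ⟨constantCoeff a * (constantCoeff b0)⁻¹, ?_⟩
    rw [map_mul, ← h1, mul_assoc, ← map_mul e, mul_inv_cancel₀ hne, map_one, mul_one]
  haveI hT : ((maximalIdeal Rₚ).map (algebraMap Rₚ (S ⧸ KS))).IsMaximal := hmaxT ▸ maximalIdeal.isMaximal _
  letI : Field ((S ⧸ KS) ⧸ (maximalIdeal Rₚ).map (algebraMap Rₚ (S ⧸ KS))) := Ideal.Quotient.field _
  let ε0 : S →+* (S ⧸ KS) ⧸ (maximalIdeal Rₚ).map (algebraMap Rₚ (S ⧸ KS)) :=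
    (Ideal.Quotient.mk _).comp (Ideal.Quotient.mk KS)
  have hε0 : ∀ s ∈ maximalIdeal S, ε0 s = 0 := fun s hs => Ideal.Quotient.eq_zero_iff_mem.2 (by
    rw [hmaxT, RegLocal.maximalIdeal_quot (fun h => (maximalIdeal.isMaximal S).ne_top (top_le_iff.1 (h ▸ hKS)))]
    exact Ideal.mem_map_of_mem _ hs)
  let ε1 : 𝔮.ResidueField →+* (S ⧸ KS) ⧸ (maximalIdeal Rₚ).map (algebraMap Rₚ (S ⧸ KS)) :=
    Ideal.Quotient.lift (maximalIdeal S) ε0 hε0
  have hε1 : Function.Bijective ε1 := by
    refine ⟨ε1.injective, fun y => ?_⟩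
    obtain ⟨y, rfl⟩ := Ideal.Quotient.mk_surjective y
    obtain ⟨y, rfl⟩ := Ideal.Quotient.mk_surjective y
    exact ⟨Ideal.Quotient.mk _ y, rfl⟩
  have hind : IndSmooth Rₚ (S ⧸ KS) := by
    refine S2022.result (maximalIdeal Rₚ) hnil ?_
    refine indSmooth_transfer e he (RingEquiv.ofBijective ε1 hε1) (fun c => ?_)
      (indSmooth_of_isGeometricallyReduced (k := k) (F := 𝔮.ResidueField))
    change ε0 (algebraMap k S c) = algebraMap (Rₚ ⧸ maximalIdeal Rₚ) _ (Ideal.Quotient.mk _ (ek c))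
    change Ideal.Quotient.mk _ (Ideal.Quotient.mk KS (algebraMap k S c)) =
      Ideal.Quotient.mk _ (algebraMap Rₚ (S ⧸ KS) (algebraMap (R ⧸ K) Rₚ (Ideal.Quotient.mk K (MvPolynomial.C c))))
    rw [← IsScalarTower.algebraMap_apply (R ⧸ K) Rₚ (S ⧸ KS)]
    congr 1
    change _ = Ideal.Quotient.mk KS (algebraMap R S (MvPolynomial.C c))
    congr 1
    rw [IsScalarTower.algebraMap_apply k Λ S, IsScalarTower.algebraMap_apply k R Λ, ← IsScalarTower.algebraMap_apply R Λ S]
    rfl
  refine S2034.result (Rₚ := Rₚ) (Λq := S ⧸ KS) (quotMap φ K) q' hmin hdim'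
    (resolvable_of_indSmooth hind _ _ ?_)
  rw [IsLocalization.AtPrime.map_eq_maximalIdeal q' (S ⧸ KS)]
  exact (maximalIdeal.isMaximal _).ne_top

theorem span_lastCases {S : Type u} [CommRing S] (f : Fin (d + 1) → S) (i : Fin d) :
    Ideal.span (Set.range fun j : {j : Fin (d + 1) // (j : ℕ) < ((i.castSucc : Fin (d + 1)) : ℕ)} => f j) =
      Ideal.span (Set.range fun j : {j : Fin d // (j : ℕ) < (i : ℕ)} => f (j : Fin d).castSucc) := by
  refine congrArg Ideal.span (Set.ext fun z => ⟨?_, ?_⟩)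
  · rintro ⟨⟨j, hj⟩, rfl⟩
    exact ⟨⟨⟨j, lt_trans hj i.2⟩, hj⟩, congrArg f (Fin.ext rfl)⟩
  · rintro ⟨⟨j, hj⟩, rfl⟩
    exact ⟨⟨j.castSucc, hj⟩, rfl⟩

/-- Resolution over the polynomial ring on the parameters. -/
theorem resolvable_parameters {C Λ : Type u} [CommRing C] [Algebra (MvPolynomial (Fin d) k) C]
    [Algebra.FinitePresentation (MvPolynomial (Fin d) k) C] [CommRing Λ] [IsNoetherianRing Λ]
    [Algebra (MvPolynomial (Fin d) k) Λ]
    [Algebra k Λ] [IsScalarTower k (MvPolynomial (Fin d) k) Λ]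
    (φ : C →ₐ[MvPolynomial (Fin d) k] Λ) (𝔮 : Ideal Λ) [𝔮.IsPrime] [IsRegularLocalRing (Localization.AtPrime 𝔮)]
    [Algebra.IsGeometricallyReduced k 𝔮.ResidueField]
    (hgen : Ideal.span (Set.range fun i => algebraMap (MvPolynomial (Fin d) k) (Localization.AtPrime 𝔮) (X i)) =
      maximalIdeal (Localization.AtPrime 𝔮))
    (hdim : ringKrullDim (Localization.AtPrime 𝔮) = d) (lb : Fin d → ℕ)
    (hstd : ∀ i, ∀ n, lb i ≤ n →
      IsStrictlyStandard (MvPolynomial (Fin d) k) C (algebraMap (MvPolynomial (Fin d) k) C (X i) ^ n)) :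
    Resolvable (MvPolynomial (Fin d) k) φ 𝔮 := by
  classical
  let R := MvPolynomial (Fin d) k
  let y : Fin d → Λ := fun i => algebraMap R Λ (X i)
  obtain ⟨m, hm1, hm2, hm3⟩ := exists_exponents y lb
  let π : Fin (d + 1) → R := Fin.lastCases 0 fun i => X i ^ m i
  have hπc : ∀ i : Fin d, π i.castSucc = X i ^ m i := fun i => by simp [π]
  have hπl : π (Fin.last d) = 0 := by simp [π]
  have hy : ∀ i, y i ∈ 𝔮 := fun i => by
    have h1 : algebraMap R (Localization.AtPrime 𝔮) (X i) ∈ maximalIdeal (Localization.AtPrime 𝔮) :=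
      hgen ▸ Ideal.subset_span ⟨i, rfl⟩
    rw [IsScalarTower.algebraMap_apply R Λ (Localization.AtPrime 𝔮)] at h1
    exact (IsLocalization.AtPrime.to_map_mem_maximal_iff (Localization.AtPrime 𝔮) 𝔮 _).1 h1
  have hπq : ∀ i, algebraMap R Λ (π i) ∈ 𝔮 := fun i => by
    refine Fin.lastCases ?_ (fun i => ?_) i
    · rw [hπl, map_zero]; exact zero_mem _
    · rw [hπc, map_pow]; exact Ideal.pow_mem_of_mem _ (hy i) _ (hm2 i)
  let K : Ideal R := Ideal.span (Set.range fun i => π i ^ 8)
  refine S6822.result φ 𝔮 (Nat.succ_pos d) π hπq (fun i => ?_) (fun i => ?_) (fun i => ?_) K rfl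
    (quotMap φ K) (fun a => rfl) (resolvable_mod φ 𝔮 hgen hdim K ?_ (fun i => m i * 8) fun i => ?_)
  · refine Fin.lastCases ?_ (fun i => ?_) i
    · intro x _; rw [hπl, map_zero, zero_mul]
    · intro x hx
      obtain ⟨p, rfl⟩ := Ideal.Quotient.mk_surjective x
      rw [← map_pow, ← map_mul, Ideal.Quotient.eq_zero_iff_mem] at hx
      rw [← map_mul, Ideal.Quotient.eq_zero_iff_mem]
      have hspan : Ideal.span (Set.range fun j : {j : Fin (d + 1) // (j : ℕ) < ((i.castSucc : Fin (d + 1)) : ℕ)} => π j ^ 8) =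
          Ideal.span ((fun j => (X j : R) ^ (m j * 8)) '' {j : Fin d | (j : ℕ) < (i : ℕ)}) := by
        rw [span_lastCases (fun j => π j ^ 8) i]
        refine congrArg Ideal.span (Set.ext fun z => ⟨?_, ?_⟩)
        · rintro ⟨⟨j, hj⟩, rfl⟩
          exact ⟨j, hj, by simp only [hπc, ← pow_mul]⟩
        · rintro ⟨j, hj, rfl⟩
          exact ⟨⟨j, hj⟩, by simp only [hπc, ← pow_mul]⟩
      rw [hspan] at hx ⊢
      rw [hπc, ← pow_mul] at hx
      rw [hπc]
      exact Ideal.mul_mem_left _ _ (mem_of_X_pow_mul_mem {j : Fin d | (j : ℕ) < (i : ℕ)} (fun j => m j * 8) i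
        (lt_irrefl (i : ℕ)) (m i * 2) hx)
  · refine Fin.lastCases ?_ (fun i => ?_) i
    · intro x _; rw [hπl, map_zero, map_zero, zero_mul]
    · intro x hx
      obtain ⟨z, rfl⟩ := Ideal.Quotient.mk_surjective x
      rw [← map_pow, ← map_mul, Ideal.Quotient.eq_zero_iff_mem] at hx
      rw [← map_mul, Ideal.Quotient.eq_zero_iff_mem]
      have hspan : Ideal.span (Set.range fun j : {j : Fin (d + 1) // (j : ℕ) < ((i.castSucc : Fin (d + 1)) : ℕ)} =>
          algebraMap R Λ (π j) ^ 8) =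
          Ideal.span (Set.range fun j : {j : Fin d // (j : ℕ) < (i : ℕ)} => (y j ^ m j) ^ 8) := by
        rw [span_lastCases (fun j => algebraMap R Λ (π j) ^ 8) i]
        simp only [hπc, map_pow, y]
      rw [hspan] at hx ⊢
      rw [hπc, map_pow] at hx ⊢
      exact hm3 i z hx
  · refine Fin.lastCases ?_ (fun i => ?_) i
    · rw [hπl, map_zero]; exact isStrictlyStandard_zero
    · rw [hπc, map_pow]; exact hstd i _ (hm1 i)
  · rw [Ideal.map_le_iff_le_comap, Ideal.span_le]
    rintro _ ⟨i, rfl⟩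
    rw [SetLike.mem_coe, Ideal.mem_comap, map_pow]
    exact Ideal.pow_mem_of_mem _ (hπq i) 8 (by norm_num)
  · refine Ideal.subset_span ⟨i.castSucc, ?_⟩
    simp only [hπc, ← pow_mul]

/-- Resolution at a prime with regular local ring and separable residue field. -/
theorem resolvable_regular {A Λ : Type u} [CommRing A] [Algebra k A] [Algebra.FinitePresentation k A]
    [CommRing Λ] [Algebra k Λ] [IsNoetherianRing Λ]
    (φ : A →ₐ[k] Λ) (𝔮 : Ideal Λ) [𝔮.IsPrime] (hmin : 𝔮 ∈ (singRad k φ).minimalPrimes)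
    [IsRegularLocalRing (Localization.AtPrime 𝔮)]
    [Algebra.IsGeometricallyReduced k 𝔮.ResidueField] : Resolvable k φ 𝔮 := by
  classical
  let S := Localization.AtPrime 𝔮
  let δ := (maximalIdeal S).spanFinrank
  have hdim : ringKrullDim S = δ := (IsRegularLocalRing.spanFinrank_maximalIdeal (R := S)).symm
  obtain ⟨g, hg⟩ := RegLocal.exists_generators S
  choose num hnum using fun i => IsLocalization.surj 𝔮.primeCompl (g i)
  haveI : IsNoetherianRing A := Algebra.FiniteType.isNoetherianRing k A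
  obtain ⟨t, a, ha⟩ := Submodule.fg_iff_exists_fin_generating_family.1 (IsNoetherian.noetherian (singularIdeal k A))
  let I : Ideal Λ := (singularIdeal k A).map φ
  haveI : IsNoetherianRing S := IsLocalization.isNoetherianRing 𝔮.primeCompl _ inferInstance
  have hIrad : maximalIdeal S ≤ (I.map (algebraMap Λ S)).radical := by
    rw [Ideal.radical_eq_sInf]
    refine le_sInf ?_
    rintro P ⟨hIP, hP⟩
    haveI := hP
    have hle : P.comap (algebraMap Λ S) ≤ 𝔮 := by
      intro z hz
      by_contra hzq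
      exact hP.ne_top (Ideal.eq_top_of_isUnit_mem _ hz (IsLocalization.map_units S (⟨z, hzq⟩ : 𝔮.primeCompl)))
    have hge : 𝔮 ≤ P.comap (algebraMap Λ S) := hmin.2 ⟨Ideal.comap_isPrime _ _,
      (Ideal.IsPrime.radical_le_iff (Ideal.comap_isPrime _ _)).2 (Ideal.map_le_iff_le_comap.1 hIP)⟩ hle
    rw [← IsLocalization.AtPrime.map_eq_maximalIdeal 𝔮 S]
    exact Ideal.map_le_iff_le_comap.2 hge
  obtain ⟨n, hn⟩ := Ideal.exists_pow_le_of_le_radical_of_fg hIrad (IsNoetherian.noetherian _)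
  have hgm : ∀ i, g i ∈ maximalIdeal S := fun i => hg ▸ Ideal.subset_span ⟨i, rfl⟩
  have hex : ∀ i, ∃ s : 𝔮.primeCompl, (s : Λ) * (num i).1 ^ (n + 1) ∈ I := fun i => by
    have h1 : algebraMap Λ S ((num i).1 ^ (n + 1)) ∈ I.map (algebraMap Λ S) := by
      rw [map_pow, ← hnum i]
      exact hn (Ideal.pow_le_pow_right (Nat.le_succ n)
        (Ideal.pow_mem_pow (Ideal.mul_mem_right _ _ (hgm i)) (n + 1)))
    obtain ⟨s, hs, hsI⟩ := (IsLocalization.algebraMap_mem_map_algebraMap_iff 𝔮.primeCompl S I _).1 h1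
    exact ⟨⟨s, hs⟩, hsI⟩
  choose s hs using hex
  let π : Fin δ → Λ := fun i => (s i : Λ) * (num i).1
  have hπN : ∀ i, π i ^ (n + 1) ∈ I := fun i => by
    have e : π i ^ (n + 1) = (s i : Λ) ^ n * ((s i : Λ) * (num i).1 ^ (n + 1)) := by simp only [π]; ring
    rw [e]
    exact I.mul_mem_left _ (hs i)
  have hI : I = Ideal.span (Set.range (φ ∘ a)) := by
    change (singularIdeal k A).map φ = _
    rw [← ha, Ideal.map_span, ← Set.range_comp]
  choose lam hlam using fun i => Ideal.mem_span_range_iff_exists_fun.1 (hI ▸ hπN i)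
  letI : Algebra (MvPolynomial (Fin δ) k) Λ := (aeval π).toRingHom.toAlgebra
  haveI : IsScalarTower k (MvPolynomial (Fin δ) k) Λ :=
    IsScalarTower.of_algebraMap_eq fun c => ((aeval π).commutes c).symm
  have hX : ∀ i, algebraMap (MvPolynomial (Fin δ) k) Λ (X i) = π i := fun i => aeval_X π i
  have hamem : ∀ j, a j ∈ singularIdeal k A := fun j => by rw [← ha]; exact Submodule.subset_span ⟨j, rfl⟩
  have hsma : ∀ j, Algebra.Smooth k (Localization.Away (a j)) := fun j =>
    Algebra.basicOpen_subset_smoothLocus_iff_smooth.1 fun Q hQ => by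
      by_contra hns
      have h := hamem j
      rw [singularIdeal, PrimeSpectrum.mem_vanishingIdeal] at h
      exact hQ (h Q hns)
  obtain ⟨A', _, _, _, _, hA', ι, φ', hφ', hsmj, hsmX⟩ := exists_param a (n + 1) φ lam (fun i => by
    rw [hX, ← hlam i]
    exact Finset.sum_congr rfl fun j _ => mul_comm _ _) hsma
  haveI := hA'
  obtain ⟨C, _, _, hC, ιC, ρC, hρ, hC2⟩ := exists_standard_retract (R := MvPolynomial (Fin δ) k) (A := A')
  haveI := hC
  choose lb hlb using fun i => (hC2 _ (hsmX i)).2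
  have hgen : Ideal.span (Set.range fun i => algebraMap (MvPolynomial (Fin δ) k) S (X i)) = maximalIdeal S := by
    rw [← hg]
    refine le_antisymm (Ideal.span_le.2 ?_) (Ideal.span_le.2 ?_)
    · rintro _ ⟨i, rfl⟩
      change algebraMap _ S (X i) ∈ _
      rw [IsScalarTower.algebraMap_apply _ Λ S, hX, map_mul, ← hnum i]
      exact Ideal.mul_mem_left _ _ (Ideal.mul_mem_right _ _ (Ideal.subset_span ⟨i, rfl⟩))
    · rintro _ ⟨i, rfl⟩
      have h2 : algebraMap (MvPolynomial (Fin δ) k) S (X i) ∈ Ideal.span (Set.range fun i => algebraMap (MvPolynomial (Fin δ) k) S (X i)) :=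
        Ideal.subset_span ⟨i, rfl⟩
      rw [IsScalarTower.algebraMap_apply _ Λ S, hX, map_mul, ← hnum i,
        Ideal.unit_mul_mem_iff_mem _ (IsLocalization.map_units S (s i)),
        Ideal.mul_unit_mem_iff_mem _ (IsLocalization.map_units S (num i).2)] at h2
      exact h2
  obtain ⟨B, _, _, hB, gB, hh, hgh, hle, hnle⟩ := resolvable_parameters (φ'.comp ρC) 𝔮 hgen hdim lb
    (fun i m hm => by
      have h := hlb i m hm
      rwa [AlgHom.commutes] at h)
  letI : Algebra k C := Algebra.compHom C (algebraMap k (MvPolynomial (Fin δ) k))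
  haveI : IsScalarTower k (MvPolynomial (Fin δ) k) C := IsScalarTower.of_algebraMap_eq fun _ => rfl
  letI : Algebra k B := Algebra.compHom B (algebraMap k (MvPolynomial (Fin δ) k))
  haveI : IsScalarTower k (MvPolynomial (Fin δ) k) B := IsScalarTower.of_algebraMap_eq fun _ => rfl
  have hsub : singRad (MvPolynomial (Fin δ) k) hh ≤ singRad k (hh.restrictScalars k) := by
    refine Ideal.radical_mono (Ideal.map_le_iff_le_comap.2 fun b hb => Ideal.mem_map_of_mem _ ?_)
    rw [singularIdeal, PrimeSpectrum.mem_vanishingIdeal] at hb ⊢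
    intro Q hQ
    refine hb Q fun h => hQ ?_
    haveI : Algebra.FormallySmooth (MvPolynomial (Fin δ) k) (Localization.AtPrime Q.asIdeal) := h
    exact Algebra.FormallySmooth.comp k (MvPolynomial (Fin δ) k) (Localization.AtPrime Q.asIdeal)
  refine ⟨B, inferInstance, inferInstance, Algebra.FinitePresentation.trans k (MvPolynomial (Fin δ) k) B,
    ((gB.restrictScalars k).comp (ιC.restrictScalars k)).comp ι, hh.restrictScalars k, AlgHom.ext fun z => ?_, ?_,
    fun h => hnle (hsub.trans h)⟩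
  · change hh (gB (ιC (ι z))) = φ z
    rw [← hφ' z]
    exact (AlgHom.congr_fun hgh (ιC (ι z))).trans (congrArg φ' (hρ (ι z)))
  · refine le_trans ?_ (hle.trans hsub)
    refine (Ideal.IsRadical.radical_le_iff (Ideal.radical_isRadical _)).2 ?_
    change I ≤ _
    rw [hI, Ideal.span_le]
    rintro _ ⟨j, rfl⟩
    refine Ideal.le_radical ?_
    change φ (a j) ∈ _
    rw [← hφ' (a j), ← hρ (ι (a j))]
    refine Ideal.mem_map_of_mem (φ'.comp ρC) ?_
    haveI := (hC2 _ (hsmj j)).1
    rw [singularIdeal, PrimeSpectrum.mem_vanishingIdeal]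
    intro Q hQ
    by_contra hjQ
    exact hQ (Algebra.basicOpen_subset_smoothLocus_iff_smooth.2 inferInstance hjQ)

end Groth.Agent.SmoothingLib
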