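import Mathlib

/-! A smooth algebra is a retract of a standard smooth one. -/

set_option autoImplicit false
universe u

noncomputable section

namespace Groth.Agent.SmoothingLib

open MvPolynomial TensorProduct

section localize
variable {C M : Type u} [CommRing C] [AddCommGroup M] [Module C M] [Module.Finite C M] [Module.Projective C M]

/-- A map bijective modulo an ideal `m` is bijective after inverting an element of `1 + m`. -/
theorem exists_inverse_mul {n : ℕ} (θ : (Fin n → C) →ₗ[C] M) (m : Ideal C)
    (hsurj : ⊤ ≤ LinearMap.range θ ⊔ m • (⊤ : Submodule C M))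
    (hinj : LinearMap.ker θ ≤ m • (⊤ : Submodule C (Fin n → C))) :
    ∃ (g : C) (τ : M →ₗ[C] (Fin n → C)), g - 1 ∈ m ∧ (∀ x, θ (τ x) = g • x) ∧ ∀ v, τ (θ v) = g • v := by
  have h0 : (⊤ : Submodule C (M ⧸ LinearMap.range θ)) ≤ m • ⊤ := by
    have h1 := Submodule.map_mono (f := (LinearMap.range θ).mkQ) hsurj
    rw [Submodule.map_sup, Submodule.map_top, Submodule.range_mkQ, Submodule.mkQ_map_self, bot_sup_eq,
      Submodule.map_smul'', Submodule.map_top, Submodule.range_mkQ] at h1
    exact h1
  obtain ⟨g₁, hg₁, hker₁⟩ :=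
    Submodule.exists_sub_one_mem_and_smul_eq_zero_of_fg_of_le_smul m ⊤ Module.Finite.fg_top h0
  have hmem : ∀ x : M, g₁ • x ∈ LinearMap.range θ := fun x => by
    rw [← Submodule.Quotient.mk_eq_zero, Submodule.Quotient.mk_smul]
    exact hker₁ _ Submodule.mem_top
  obtain ⟨σ, hσ⟩ := Module.projective_lifting_property (θ.rangeRestrict)
    ((g₁ • LinearMap.id : M →ₗ[C] M).codRestrict (LinearMap.range θ) hmem) θ.surjective_rangeRestrict
  have hσ' : ∀ x, θ (σ x) = g₁ • x := fun x => congrArg Subtype.val (LinearMap.congr_fun hσ x)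
  let π : (Fin n → C) →ₗ[C] (Fin n → C) := g₁ • LinearMap.id - σ ∘ₗ θ
  have hπ : ∀ v, π v = g₁ • v - σ (θ v) := fun v => rfl
  have hπK : LinearMap.range π ≤ LinearMap.ker θ := by
    rintro _ ⟨v, rfl⟩
    rw [LinearMap.mem_ker, hπ, map_sub, map_smul, hσ', sub_self]
  have h2 : LinearMap.range π ≤ m • LinearMap.range π := by
    rintro k hk
    have h3 : g₁ • k ∈ m • LinearMap.range π := by
      have h4 := Submodule.mem_map_of_mem (f := π) (hinj (hπK hk))
      rw [Submodule.map_smul'', Submodule.map_top, hπ, LinearMap.mem_ker.1 (hπK hk), map_zero, sub_zero] at h4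
      exact h4
    have h5 : k = g₁ • k - (g₁ - 1) • k := by rw [sub_smul, one_smul, sub_sub_cancel]
    rw [h5]
    exact sub_mem h3 (Submodule.smul_mem_smul hg₁ hk)
  obtain ⟨g₂, hg₂, hker₂⟩ := Submodule.exists_sub_one_mem_and_smul_eq_zero_of_fg_of_le_smul m
    (LinearMap.range π) (LinearMap.range_eq_map π ▸ Module.Finite.fg_top.map π) h2
  refine ⟨g₂ * g₁, g₂ • σ, ?_, fun x => ?_, fun v => ?_⟩
  · rw [show g₂ * g₁ - 1 = g₂ * (g₁ - 1) + (g₂ - 1) by ring]
    exact add_mem (m.mul_mem_left _ hg₁) hg₂
  · rw [LinearMap.smul_apply, map_smul, hσ', mul_smul]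
  · have h6 := hker₂ _ ⟨v, rfl⟩
    rw [hπ, smul_sub, sub_eq_zero] at h6
    rw [LinearMap.smul_apply, ← h6, mul_smul]

end localize

section std
variable {R C : Type u} [CommRing R] [CommRing C] [Algebra R C] [Algebra.Smooth R C]

/-- Inverting `g` makes the differentials of `b` a basis. -/
theorem isStandardSmooth_away {n : ℕ} (b : Fin n → C) (g : C)
    (τ : KaehlerDifferential R C →ₗ[C] (Fin n → C))
    (h1 : ∀ x, Fintype.linearCombination C (fun l => KaehlerDifferential.D R C (b l)) (τ x) = g • x)
    (h2 : ∀ v, τ (Fintype.linearCombination C (fun l => KaehlerDifferential.D R C (b l)) v) = g • v) :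
    Algebra.IsStandardSmooth R (Localization.Away g) := by
  let B := Localization.Away g
  haveI : Algebra.Smooth C B := Algebra.Smooth.of_isLocalization_Away g
  haveI : Algebra.Smooth R B := Algebra.Smooth.comp R C B
  haveI : Algebra.FormallyEtale C B := Algebra.FormallyEtale.of_isLocalization (Submonoid.powers g)
  have hbc := KaehlerDifferential.isBaseChange_of_formallyEtale R C B
  have hu : IsUnit (algebraMap C B g) := IsLocalization.Away.algebraMap_isUnit g
  let θB : (Fin n → B) →ₗ[B] KaehlerDifferential R B :=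
    Fintype.linearCombination B fun l => KaehlerDifferential.D R B (algebraMap C B (b l))
  let ι : (Fin n → C) →ₗ[C] (Fin n → B) := LinearMap.pi fun l => Algebra.linearMap C B ∘ₗ LinearMap.proj l
  let τB : KaehlerDifferential R B →ₗ[B] (Fin n → B) := (↑hu.unit⁻¹ : B) • hbc.lift (ι ∘ₗ τ)
  have hι : ∀ v, θB (ι v) =
      KaehlerDifferential.map R R C B (Fintype.linearCombination C (fun l => KaehlerDifferential.D R C (b l)) v) := by
    intro v
    simp only [θB, Fintype.linearCombination_apply, map_sum, map_smul, KaehlerDifferential.map_D]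
    exact Finset.sum_congr rfl fun l _ => algebraMap_smul B (v l) _
  have hc1 : θB ∘ₗ τB = LinearMap.id := by
    refine hbc.algHom_ext _ _ fun x => ?_
    simp only [LinearMap.comp_apply, τB, LinearMap.smul_apply, IsBaseChange.lift_eq, map_smul, hι, h1,
      LinearMap.id_apply]
    rw [← algebraMap_smul B g, smul_smul, IsUnit.val_inv_mul, one_smul]
  have hc2 : τB ∘ₗ θB = LinearMap.id := by
    refine LinearMap.pi_ext' fun l => LinearMap.ext_ring ?_
    simp only [LinearMap.comp_apply, LinearMap.single_apply, LinearMap.id_apply, θB,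
      Fintype.linearCombination_apply_single, one_smul]
    have h3 : KaehlerDifferential.D R C (b l) =
        Fintype.linearCombination C (fun l => KaehlerDifferential.D R C (b l)) (Pi.single l 1) := by
      rw [Fintype.linearCombination_apply_single, one_smul]
    rw [← KaehlerDifferential.map_D R R C B, LinearMap.smul_apply, IsBaseChange.lift_eq, LinearMap.comp_apply, h3, h2]
    funext j
    rw [Pi.smul_apply, smul_eq_mul]
    change _ * algebraMap C B ((g • Pi.single (M := fun _ => C) l 1) j) = _
    rw [Pi.smul_apply, smul_eq_mul, map_mul, ← mul_assoc, IsUnit.val_inv_mul, one_mul]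
    by_cases h : j = l
    · subst h; simp
    · simp [Pi.single_eq_of_ne h]
  let bas : Module.Basis (Fin n) B (KaehlerDifferential R B) :=
    (Pi.basisFun B (Fin n)).map (LinearEquiv.ofLinear θB τB hc1 hc2)
  refine Algebra.IsStandardSmooth.of_basis_kaehlerDifferential bas ?_
  rintro _ ⟨l, rfl⟩
  refine ⟨algebraMap C B (b l), ?_⟩
  simp [bas, θB, Fintype.linearCombination_apply_single]
  rfl

end std

section idem
variable {A : Type u} [CommRing A] {n : ℕ} (e : Fin n → Fin n → A)

/-- The ideal presenting the symmetric algebra of the image of an idempotent matrix. -/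
def idemIdeal : Ideal (MvPolynomial (Fin n) A) :=
  Ideal.span (Set.range fun l => X l - ∑ j, C (e l j) * X j)

theorem smooth_idem (he : ∀ l k, ∑ j, e l j * e j k = e l k) :
    Algebra.Smooth A (MvPolynomial (Fin n) A ⧸ idemIdeal e) := by
  refine ⟨?_, Algebra.FinitePresentation.quotient (Submodule.fg_span (Set.finite_range _))⟩
  let E : MvPolynomial (Fin n) A →ₐ[A] MvPolynomial (Fin n) A := aeval fun l => ∑ j, C (e l j) * X j
  have hker : ∀ x ∈ idemIdeal e, E x = 0 := by
    intro x hx
    have hle : idemIdeal e ≤ RingHom.ker E := by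
      refine Ideal.span_le.2 ?_
      rintro _ ⟨l, rfl⟩
      rw [SetLike.mem_coe, RingHom.mem_ker, map_sub, map_sum, sub_eq_zero]
      simp only [map_mul, aeval_X, E, aeval_C, MvPolynomial.algebraMap_eq, Finset.mul_sum]
      simp only [← mul_assoc, ← map_mul]
      rw [Finset.sum_comm]
      simp only [← Finset.sum_mul, ← map_sum, he]
    exact hle hx
  let f : MvPolynomial (Fin n) A →ₐ[A] MvPolynomial (Fin n) A ⧸ idemIdeal e := Ideal.Quotient.mkₐ A _
  refine Algebra.FormallySmooth.of_split f ((Ideal.Quotient.mkₐ A _).comp (Ideal.Quotient.liftₐ _ E hker)) ?_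
  refine Ideal.Quotient.algHom_ext A ?_
  refine MvPolynomial.algHom_ext fun l => ?_
  change f (E (X l)) = f (X l)
  rw [aeval_X, eq_comm, ← sub_eq_zero, ← map_sub]
  exact Ideal.Quotient.eq_zero_iff_mem.2 (Ideal.subset_span ⟨l, rfl⟩)

end idem

/-- Finitely many elements whose differentials form a basis at a section of a smooth algebra. -/
theorem exists_smooth_section {R A : Type u} [CommRing R] [CommRing A] [Algebra R A] [Algebra.Smooth R A] :
    ∃ (C : Type u) (_ : CommRing C) (_ : Algebra R C) (_ : Algebra A C) (_ : IsScalarTower R A C)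
      (ρ : C →ₐ[A] A) (n : ℕ) (b : Fin n → C), Algebra.Smooth A C ∧
      (⊤ ≤ LinearMap.range (Fintype.linearCombination C fun l => KaehlerDifferential.D R C (b l)) ⊔
        RingHom.ker ρ.toRingHom • (⊤ : Submodule C (KaehlerDifferential R C))) ∧
      LinearMap.ker (Fintype.linearCombination C fun l => KaehlerDifferential.D R C (b l)) ≤
        RingHom.ker ρ.toRingHom • (⊤ : Submodule C (Fin n → C)) := by
  classical
  obtain ⟨n, π, hπ⟩ := Algebra.FiniteType.iff_quotient_mvPolynomial''.1 (inferInstance : Algebra.FiniteType R A)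
  let x : Fin n → A := fun l => π (X l)
  let Φ : (Fin n → A) →ₗ[A] KaehlerDifferential R A :=
    Fintype.linearCombination A fun l => KaehlerDifferential.D R A (x l)
  have hD : ∀ p, KaehlerDifferential.D R A (π p) = Φ fun l => π (pderiv l p) := by
    intro p
    induction p using MvPolynomial.induction_on with
    | C r =>
      rw [← MvPolynomial.algebraMap_eq, AlgHom.commutes, Derivation.map_algebraMap]
      simp [Φ, Fintype.linearCombination_apply]
    | add p q hp hq =>
      rw [map_add, map_add, hp, hq, ← map_add]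
      congr 1; funext l; simp
    | mul_X p i hp =>
      rw [map_mul, Derivation.leibniz, hp]
      rw [show KaehlerDifferential.D R A (π (X i)) = Φ (Pi.single i 1) by
        simp [Φ, x, Fintype.linearCombination_apply_single], ← map_smul Φ, ← map_smul Φ, ← map_add]
      congr 1
      funext l
      by_cases h : l = i
      · subst h; simp [pderiv_mul]
      · simp [pderiv_mul, pderiv_X_of_ne (Ne.symm h), Pi.single_eq_of_ne h]
  have hΦ : Function.Surjective Φ := by
    rw [← LinearMap.range_eq_top, eq_top_iff, ← KaehlerDifferential.span_range_derivation, Submodule.span_le]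
    rintro _ ⟨a, rfl⟩
    obtain ⟨p, rfl⟩ := hπ a
    exact ⟨_, (hD p).symm⟩
  obtain ⟨s, hs⟩ := Module.projective_lifting_property Φ LinearMap.id hΦ
  have hs' : ∀ ω, Φ (s ω) = ω := fun ω => LinearMap.congr_fun hs ω
  let w : Fin n → (Fin n → A) := fun l => Pi.single l 1 - s (Φ (Pi.single l 1))
  let K : (Fin n → A) →ₗ[A] (Fin n → A) := LinearMap.id - s ∘ₗ Φ
  have hKw : ∀ l, K (w l) = w l := fun l => by
    simp [K, w, map_sub, hs']
  have hwsum : ∀ l, ∑ j, w l j • w j = w l := fun l => by
    conv_rhs => rw [← hKw l, pi_eq_sum_univ' (w l), map_sum]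
    exact Finset.sum_congr rfl fun j _ => by rw [map_smul]; rfl
  have he : ∀ l k, ∑ j, w l j * w j k = w l k := fun l k => by
    have := congrFun (hwsum l) k
    simpa [Finset.sum_apply] using this
  let Cr := MvPolynomial (Fin n) A ⧸ idemIdeal w
  haveI hsm : Algebra.Smooth A Cr := smooth_idem w he
  have hρ0 : ∀ y ∈ idemIdeal w, aeval (fun _ : Fin n => (0 : A)) y = 0 := by
    intro y hy
    have hle : idemIdeal w ≤ RingHom.ker (aeval (fun _ : Fin n => (0 : A))) := by
      refine Ideal.span_le.2 ?_
      rintro _ ⟨l, rfl⟩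
      simp
    exact hle hy
  let ρ : Cr →ₐ[A] A := Ideal.Quotient.liftₐ _ (aeval fun _ => (0 : A)) hρ0
  let mk : MvPolynomial (Fin n) A →ₐ[A] Cr := Ideal.Quotient.mkₐ A _
  let ν : Fin n → Cr := fun l => mk (X l)
  let b : Fin n → Cr := fun l => algebraMap A Cr (x l) + ν l
  refine ⟨Cr, inferInstance, inferInstance, inferInstance, inferInstance, ρ, n, b, hsm, ?_⟩
  -- the fibre at the section
  letI : Algebra Cr A := ρ.toRingHom.toAlgebra
  haveI : IsScalarTower R Cr A := IsScalarTower.of_algebraMap_eq fun r => by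
    change _ = ρ (algebraMap R Cr r)
    rw [IsScalarTower.algebraMap_apply R A Cr]
    exact (ρ.commutes _).symm
  have hρν : ∀ l, ρ (ν l) = 0 := fun l => by
    change aeval (fun _ : Fin n => (0 : A)) (X l) = 0
    simp
  have hρa : ∀ a, ρ (algebraMap A Cr a) = a := fun a => ρ.commutes a
  let T := A ⊗[Cr] KaehlerDifferential R Cr
  let d : Cr → T := fun c => 1 ⊗ₜ KaehlerDifferential.D R Cr c
  have hsmul : ∀ (c : Cr) (ω : KaehlerDifferential R Cr), (1 : A) ⊗ₜ[Cr] (c • ω) = ρ c • ((1 : A) ⊗ₜ[Cr] ω) := by
    intro c ω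
    refine (TensorProduct.smul_tmul c (1 : A) ω).symm.trans ?_
    rw [TensorProduct.smul_tmul', Algebra.smul_def, smul_eq_mul]
    rfl
  have hdmul : ∀ c c', d (c * c') = ρ c • d c' + ρ c' • d c := fun c c' => by
    simp only [d, Derivation.leibniz, tmul_add, hsmul]
  have hdadd : ∀ c c', d (c + c') = d c + d c' := fun c c' => by simp [d, tmul_add]
  let Θ : (Fin n → A) →ₗ[A] T := Fintype.linearCombination A fun l => d (b l)
  -- inverse derivation
  let δ0 : MvPolynomial (Fin n) A → (Fin n → A) := fun p =>
    s (KaehlerDifferential.D R A (aeval (fun _ : Fin n => (0 : A)) p)) +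
      ∑ l, aeval (fun _ : Fin n => (0 : A)) (pderiv l p) • w l
  have hδadd : ∀ p q, δ0 (p + q) = δ0 p + δ0 q := fun p q => by
    simp only [δ0, map_add, add_smul, Finset.sum_add_distrib]; abel
  have hδmul : ∀ p q, δ0 (p * q) =
      aeval (fun _ : Fin n => (0 : A)) p • δ0 q + aeval (fun _ : Fin n => (0 : A)) q • δ0 p := fun p q => by
    simp only [δ0, map_mul, Derivation.leibniz, map_add, smul_eq_mul, add_smul, smul_add, Finset.smul_sum,
      Finset.sum_add_distrib, map_smul, smul_smul]
    abel
  have hδ0 : ∀ p q, mk p = mk q → δ0 p = δ0 q := by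
    intro p q hpq
    have h1 : p - q ∈ idemIdeal w := Ideal.Quotient.eq.1 hpq
    have h4 : ∀ l, δ0 (X l - ∑ j, MvPolynomial.C (w l j) * X j) = 0 := fun l => by
      have h3 : aeval (fun _ : Fin n => (0 : A)) (X l - ∑ j, MvPolynomial.C (w l j) * X j) = 0 := by simp
      simp only [δ0, h3, map_zero, zero_add, map_sub, map_sum, pderiv_C_mul, map_mul, aeval_C,
        Algebra.algebraMap_self, RingHom.id_apply, sub_smul, Finset.sum_sub_distrib, Finset.sum_smul]
      rw [Finset.sum_eq_single l (fun k _ hk => by simp [pderiv_X_of_ne (Ne.symm hk)]) (by simp)]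
      rw [Finset.sum_comm, Finset.sum_congr rfl (fun j _ => Finset.sum_eq_single j
        (fun k _ hk => by simp [pderiv_X_of_ne (Ne.symm hk)]) (by simp))]
      simp [hwsum]
    have h2 : ∀ y ∈ idemIdeal w, δ0 y = 0 := by
      intro y hy
      induction hy using Submodule.span_induction with
      | mem z hz => obtain ⟨l, rfl⟩ := hz; exact h4 l
      | zero => simp [δ0]
      | add u v _ _ hu hv => rw [hδadd, hu, hv, add_zero]
      | smul c u hu ih => rw [smul_eq_mul, hδmul, ih, hρ0 u hu, smul_zero, zero_smul, add_zero]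
    rw [← sub_eq_zero]
    have h5 := hδadd (p - q) q
    rw [sub_add_cancel, h2 _ h1, zero_add] at h5
    rw [h5, sub_self]
  let σ : Cr → MvPolynomial (Fin n) A := Function.surjInv Ideal.Quotient.mk_surjective
  have hσ : ∀ c, mk (σ c) = c := Function.surjInv_eq Ideal.Quotient.mk_surjective
  have hρσ : ∀ c, aeval (fun _ : Fin n => (0 : A)) (σ c) = ρ c := fun c => by
    conv_rhs => rw [← hσ c]
    rfl
  let δl : Cr →ₗ[R] (Fin n → A) :=
    { toFun := fun c => δ0 (σ c)
      map_add' := fun c c' => by rw [hδ0 _ (σ c + σ c') (by rw [map_add, hσ, hσ, hσ]), hδadd]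
      map_smul' := fun r c => by
        rw [hδ0 _ (MvPolynomial.C (algebraMap R A r) * σ c) (by
          rw [map_mul, hσ, hσ, ← MvPolynomial.algebraMap_eq, AlgHom.commutes, ← IsScalarTower.algebraMap_apply]
          exact Algebra.smul_def r c), hδmul]
        rw [aeval_C, show δ0 (MvPolynomial.C (algebraMap R A r)) = 0 by simp [δ0], smul_zero, add_zero,
          Algebra.algebraMap_self, RingHom.id_apply]
        exact algebraMap_smul A r _ }
  let δ : Derivation R Cr (Fin n → A) := Derivation.mk' δl fun c c' => by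
    change δ0 (σ (c * c')) = c • δ0 (σ c') + c' • δ0 (σ c)
    rw [hδ0 _ (σ c * σ c') (by rw [map_mul, hσ, hσ, hσ]), hδmul, hρσ, hρσ]
    rfl
  let Ψ : T →ₗ[A] (Fin n → A) := δ.liftKaehlerDifferential.liftBaseChange A
  have hδν : ∀ l, δ (ν l) = w l := fun l => by
    change δ0 (σ (ν l)) = _
    rw [hδ0 _ (X l) (hσ _)]
    simp only [δ0, aeval_X, map_zero, zero_add]
    rw [Finset.sum_eq_single l (fun k _ hk => by simp [pderiv_X_of_ne (Ne.symm hk)]) (by simp)]
    simp
  have hδa : ∀ a, δ (algebraMap A Cr a) = s (KaehlerDifferential.D R A a) := fun a => by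
    change δ0 (σ (algebraMap A Cr a)) = _
    rw [hδ0 _ (MvPolynomial.C a) (by rw [hσ, ← MvPolynomial.algebraMap_eq, AlgHom.commutes])]
    simp [δ0]
  have hΨΘ : ∀ v, Ψ (Θ v) = v := fun v => by
    have h1 : Ψ ∘ₗ Θ = LinearMap.id := by
      refine LinearMap.pi_ext' fun l => LinearMap.ext_ring ?_
      simp only [LinearMap.comp_apply, LinearMap.single_apply, LinearMap.id_apply]
      rw [Fintype.linearCombination_apply_single, one_smul]
      rw [show b l = algebraMap A Cr (x l) + ν l from rfl, hdadd, map_add]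
      change (1 : A) • δ.liftKaehlerDifferential (KaehlerDifferential.D R Cr (algebraMap A Cr (x l))) +
        (1 : A) • δ.liftKaehlerDifferential (KaehlerDifferential.D R Cr (ν l)) = _
      rw [one_smul, one_smul, Derivation.liftKaehlerDifferential_comp_D, Derivation.liftKaehlerDifferential_comp_D,
        hδν, hδa,
        show KaehlerDifferential.D R A (x l) = Φ (Pi.single l 1) by
          simp [Φ, Fintype.linearCombination_apply_single]]
      simp [w]
    exact LinearMap.congr_fun h1 v
  -- surjectivity of Θ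
  let α : KaehlerDifferential R A →ₗ[A] T :=
    { toFun := fun ω => (1 : A) ⊗ₜ[Cr] KaehlerDifferential.map R R A Cr ω
      map_add' := fun ω ω' => by rw [map_add, tmul_add]
      map_smul' := fun a ω => by
        rw [map_smul, ← algebraMap_smul Cr a, hsmul, hρa]; rfl }
  have hα : ∀ a, α (KaehlerDifferential.D R A a) = d (algebraMap A Cr a) := fun a => by
    change (1 : A) ⊗ₜ[Cr] _ = _
    rw [KaehlerDifferential.map_D]
  let β : (Fin n → A) →ₗ[A] T := Fintype.linearCombination A fun l => d (ν l)
  have hΘsum : Θ = α ∘ₗ Φ + β := by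
    refine LinearMap.pi_ext' fun l => LinearMap.ext_ring ?_
    simp only [LinearMap.comp_apply, LinearMap.single_apply, LinearMap.add_apply, Θ, β, Φ,
      Fintype.linearCombination_apply_single, one_smul, hα]
    exact hdadd _ _
  have hνrel : ∀ l, ν l = ∑ j, algebraMap A Cr (w l j) * ν j := fun l => by
    rw [← sub_eq_zero]
    have h1 : mk (X l - ∑ j, MvPolynomial.C (w l j) * X j) = 0 :=
      Ideal.Quotient.eq_zero_iff_mem.2 (Ideal.subset_span ⟨l, rfl⟩)
    rw [map_sub, map_sum] at h1
    simp only [map_mul, ← MvPolynomial.algebraMap_eq, AlgHom.commutes] at h1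
    exact h1
  have hdsum : ∀ (t : Finset (Fin n)) (f : Fin n → Cr), d (∑ j ∈ t, f j) = ∑ j ∈ t, d (f j) := fun t f => by
    simp [d, tmul_sum]
  have hβK : ∀ l, β (w l) = d (ν l) := fun l => by
    conv_rhs => rw [hνrel l, hdsum]
    simp only [β, Fintype.linearCombination_apply, hdmul, hρν, hρa, zero_smul, add_zero]
  have hβs : ∀ ω, β (s ω) = 0 := fun ω => by
    have h1 : β ∘ₗ (s ∘ₗ Φ) = 0 := by
      refine LinearMap.pi_ext' fun l => LinearMap.ext_ring ?_
      simp only [LinearMap.comp_apply, LinearMap.single_apply, LinearMap.zero_apply]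
      have h2 : β (Pi.single l 1) - β (w l) = 0 := by
        rw [hβK, Fintype.linearCombination_apply_single, one_smul, sub_self]
      rw [← map_sub] at h2
      simpa [w] using h2
    obtain ⟨v, rfl⟩ := hΦ ω
    exact LinearMap.congr_fun h1 v
  have hrange : ∀ c, d c ∈ LinearMap.range Θ := by
    intro c
    obtain ⟨p, rfl⟩ := Ideal.Quotient.mk_surjective c
    induction p using MvPolynomial.induction_on with
    | C a =>
      refine ⟨s (KaehlerDifferential.D R A a), ?_⟩
      rw [hΘsum, LinearMap.add_apply, LinearMap.comp_apply, hs', hα, hβs, add_zero]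
      rfl
    | add p q hp hq => rw [map_add, hdadd]; exact add_mem hp hq
    | mul_X p l hp =>
      rw [map_mul, hdmul]
      refine add_mem (Submodule.smul_mem _ _ ⟨w l, ?_⟩) (Submodule.smul_mem _ _ hp)
      rw [hΘsum, LinearMap.add_apply, LinearMap.comp_apply, hβK,
        show Φ (w l) = 0 by simp [w, map_sub, hs'], map_zero, zero_add]
      rfl
  have hΘsurj : ∀ z, z ∈ LinearMap.range Θ := by
    intro z
    induction z using TensorProduct.induction_on with
    | zero => exact zero_mem _
    | add p q hp hq => exact add_mem hp hq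
    | tmul a ω =>
      have hω : ω ∈ Submodule.span Cr (Set.range (KaehlerDifferential.D R Cr)) := by
        rw [KaehlerDifferential.span_range_derivation]; trivial
      rw [show a ⊗ₜ[Cr] ω = a • ((1 : A) ⊗ₜ[Cr] ω) by rw [TensorProduct.smul_tmul', smul_eq_mul, mul_one]]
      refine Submodule.smul_mem _ _ ?_
      induction hω using Submodule.span_induction with
      | mem y hy => obtain ⟨c, rfl⟩ := hy; exact hrange c
      | zero => rw [tmul_zero]; exact zero_mem _
      | add p q _ _ hp hq => rw [tmul_add]; exact add_mem hp hq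
      | smul c p _ hp => rw [hsmul]; exact Submodule.smul_mem _ _ hp
  -- conclude
  let θ := Fintype.linearCombination Cr fun l => KaehlerDifferential.D R Cr (b l)
  let m := RingHom.ker ρ.toRingHom
  have hcomp : ∀ v : Fin n → Cr, (1 : A) ⊗ₜ[Cr] θ v = Θ fun l => ρ (v l) := fun v => by
    simp only [θ, Θ, Fintype.linearCombination_apply, tmul_sum, hsmul, d]
  have hzero : ∀ ω, (1 : A) ⊗ₜ[Cr] ω = 0 → ω ∈ m • (⊤ : Submodule Cr (KaehlerDifferential R Cr)) := by
    intro ω hω
    let bil : A →ₗ[Cr] KaehlerDifferential R Cr →ₗ[Cr] KaehlerDifferential R Cr ⧸ m • (⊤ : Submodule Cr (KaehlerDifferential R Cr)) :=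
      { toFun := fun a => algebraMap A Cr a • (m • (⊤ : Submodule Cr (KaehlerDifferential R Cr))).mkQ
        map_add' := fun a a' => LinearMap.ext fun ω => by
          simp only [map_add, LinearMap.smul_apply, LinearMap.add_apply]
          exact add_smul _ _ _
        map_smul' := fun c a => by
          refine LinearMap.ext fun ω => ?_
          simp only [LinearMap.smul_apply, RingHom.id_apply, ← map_smul, smul_smul]
          rw [Submodule.mkQ_apply, Submodule.mkQ_apply, Submodule.Quotient.eq]
          change algebraMap A Cr (ρ c * a) • ω - c • algebraMap A Cr a • ω ∈ _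
          rw [← (sub_smul (algebraMap A Cr (ρ c * a)) (c * algebraMap A Cr a) ω).trans
              (congrArg _ (mul_smul c (algebraMap A Cr a) ω))]
          refine Submodule.smul_mem_smul ?_ Submodule.mem_top
          change ρ (algebraMap A Cr (ρ c * a) - c * algebraMap A Cr a) = 0
          rw [map_sub, map_mul (algebraMap A Cr), map_mul, map_mul, hρa, hρa, sub_self] }
    have h := congrArg (TensorProduct.lift bil) hω
    rw [TensorProduct.lift.tmul, map_zero] at h
    change algebraMap A Cr 1 • (m • (⊤ : Submodule Cr (KaehlerDifferential R Cr))).mkQ ω = 0 at h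
    rw [map_one, one_smul, Submodule.mkQ_apply, Submodule.Quotient.mk_eq_zero] at h
    exact h
  refine ⟨fun ω _ => ?_, fun v hv => ?_⟩
  · obtain ⟨v, hv⟩ := hΘsurj ((1 : A) ⊗ₜ[Cr] ω)
    refine Submodule.mem_sup.2 ⟨θ fun l => algebraMap A Cr (v l), ⟨_, rfl⟩,
      ω - θ (fun l => algebraMap A Cr (v l)), hzero _ ?_, by abel⟩
    rw [tmul_sub, hcomp, sub_eq_zero, ← hv]
    simp only [hρa]
  · have h1 : (fun l => ρ (v l)) = 0 := by
      have h2 := hΨΘ fun l => ρ (v l)
      rw [← hcomp, show θ v = 0 from hv, tmul_zero, map_zero] at h2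
      exact h2.symm
    rw [pi_eq_sum_univ' v]
    exact Submodule.sum_mem _ fun l _ => Submodule.smul_mem_smul (congrFun h1 l) Submodule.mem_top

/-- A smooth algebra is a retract of a standard smooth algebra, smooth over it. -/
theorem exists_standardSmooth_retract {R A : Type u} [CommRing R] [CommRing A] [Algebra R A] [Algebra.Smooth R A] :
    ∃ (B : Type u) (_ : CommRing B) (_ : Algebra R B) (_ : Algebra A B) (_ : IsScalarTower R A B),
      Algebra.Smooth A B ∧ Nonempty (B →ₐ[A] A) ∧ Algebra.IsStandardSmooth R B := by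
  obtain ⟨C, i1, i2, i3, i4, ρ, n, b, hsm, hsurj, hinj⟩ := exists_smooth_section (R := R) (A := A)
  haveI := hsm
  haveI : Algebra.Smooth R C := Algebra.Smooth.comp R A C
  obtain ⟨g, τ, hg, h1, h2⟩ := exists_inverse_mul
    (Fintype.linearCombination C fun l => KaehlerDifferential.D R C (b l)) (RingHom.ker ρ.toRingHom) hsurj hinj
  have hρg : ρ g = 1 := sub_eq_zero.1 (show ρ g - 1 = 0 by rw [← map_one ρ, ← map_sub]; exact hg)
  haveI : Algebra.Smooth C (Localization.Away g) := Algebra.Smooth.of_isLocalization_Away g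
  refine ⟨Localization.Away g, inferInstance, inferInstance, inferInstance, inferInstance,
    Algebra.Smooth.comp A C (Localization.Away g), ⟨IsLocalization.liftAlgHom (M := Submonoid.powers g) (f := ρ) ?_⟩,
    isStandardSmooth_away b g τ h1 h2⟩
  rintro ⟨_, k, rfl⟩
  change IsUnit (ρ (g ^ k))
  rw [map_pow, hρg, one_pow]
  exact isUnit_one

end Groth.Agent.SmoothingLib
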