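import Mathlib
import Groth.Prelude.Def_Smoothing
import Groth.Agent.SmoothingLib.Minor
import Groth.Agent.SmoothingLib.StrictlyStandard
import Groth.Agent.NeronLib.BlowupSmooth

/-! The singular ideal through standard elements. -/

set_option autoImplicit false
universe u

noncomputable section

namespace Groth.Agent.SmoothingLib

open MvPolynomial Smoothing

variable {R A : Type u} [CommRing R] [CommRing A] [Algebra R A]

theorem IsElementaryStandard.isStrictlyStandard {a : A} (h : IsElementaryStandard R A a) :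
    IsStrictlyStandard R A a := by
  obtain ⟨P, ⟨a', ha'⟩, hk⟩ := h
  refine ⟨P, ?_, hk⟩
  rw [ha']
  exact Ideal.mul_mem_left _ _ (Ideal.subset_span ⟨Fin.castLE P.hcn, rfl⟩)

theorem exists_perm_castLE {c n : ℕ} (h : c ≤ n) (e : Fin c ↪ Fin n) :
    ∃ σ : Equiv.Perm (Fin n), ∀ i, σ (Fin.castLE h i) = e i := by
  classical
  let e' : {x // x ∈ Set.range (Fin.castLE h)} ≃ {x // x ∈ Set.range e} :=
    (Equiv.ofInjective _ (Fin.castLE_injective h)).symm.trans (Equiv.ofInjective e e.injective)
  refine ⟨e'.extendSubtype, fun i => ?_⟩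
  rw [Equiv.extendSubtype_apply_of_mem _ _ ⟨i, rfl⟩]
  change ((Equiv.ofInjective e e.injective) ((Equiv.ofInjective _ (Fin.castLE_injective h)).symm
    ((Equiv.ofInjective _ (Fin.castLE_injective h)) i)) : Fin n) = e i
  rw [Equiv.symm_apply_apply]
  rfl

theorem exists_elementaryStandard_notMem [Algebra.FinitePresentation R A] (q : Ideal A) [q.IsPrime]
    [Algebra.IsSmoothAt R q] : ∃ a, IsElementaryStandard R A a ∧ a ∉ q := by
  obtain ⟨n, φ, hφ, hfg⟩ := Algebra.FinitePresentation.out (R := R) (A := A)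
  obtain ⟨m, f, hf⟩ := Submodule.fg_iff_exists_fin_generating_family.1 hfg
  have hker : RingHom.ker φ.toRingHom = Ideal.span (Set.range f) := hf.symm
  obtain ⟨c, rows, cols, s, hminor, hs, hJ⟩ := exists_rows_cols f φ hφ hker q
  have hcm : c ≤ m := by simpa using Fintype.card_le_of_embedding rows
  have hcn : c ≤ n := by simpa using Fintype.card_le_of_embedding cols
  obtain ⟨σ, hσ⟩ := exists_perm_castLE hcm rows
  obtain ⟨τ, hτ⟩ := exists_perm_castLE hcn cols
  let ρ := MvPolynomial.renameEquiv R τ.symm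
  let P : MarkedPresentation R A :=
    { n := n, m := m, c := c, hcn := hcn, hcm := hcm
      rel := fun j => ρ (f (σ j))
      hom := φ.comp ρ.symm.toAlgHom
      surj := hφ.comp ρ.symm.surjective
      ker_eq := by
        have h1 : RingHom.ker (φ.comp ρ.symm.toAlgHom).toRingHom =
            Ideal.comap ρ.symm.toRingEquiv.toRingHom (RingHom.ker φ.toRingHom) := rfl
        have h3 : Ideal.comap ρ.symm.toRingEquiv.toRingHom = Ideal.map ρ.toRingEquiv.toRingHom :=
          funext fun J => (Ideal.map_symm (f := ρ.symm.toRingEquiv) (I := J)).symm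
        rw [h1, h3, hker, Ideal.map_span, ← Set.range_comp,
          show (fun j => ρ (f (σ j))) = (⇑ρ ∘ f) ∘ σ from rfl, σ.surjective.range_comp]
        rfl }
  have hPρ : ∀ x, P.hom (ρ x) = φ x := fun x => congrArg φ (ρ.symm_apply_apply x)
  have hJac : jacobianMinor P.rel (Fin.castLE hcm) (Fin.castLE hcn) = ρ (jacobianMinor f rows cols) := by
    rw [jacobianMinor, jacobianMinor, AlgEquiv.map_det]
    congr 1
    refine Matrix.ext fun i k => ?_
    change pderiv (Fin.castLE hcn k) (rename τ.symm (f (σ (Fin.castLE hcm i)))) = rename τ.symm (pderiv (cols k) (f (rows i)))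
    rw [hσ, show Fin.castLE hcn k = τ.symm (cols k) from (τ.symm_apply_eq.2 (hτ k).symm).symm]
    exact NeronLib.pderiv_rename_apply τ.symm.injective _ _
  let M := jacobianMinor f rows cols
  refine ⟨φ s * φ M, ⟨P, ⟨φ s, ?_⟩, ?_⟩, fun h => (‹q.IsPrime›.mem_or_mem h).elim hs hminor⟩
  · rw [hJac, hPρ]
  · intro a' ha' j _
    have hd : a' - ρ (s * M) ∈ Ideal.span (Set.range P.rel) := by
      rw [← P.ker_eq, RingHom.mem_ker]
      change P.hom (a' - ρ (s * M)) = 0
      rw [map_sub, hPρ, map_mul, ha', sub_self]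
    have h1 : ρ (s * M) * P.rel j ∈ Ideal.span (P.rel '' {j' : Fin m | (j' : ℕ) < c}) := by
      have h2 := Ideal.mem_map_of_mem ρ.toRingEquiv.toRingHom (Ideal.mul_mem_left _ M (hJ (σ j)))
      rw [Ideal.map_span, ← Set.range_comp] at h2
      rw [show ρ (s * M) * P.rel j = ρ.toRingEquiv.toRingHom (M * (s * f (σ j))) from
        (map_mul ρ _ _).symm.trans (congrArg ρ (by ring))]
      refine Ideal.span_mono ?_ h2
      rintro _ ⟨i, rfl⟩
      exact ⟨Fin.castLE hcm i, i.2, congrArg (fun x => ρ (f x)) (hσ i)⟩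
    have e : a' * P.rel j = ρ (s * M) * P.rel j + (a' - ρ (s * M)) * P.rel j := by ring
    rw [e, pow_two]
    exact Submodule.add_mem_sup h1 (Ideal.mul_mem_mul hd (Ideal.subset_span ⟨j, rfl⟩))

theorem singularIdeal_eq [Algebra.FinitePresentation R A] :
    singularIdeal R A = (Ideal.span {a : A | IsStrictlyStandard R A a}).radical ∧
      singularIdeal R A = (Ideal.span {a : A | IsElementaryStandard R A a}).radical := by
  have h1 : (Ideal.span {a : A | IsElementaryStandard R A a}).radical ≤
      (Ideal.span {a : A | IsStrictlyStandard R A a}).radical :=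
    Ideal.radical_mono (Ideal.span_mono fun a ha => IsElementaryStandard.isStrictlyStandard ha)
  have h2 : (Ideal.span {a : A | IsStrictlyStandard R A a}).radical ≤ singularIdeal R A := by
    have hmem : ∀ a, IsStrictlyStandard R A a → a ∈ singularIdeal R A := fun a ha => by
      rw [singularIdeal, PrimeSpectrum.mem_vanishingIdeal]
      intro x hx
      by_contra hax
      exact hx (Algebra.basicOpen_subset_smoothLocus_iff_smooth.2 (smooth_stablyFree a ha).1 hax)
    intro x hx
    obtain ⟨k, hk⟩ := hx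
    have h4 : x ^ k ∈ singularIdeal R A := Ideal.span_le.2 hmem hk
    rw [singularIdeal, PrimeSpectrum.mem_vanishingIdeal] at h4 ⊢
    exact fun y hy => y.2.mem_of_pow_mem _ (h4 y hy)
  have h3 : singularIdeal R A ≤ (Ideal.span {a : A | IsElementaryStandard R A a}).radical := by
    intro x hx
    rw [Ideal.radical_eq_sInf, Ideal.mem_sInf]
    rintro q ⟨hq, hqp⟩
    haveI := hqp
    rw [singularIdeal, PrimeSpectrum.mem_vanishingIdeal] at hx
    refine hx ⟨q, hqp⟩ fun hsm => ?_
    haveI : Algebra.IsSmoothAt R q := hsm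
    obtain ⟨a, ha, haq⟩ := exists_elementaryStandard_notMem (R := R) q
    exact haq (hq (Ideal.subset_span ha))
  exact ⟨le_antisymm (h3.trans h1) h2, le_antisymm h3 (h1.trans h2)⟩

end Groth.Agent.SmoothingLib
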