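import Mathlib
import Groth.Prelude.Def_Smoothing
import Groth.Agent.SmoothingLib.Singular
import Groth.Agent.SmoothingLib.Retract

/-! Descending a smooth factorization from a localization of the base. -/

set_option autoImplicit false
universe u

noncomputable section

namespace Groth.Agent.SmoothingLib

open MvPolynomial Smoothing TensorProduct

section data
variable {R A Λ B' : Type u} [CommRing R] [CommRing A] [Algebra R A] [CommRing Λ] [Algebra R Λ] [CommRing B'] [Algebra R B']
  {k n c m : ℕ}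

/-- The linking relation `t Y - P(X)`. -/
def linkRel (t : Fin k → R) (P : Fin k → MvPolynomial (Fin n) R) (q : Fin k) : MvPolynomial (Fin (k + n)) R :=
  C (t q) * X (Fin.castAdd n q) - rename (Fin.natAdd k) (P q)

theorem exists_subst_mem (S : Submonoid R) (t : Fin k → R) (ht : ∀ q, t q ∈ S) (P : Fin k → MvPolynomial (Fin n) R)
    (ν : MvPolynomial (Fin n) R →ₐ[R] B') (γ : MvPolynomial (Fin k) R →ₐ[R] B')
    (hP : ∀ q, ν (P q) = t q • γ (X q)) (r : MvPolynomial (Fin k) R) :
    ∃ s ∈ S, ∃ p, C s * rename (Fin.castAdd n) r - rename (Fin.natAdd k) p ∈ Ideal.span (Set.range (linkRel t P)) ∧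
      ν p = s • γ r := by
  induction r using MvPolynomial.induction_on with
  | C a =>
    refine ⟨1, S.one_mem, C a, ?_, ?_⟩
    · simp
    · rw [one_smul, ← MvPolynomial.algebraMap_eq, ν.commutes, ← MvPolynomial.algebraMap_eq, γ.commutes]
  | add r r' hr hr' =>
    obtain ⟨s, hs, p, hp, hνp⟩ := hr
    obtain ⟨s', hs', p', hp', hνp'⟩ := hr'
    refine ⟨s * s', S.mul_mem hs hs', C s' * p + C s * p', ?_, ?_⟩
    · rw [show C (s * s') * rename (Fin.castAdd n) (r + r') - rename (Fin.natAdd k) (C s' * p + C s * p') =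
        C s' * (C s * rename (Fin.castAdd n) r - rename (Fin.natAdd k) p) +
          C s * (C s' * rename (Fin.castAdd n) r' - rename (Fin.natAdd k) p') by
            simp only [map_add, map_mul, rename_C]; ring]
      exact add_mem (Ideal.mul_mem_left _ _ hp) (Ideal.mul_mem_left _ _ hp')
    · simp only [map_add, map_mul, hνp, hνp', ← MvPolynomial.algebraMap_eq, AlgHom.commutes, Algebra.smul_def,
        mul_add]
      ring
  | mul_X r q hr =>
    obtain ⟨s, hs, p, hp, hνp⟩ := hr
    refine ⟨s * t q, S.mul_mem hs (ht q), p * P q, ?_, ?_⟩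
    · rw [show C (s * t q) * rename (Fin.castAdd n) (r * X q) - rename (Fin.natAdd k) (p * P q) =
        C (t q) * X (Fin.castAdd n q) * (C s * rename (Fin.castAdd n) r - rename (Fin.natAdd k) p) +
          rename (Fin.natAdd k) p * linkRel t P q by
            simp only [linkRel, map_mul, rename_X]; ring]
      exact add_mem (Ideal.mul_mem_left _ _ hp) (Ideal.mul_mem_left _ _ (Ideal.subset_span ⟨q, rfl⟩))
    · rw [map_mul, map_mul γ, hνp, hP, Algebra.smul_def, Algebra.smul_def, Algebra.smul_def, map_mul]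
      ring

/-- An algebra with an elementary standard element from a denominator-free presentation. -/
theorem standard_of_data (S : Submonoid R) (π : MvPolynomial (Fin k) R →ₐ[R] A) (hπ : Function.Surjective π)
    (r : Fin m → MvPolynomial (Fin k) R) (hr : RingHom.ker π.toRingHom = Ideal.span (Set.range r))
    (φ : A →ₐ[R] Λ) (hcn : c ≤ n) (f : Fin c → MvPolynomial (Fin n) R)
    (ν : MvPolynomial (Fin n) R →ₐ[R] B') (γ : MvPolynomial (Fin k) R →ₐ[R] B')
    (hγ : ∀ x, π x = 0 → γ x = 0) (hsurj : ∀ b, ∃ s ∈ S, ∃ p, ν p = s • b)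
    (hkerν : ∀ p, ν p = 0 → ∃ s ∈ S, C s * p ∈ Ideal.span (Set.range f))
    (hD : IsUnit (ν (Matrix.det (Matrix.of fun i j : Fin c => pderiv (Fin.castLE hcn j) (f i)))))
    (t : Fin k → R) (ht : ∀ q, t q ∈ S) (P : Fin k → MvPolynomial (Fin n) R)
    (hP : ∀ q, ν (P q) = t q • γ (X q))
    (lam : Fin n → Λ) (hf : ∀ i, aeval lam (f i) = 0) (hlam : ∀ q, t q • φ (π (X q)) = aeval lam (P q)) :
    ∃ (B : Type u) (_ : CommRing B) (_ : Algebra R B) (α : A →ₐ[R] B) (β : B →ₐ[R] Λ),
      β.comp α = φ ∧ ∃ s ∈ S, IsElementaryStandard R B (algebraMap R B s) := by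
  classical
  let yv : MvPolynomial (Fin k) R →ₐ[R] MvPolynomial (Fin (k + n)) R := rename (Fin.castAdd n)
  let xv : MvPolynomial (Fin n) R →ₐ[R] MvPolynomial (Fin (k + n)) R := rename (Fin.natAdd k)
  let rel : Fin ((k + c) + m) → MvPolynomial (Fin (k + n)) R :=
    Fin.append (Fin.append (linkRel t P) (fun i => xv (f i))) (fun j => yv (r j))
  let J : Ideal (MvPolynomial (Fin (k + n)) R) := Ideal.span (Set.range rel)
  let Bq := MvPolynomial (Fin (k + n)) R ⧸ J
  let mk : MvPolynomial (Fin (k + n)) R →ₐ[R] Bq := Ideal.Quotient.mkₐ R J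
  let L : Ideal (MvPolynomial (Fin (k + n)) R) :=
    Ideal.span (rel '' {j : Fin ((k + c) + m) | (j : ℕ) < k + c})
  have hLink : Ideal.span (Set.range (linkRel t P)) ≤ L := by
    refine Ideal.span_le.2 ?_
    rintro _ ⟨q, rfl⟩
    exact Ideal.subset_span ⟨Fin.castAdd m (Fin.castAdd c q), by simp; omega, by simp [rel]⟩
  have hfL : ∀ p ∈ Ideal.span (Set.range f), xv p ∈ L := by
    intro p hp
    have hle : Ideal.span (Set.range f) ≤ L.comap xv.toRingHom := by
      refine Ideal.span_le.2 ?_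
      rintro _ ⟨i, rfl⟩
      exact Ideal.subset_span ⟨Fin.castAdd m (Fin.natAdd k i), by simp, by simp [rel]⟩
    exact hle hp
  have hLJ : L ≤ J := Ideal.span_mono (Set.image_subset_range _ _)
  -- tail relations
  have htail : ∀ j, ∃ s ∈ S, C s * yv (r j) ∈ L := by
    intro j
    obtain ⟨s, hs, p, hp, hνp⟩ := exists_subst_mem S t ht P ν γ hP (r j)
    have h0 : ν p = 0 := by
      rw [hνp, hγ (r j) (show r j ∈ RingHom.ker π.toRingHom by rw [hr]; exact Ideal.subset_span ⟨j, rfl⟩), smul_zero]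
    obtain ⟨s', hs', hs'p⟩ := hkerν p h0
    refine ⟨s' * s, S.mul_mem hs' hs, ?_⟩
    rw [show (C (s' * s) * yv (r j) : MvPolynomial (Fin (k + n)) R) =
      C s' * (C s * yv (r j) - xv p) + xv (C s' * p) by simp only [map_mul, xv, rename_C]; ring]
    exact add_mem (L.mul_mem_left _ (hLink hp)) (hfL _ hs'p)
  choose sT hsT hsTmem using htail
  -- the minor
  let D : MvPolynomial (Fin n) R := Matrix.det (Matrix.of fun i j : Fin c => pderiv (Fin.castLE hcn j) (f i))
  obtain ⟨s₁, hs₁, Q₁, hQ₁⟩ := hsurj (↑hD.unit⁻¹ : B')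
  have hDQ : ν (C s₁ - D * Q₁) = 0 := by
    rw [map_sub, map_mul, hQ₁, Algebra.smul_def, ← MvPolynomial.algebraMap_eq, AlgHom.commutes, mul_left_comm,
      IsUnit.mul_val_inv, mul_one, sub_self]
  obtain ⟨s₂, hs₂, hs₂mem⟩ := hkerν _ hDQ
  let T : R := ∏ q, t q
  have hcols : k + c ≤ k + n := Nat.add_le_add_left hcn k
  have hrows : k + c ≤ (k + c) + m := Nat.le_add_right _ _
  have hminor : jacobianMinor rel (Fin.castLE hrows) (Fin.castLE hcols) = C T * xv D := by
    have hc1 : ∀ q : Fin k, Fin.castLE hcols (Fin.castAdd c q) = Fin.castAdd n q := fun q => Fin.ext rfl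
    have hc2 : ∀ i : Fin c, Fin.castLE hcols (Fin.natAdd k i) = Fin.natAdd k (Fin.castLE hcn i) := fun i => Fin.ext rfl
    have hr0 : ∀ i : Fin (k + c), rel (Fin.castLE hrows i) =
        Fin.append (linkRel t P) (fun i => xv (f i)) i := fun i => by
      rw [show Fin.castLE hrows i = Fin.castAdd m i from Fin.ext rfl]
      simp [rel]
    have hne : ∀ (q : Fin k) (l : Fin n), Fin.natAdd k l ≠ Fin.castAdd n q := fun q l h => by
      have := congrArg Fin.val h; simp at this; omega
    rw [jacobianMinor, ← Matrix.det_submatrix_equiv_self finSumFinEquiv]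
    have hblocks : (Matrix.of fun j l => pderiv (Fin.castLE hcols l) (rel (Fin.castLE hrows j))).submatrix
        finSumFinEquiv finSumFinEquiv =
        Matrix.fromBlocks (Matrix.diagonal fun q => (C (t q) : MvPolynomial (Fin (k + n)) R))
          (Matrix.of fun q i => pderiv (Fin.natAdd k (Fin.castLE hcn i)) (linkRel t P q)) 0
          (xv.toRingHom.mapMatrix (Matrix.of fun i j : Fin c => pderiv (Fin.castLE hcn j) (f i))) := by
      refine Matrix.ext fun i j => ?_
      rw [Matrix.submatrix_apply, Matrix.of_apply, hr0]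
      rcases i with q | i <;> rcases j with q' | i'
      · rw [finSumFinEquiv_apply_left, finSumFinEquiv_apply_left, hc1, Fin.append_left, Matrix.fromBlocks_apply₁₁,
          linkRel, map_sub, pderiv_C_mul, NeronLib.pderiv_rename_of_notMem_range _ (hne q'), sub_zero]
        by_cases h : q = q'
        · subst h; simp
        · rw [pderiv_X_of_ne (fun e => h (Fin.castAdd_injective _ _ e)), mul_zero, Matrix.diagonal_apply_ne _ h]
      · rw [finSumFinEquiv_apply_left, finSumFinEquiv_apply_right, hc2, Fin.append_left, Matrix.fromBlocks_apply₁₂]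
        rfl
      · rw [finSumFinEquiv_apply_right, finSumFinEquiv_apply_left, hc1, Fin.append_right, Matrix.fromBlocks_apply₂₁]
        exact NeronLib.pderiv_rename_of_notMem_range _ (hne q') _
      · rw [finSumFinEquiv_apply_right, finSumFinEquiv_apply_right, hc2, Fin.append_right, Matrix.fromBlocks_apply₂₂]
        exact NeronLib.pderiv_rename_apply (Fin.natAdd_injective _ _) _ _
    rw [hblocks, Matrix.det_fromBlocks_zero₂₁, Matrix.det_diagonal, ← RingHom.map_det, ← map_prod]
    rfl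
  -- the marked presentation
  let Pm : MarkedPresentation R Bq :=
    { n := k + n, m := (k + c) + m, c := k + c, hcn := hcols, hcm := hrows, rel := rel, hom := mk
      surj := Ideal.Quotient.mk_surjective
      ker_eq := Ideal.mk_ker }
  let sP : R := ∏ j, sT j
  let sa : R := T * (s₂ * s₁) * sP
  have hsa : sa ∈ S :=
    S.mul_mem (S.mul_mem (prod_mem fun q _ => ht q) (S.mul_mem hs₂ hs₁)) (prod_mem fun j _ => hsT j)
  have hstd : IsElementaryStandard R Bq (algebraMap R Bq sa) := by
    refine ⟨Pm, ⟨mk (C sP * C s₂ * xv Q₁), ?_⟩, ?_⟩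
    · change algebraMap R Bq sa = _ * mk (jacobianMinor rel (Fin.castLE hrows) (Fin.castLE hcols))
      rw [hminor, ← map_mul mk, ← AlgHom.commutes mk, eq_comm, ← sub_eq_zero, ← map_sub]
      refine Ideal.Quotient.eq_zero_iff_mem.2 (hLJ ?_)
      have h1 := L.mul_mem_left (-(C T * C sP)) (hfL _ hs₂mem)
      convert h1 using 1
      simp only [sa, xv, D, map_mul, map_sub, rename_C, MvPolynomial.algebraMap_eq]
      ring
    · intro a' ha' j _
      change Fin ((k + c) + m) at j
      have hdiff : (a' : MvPolynomial (Fin (k + n)) R) - C sa ∈ J := by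
        rw [← Ideal.Quotient.eq_zero_iff_mem, map_sub, sub_eq_zero]
        exact ha'
      change (a' : MvPolynomial (Fin (k + n)) R) * rel j ∈ L ⊔ J ^ 2
      rw [show (a' : MvPolynomial (Fin (k + n)) R) * rel j = C sa * rel j + (a' - C sa) * rel j by ring, pow_two]
      refine Submodule.add_mem_sup ?_ (Ideal.mul_mem_mul hdiff (Ideal.subset_span ⟨j, rfl⟩))
      refine Fin.addCases (fun i => ?_) (fun j => ?_) j
      · exact L.mul_mem_left _ (Ideal.subset_span ⟨Fin.castAdd m i, i.2, rfl⟩)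
      · rw [show rel (Fin.natAdd (k + c) j) = yv (r j) by simp [rel],
          show sa = T * (s₂ * s₁) * (∏ l ∈ Finset.univ.erase j, sT l) * sT j by
            simp only [sa, sP]; rw [mul_assoc _ _ (sT j), Finset.prod_erase_mul _ _ (Finset.mem_univ j)],
          map_mul C _ (sT j), mul_assoc]
        exact L.mul_mem_left _ (hsTmem j)
  -- the maps
  let β₀ : MvPolynomial (Fin (k + n)) R →ₐ[R] Λ := aeval (Fin.append (fun q => φ (π (X q))) lam)
  have hβy : ∀ p, β₀ (yv p) = φ (π p) := by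
    have : β₀.comp yv = φ.comp π := MvPolynomial.algHom_ext fun q => by simp [β₀, yv]
    exact fun p => AlgHom.congr_fun this p
  have hβx : ∀ p, β₀ (xv p) = aeval lam p := by
    have : β₀.comp xv = aeval lam := MvPolynomial.algHom_ext fun l => by simp [β₀, xv]
    exact fun p => AlgHom.congr_fun this p
  have hβJ : ∀ x ∈ J, β₀ x = 0 := fun x hx => by
    refine (show J ≤ RingHom.ker β₀ from Ideal.span_le.2 ?_) hx
    rintro _ ⟨i, rfl⟩
    rw [SetLike.mem_coe, RingHom.mem_ker]
    refine Fin.addCases (fun i => ?_) (fun j => ?_) i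
    · refine Fin.addCases (fun q => ?_) (fun i => ?_) i
      · rw [show rel (Fin.castAdd m (Fin.castAdd c q)) = linkRel t P q by simp [rel], linkRel, map_sub, map_mul]
        change _ - β₀ (xv (P q)) = 0
        rw [hβx, ← hlam, ← MvPolynomial.algebraMap_eq, AlgHom.commutes, Algebra.smul_def, sub_eq_zero]
        simp [β₀]
      · rw [show rel (Fin.castAdd m (Fin.natAdd k i)) = xv (f i) by simp [rel], hβx, hf]
    · rw [show rel (Fin.natAdd (k + c) j) = yv (r j) by simp [rel], hβy,
        show π (r j) = 0 from (show r j ∈ RingHom.ker π.toRingHom by rw [hr]; exact Ideal.subset_span ⟨j, rfl⟩),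
        map_zero]
  have hyJ : ∀ x ∈ RingHom.ker π, mk (yv x) = 0 := fun x hx => by
    have hle : RingHom.ker π.toRingHom ≤ J.comap yv.toRingHom := by
      rw [hr, Ideal.span_le]
      rintro _ ⟨j, rfl⟩
      exact Ideal.subset_span ⟨Fin.natAdd _ j, by simp [rel, yv]⟩
    exact Ideal.Quotient.eq_zero_iff_mem.2 (hle hx)
  let e := Ideal.quotientKerAlgEquivOfSurjective (f := π) hπ
  let α : A →ₐ[R] Bq := (Ideal.Quotient.liftₐ (RingHom.ker π) (mk.comp yv) hyJ).comp e.symm.toAlgHom
  refine ⟨Bq, inferInstance, inferInstance, α, Ideal.Quotient.liftₐ J β₀ hβJ, AlgHom.ext fun a => ?_, sa, hsa, hstd⟩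
  obtain ⟨p, rfl⟩ := hπ a
  have hα : α (π p) = mk (yv p) := by
    change Ideal.Quotient.liftₐ (RingHom.ker π) (mk.comp yv) hyJ (e.symm (π p)) = _
    rw [show e.symm (π p) = Ideal.Quotient.mk _ p from e.symm_apply_eq.2 rfl]
    rfl
  rw [AlgHom.comp_apply, hα]
  exact hβy p

end data

section localized
attribute [local instance] MvPolynomial.algebraMvPolynomial
variable {R Rₛ : Type u} [CommRing R] (S : Submonoid R) [CommRing Rₛ] [Algebra R Rₛ] [IsLocalization S Rₛ]

/-- Elements of a localized algebra are fractions. -/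
theorem exists_smul_eq_tmul {Λ : Type u} [CommRing Λ] [Algebra R Λ] (z : Rₛ ⊗[R] Λ) :
    ∃ s ∈ S, ∃ l : Λ, s • z = (1 : Rₛ) ⊗ₜ[R] l := by
  obtain ⟨⟨l, s⟩, h⟩ := IsLocalizedModule.surj S (TensorProduct.mk R Rₛ Λ 1) z
  exact ⟨s, s.2, l, h⟩

/-- Elements killed in a localized algebra. -/
theorem exists_smul_eq_zero {Λ : Type u} [CommRing Λ] [Algebra R Λ] {l : Λ} (h : (1 : Rₛ) ⊗ₜ[R] l = 0) :
    ∃ s ∈ S, s • l = 0 := by
  obtain ⟨s, hs⟩ := (IsLocalizedModule.eq_zero_iff S (TensorProduct.mk R Rₛ Λ 1)).1 h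
  exact ⟨s, s.2, hs⟩

/-- Clearing the denominators of a polynomial. -/
theorem exists_clear {n : ℕ} (q : MvPolynomial (Fin n) Rₛ) :
    ∃ s ∈ S, ∃ p : MvPolynomial (Fin n) R, MvPolynomial.map (algebraMap R Rₛ) p = C (algebraMap R Rₛ s) * q := by
  obtain ⟨⟨p, ⟨_, s, hs, rfl⟩⟩, h⟩ := IsLocalization.surj (S.map (C (σ := Fin n))) q
  refine ⟨s, hs, p, ?_⟩
  rw [mul_comm]
  have h' : q * MvPolynomial.map (algebraMap R Rₛ) (C s) = MvPolynomial.map (algebraMap R Rₛ) p := h
  rw [map_C] at h'
  exact h'.symm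

/-- Polynomials in an extended ideal. -/
theorem exists_mul_mem {n : ℕ} (J : Ideal (MvPolynomial (Fin n) R)) (p : MvPolynomial (Fin n) R)
    (h : MvPolynomial.map (algebraMap R Rₛ) p ∈ J.map (MvPolynomial.map (algebraMap R Rₛ))) :
    ∃ s ∈ S, C s * p ∈ J := by
  obtain ⟨_, ⟨s, hs, rfl⟩, hx⟩ :=
    (IsLocalization.algebraMap_mem_map_algebraMap_iff (S.map (C (σ := Fin n))) (MvPolynomial (Fin n) Rₛ) J p).1 h
  exact ⟨s, hs, hx⟩

theorem pderiv_scale {A : Type u} [CommRing A] {n : ℕ} (u : A) (l : Fin n) (p : MvPolynomial (Fin n) A) :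
    pderiv l (aeval (fun i => C u * X i) p) = C u * aeval (fun i => C u * X i) (pderiv l p) := by
  induction p using MvPolynomial.induction_on with
  | C a => simp
  | add p q hp hq => rw [map_add, map_add, hp, hq, map_add, map_add, mul_add]
  | mul_X p i hp =>
    rw [map_mul, aeval_X, pderiv_mul, hp, pderiv_C_mul, pderiv_mul, map_add, map_mul, map_mul, aeval_X]
    by_cases h : i = l
    · subst h; simp only [pderiv_X_self, map_one]; ring
    · simp only [pderiv_X_of_ne h, map_zero]; ring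

/-- Descent of a smooth factorization over a localization. -/
theorem delocalize_base {A Λ B' : Type u} [CommRing A] [Algebra R A] [Algebra.FinitePresentation R A]
    [CommRing Λ] [Algebra R Λ] (φ : A →ₐ[R] Λ) [CommRing B'] [Algebra Rₛ B'] [Algebra.Smooth Rₛ B']
    (g : Rₛ ⊗[R] A →ₐ[Rₛ] B') (h : B' →ₐ[Rₛ] Rₛ ⊗[R] Λ)
    (hgh : h.comp g = Algebra.TensorProduct.map (AlgHom.id Rₛ Rₛ) φ) :
    ∃ (B : Type u) (_ : CommRing B) (_ : Algebra R B) (α : A →ₐ[R] B) (β : B →ₐ[R] Λ),
      β.comp α = φ ∧ ∃ s ∈ S, IsElementaryStandard R B (algebraMap R B s) := by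
  classical
  -- replace by a standard smooth retract
  obtain ⟨C', i1, i2, i3, i4, -, ⟨ρ⟩, hstd⟩ := exists_standardSmooth_retract (R := Rₛ) (A := B')
  let g₁ : Rₛ ⊗[R] A →ₐ[Rₛ] C' := (IsScalarTower.toAlgHom Rₛ B' C').comp g
  let h₁ : C' →ₐ[Rₛ] Rₛ ⊗[R] Λ := h.comp (ρ.restrictScalars Rₛ)
  have hgh₁ : ∀ a : A, h₁ (g₁ ((1 : Rₛ) ⊗ₜ[R] a)) = (1 : Rₛ) ⊗ₜ[R] φ a := fun a => by
    change h (ρ (algebraMap B' C' (g _))) = _
    rw [AlgHom.commutes]
    exact AlgHom.congr_fun hgh ((1 : Rₛ) ⊗ₜ[R] a)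
  letI : Algebra R C' := ((algebraMap Rₛ C').comp (algebraMap R Rₛ)).toAlgebra
  haveI : IsScalarTower R Rₛ C' := IsScalarTower.of_algebraMap_eq fun _ => rfl
  -- presentations
  obtain ⟨k, π, hπ, hfg⟩ := Algebra.FinitePresentation.out (R := R) (A := A)
  obtain ⟨m, r, hr⟩ := Submodule.fg_iff_exists_fin_generating_family.1 hfg
  obtain ⟨ι, σ, hσ, hι, ⟨P0⟩⟩ := hstd.out
  let n := Nat.card ι
  let c := Nat.card σ
  let eι := Finite.equivFin ι
  let eσ := Finite.equivFin σ
  let emb : Fin c ↪ Fin n := ⟨eι ∘ P0.map ∘ eσ.symm, eι.injective.comp (P0.map_inj.comp eσ.symm.injective)⟩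
  have hcn : c ≤ n := by simpa using Fintype.card_le_of_embedding emb
  obtain ⟨τ, hτ⟩ := exists_perm_castLE hcn emb
  let P := P0.reindex (eι.trans τ.symm).symm eσ.symm
  have hmap : ∀ i, P.map i = Fin.castLE hcn i := fun i => by
    change τ.symm (eι (P0.map (eσ.symm i))) = _
    exact τ.symm_apply_eq.2 (hτ i).symm
  -- scale the variables
  let ξ : Fin n → Rₛ ⊗[R] Λ := fun l => h₁ (P.val l)
  choose sξ hsξ lξ hlξ using fun l => exists_smul_eq_tmul S (ξ l)
  let s₀ : R := ∏ l, sξ l
  have hs₀ : s₀ ∈ S := prod_mem fun l _ => hsξ l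
  let lam : Fin n → Λ := fun l => (∏ j ∈ Finset.univ.erase l, sξ j) • lξ l
  have hlamξ : ∀ l, s₀ • ξ l = (1 : Rₛ) ⊗ₜ[R] lam l := fun l => by
    rw [show s₀ = (∏ j ∈ Finset.univ.erase l, sξ j) * sξ l from (Finset.prod_erase_mul _ _ (Finset.mem_univ l)).symm,
      mul_smul, hlξ, TensorProduct.tmul_smul]
  have hu₀ : IsUnit (algebraMap R Rₛ s₀) := IsLocalization.map_units Rₛ (⟨s₀, hs₀⟩ : S)
  let u : Rₛ := ↑hu₀.unit⁻¹
  let val : Fin n → C' := fun l => algebraMap R Rₛ s₀ • P.val l
  let ε : MvPolynomial (Fin n) Rₛ →ₐ[Rₛ] MvPolynomial (Fin n) Rₛ := aeval fun l => C u * X l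
  let η : MvPolynomial (Fin n) Rₛ →ₐ[Rₛ] MvPolynomial (Fin n) Rₛ := aeval fun l => C (algebraMap R Rₛ s₀) * X l
  have hεη : ∀ p, ε (η p) = p := by
    have : ε.comp η = AlgHom.id _ _ := MvPolynomial.algHom_ext fun l => by
      simp only [AlgHom.comp_apply, η, ε, aeval_X, map_mul, aeval_C, MvPolynomial.algebraMap_eq, ← mul_assoc,
        AlgHom.id_apply, ← MvPolynomial.C_mul, u, IsUnit.mul_val_inv, map_one, one_mul]
    exact fun p => AlgHom.congr_fun this p
  have hval : ∀ p, aeval val (ε p) = aeval P.val p := by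
    have : (aeval val).comp ε = aeval P.val := MvPolynomial.algHom_ext fun l => by
      simp only [AlgHom.comp_apply, ε, val, u, aeval_X, map_mul, aeval_C, Algebra.smul_def]
      rw [← mul_assoc, ← map_mul, IsUnit.val_inv_mul, map_one, one_mul]
    exact fun p => AlgHom.congr_fun this p
  have hη : ∀ p, aeval P.val (η p) = aeval val p := by
    have : (aeval P.val).comp η = aeval val := MvPolynomial.algHom_ext fun l => by
      simp [η, val, Algebra.smul_def]
    exact fun p => AlgHom.congr_fun this p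
  -- clear denominators
  let ν : MvPolynomial (Fin n) R →ₐ[R] C' := aeval val
  have hν : ∀ p, ν p = aeval val (MvPolynomial.map (algebraMap R Rₛ) p) := fun p =>
    (MvPolynomial.aeval_map_algebraMap Rₛ val p).symm
  let γ : MvPolynomial (Fin k) R →ₐ[R] C' :=
    ((g₁.restrictScalars R).comp Algebra.TensorProduct.includeRight).comp π
  choose sF hsF pF hpF using fun i => exists_clear S (ε (P.relation i))
  choose sG hsG pG hpG using fun q => exists_clear S (ε (P.σ (γ (X q))))
  have h1val : ∀ p : MvPolynomial (Fin n) R,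
      (1 : Rₛ) ⊗ₜ[R] (aeval lam p) = h₁ (ν p) := by
    have : (Algebra.TensorProduct.includeRight : Λ →ₐ[R] Rₛ ⊗[R] Λ).comp (aeval lam) =
        (h₁.restrictScalars R).comp ν := MvPolynomial.algHom_ext fun l => by
      simp only [AlgHom.comp_apply, aeval_X, ν, val, AlgHom.restrictScalars_apply, map_smul,
        Algebra.TensorProduct.includeRight_apply, algebraMap_smul]
      exact (hlamξ l).symm
    exact fun p => AlgHom.congr_fun this p
  have hνF : ∀ i, ν (pF i) = 0 := fun i => by
    rw [hν, hpF, map_mul, hval, P.aeval_val_relation, mul_zero]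
  have hνG : ∀ q, ν (pG q) = sG q • γ (X q) := fun q => by
    rw [hν, hpG, map_mul, hval, P.aeval_val_σ, aeval_C, Algebra.smul_def, ← IsScalarTower.algebraMap_apply]
  choose sF' hsF' hF' using fun i => exists_smul_eq_zero S (Rₛ := Rₛ) (l := aeval lam (pF i)) (by
    rw [h1val, hνF, map_zero])
  choose sG' hsG' hG' using fun q => exists_smul_eq_zero S (Rₛ := Rₛ)
      (l := sG q • φ (π (X q)) - aeval lam (pG q)) (by
    rw [TensorProduct.tmul_sub, TensorProduct.tmul_smul, h1val, hνG, ← hgh₁, sub_eq_zero]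
    exact (map_smul (h₁.restrictScalars R) (sG q) (γ (X q))).symm)
  let f : Fin c → MvPolynomial (Fin n) R := fun i => C (sF' i) * pF i
  have hmapf : ∀ i, MvPolynomial.map (algebraMap R Rₛ) (f i) = C (algebraMap R Rₛ (sF' i * sF i)) * ε (P.relation i) :=
    fun i => by rw [map_mul, map_C, hpF, map_mul (algebraMap R Rₛ), map_mul C, mul_assoc]
  refine standard_of_data S π hπ r hr.symm φ hcn f ν γ (fun x hx => ?_) (fun b => ?_) (fun p hp => ?_) ?_
    (fun q => sG' q * sG q) (fun q => S.mul_mem (hsG' q) (hsG q)) (fun q => C (sG' q) * pG q) (fun q => ?_) lam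
    (fun i => ?_) (fun q => ?_)
  · change g₁ ((1 : Rₛ) ⊗ₜ[R] π x) = 0
    rw [hx, TensorProduct.tmul_zero, map_zero]
  · obtain ⟨s, hs, p, hp⟩ := exists_clear S (ε (P.σ b))
    refine ⟨s, hs, p, ?_⟩
    rw [hν, hp, map_mul, hval, P.aeval_val_σ, aeval_C, Algebra.smul_def, ← IsScalarTower.algebraMap_apply]
  · refine exists_mul_mem S (Rₛ := Rₛ) _ p ?_
    have h1 : η (MvPolynomial.map (algebraMap R Rₛ) p) ∈ Ideal.span (Set.range P.relation) := by
      rw [P.span_range_relation_eq_ker, Algebra.Generators.ker_eq_ker_aeval_val, RingHom.mem_ker, hη, ← hν, hp]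
    have h2 := Ideal.mem_map_of_mem ε.toRingHom h1
    rw [Ideal.map_span, ← Set.range_comp] at h2
    change ε (η _) ∈ _ at h2
    rw [hεη] at h2
    refine Ideal.span_le.2 ?_ h2
    rintro _ ⟨i, rfl⟩
    rw [Ideal.map_span, ← Set.range_comp]
    have hu : IsUnit (C (algebraMap R Rₛ (sF' i * sF i)) : MvPolynomial (Fin n) Rₛ) :=
      (IsLocalization.map_units Rₛ (⟨_, S.mul_mem (hsF' i) (hsF i)⟩ : S)).map C
    refine (Ideal.unit_mul_mem_iff_mem _ hu).1 ?_
    exact Ideal.subset_span ⟨i, hmapf i⟩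
  · rw [hν, RingHom.map_det, AlgHom.map_det]
    have hentry : (aeval val).toRingHom.mapMatrix ((MvPolynomial.map (algebraMap R Rₛ)).mapMatrix
        (Matrix.of fun i j : Fin c => pderiv (Fin.castLE hcn j) (f i))) =
        Matrix.diagonal (fun i => algebraMap Rₛ C' (algebraMap R Rₛ (sF' i * sF i) * u)) *
          (aeval P.val).toRingHom.mapMatrix
            (Matrix.of fun i j : Fin c => pderiv (P.map j) (P.relation i)) := by
      refine Matrix.ext fun i j => ?_
      rw [Matrix.diagonal_mul]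
      simp only [RingHom.mapMatrix_apply, Matrix.map_apply, Matrix.of_apply, AlgHom.toRingHom_eq_coe, RingHom.coe_coe]
      rw [← MvPolynomial.pderiv_map, hmapf, pderiv_C_mul, pderiv_scale, hmap]
      simp only [map_mul, aeval_C, ε, ← hval]
      ring
    refine (congrArg IsUnit (congrArg Matrix.det hentry)).mpr ?_
    rw [Matrix.det_mul, Matrix.det_diagonal]
    refine IsUnit.mul (IsUnit.prod_univ_iff.2 fun i =>
      ((IsLocalization.map_units Rₛ (⟨_, S.mul_mem (hsF' i) (hsF i)⟩ : S)).mul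
        (Units.isUnit hu₀.unit⁻¹)).map (algebraMap Rₛ C')) ?_
    have hj := P.jacobian_isUnit
    rw [Algebra.PreSubmersivePresentation.jacobian_eq_jacobiMatrix_det, Algebra.Generators.algebraMap_apply,
      AlgHom.map_det] at hj
    rw [← Matrix.det_transpose]
    convert hj using 2
    refine Matrix.ext fun i j => ?_
    simp [Algebra.PreSubmersivePresentation.jacobiMatrix_apply]
  · rw [map_mul, hνG, ← MvPolynomial.algebraMap_eq, AlgHom.commutes, mul_smul, Algebra.smul_def (sG' q)]
  · rw [map_mul, aeval_C, ← Algebra.smul_def, hF']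
  · have h0 := hG' q
    rw [smul_sub, sub_eq_zero] at h0
    rw [map_mul, aeval_C, ← Algebra.smul_def, ← h0, mul_smul]

end localized

end Groth.Agent.SmoothingLib
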