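import Groth.Agent.SmoothingLib.InsepGlobal
import Groth.Agent.SmoothingLib.Singular
import Groth.Agent.SmoothingLib.DesingMod
import Groth.Agent.RegDesc.Basic
import Groth.Agent.ExcLib.Transfer
import Groth.Agent.S2029

/-! Popescu's theorem. -/

set_option autoImplicit false
set_option maxSynthPendingDepth 5
universe u

noncomputable section

namespace Groth.Agent.SmoothingLib

open MvPolynomial IsLocalRing TensorProduct Smoothing

/-- A strictly standard element stays strictly standard after multiplication. -/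
theorem isStrictlyStandard_mul {R A : Type u} [CommRing R] [CommRing A] [Algebra R A] {a : A} (b : A)
    (h : IsStrictlyStandard R A a) : IsStrictlyStandard R A (b * a) := by
  obtain ⟨P, hmem, hkill⟩ := h
  refine ⟨P, Ideal.mul_mem_left _ _ hmem, fun a' ha' j hj => ?_⟩
  obtain ⟨a1, ha1⟩ := P.surj a
  obtain ⟨b1, hb1⟩ := P.surj b
  have hd : a' - b1 * a1 ∈ Ideal.span (Set.range P.rel) := by
    rw [← P.ker_eq, RingHom.mem_ker]
    change P.hom (a' - b1 * a1) = 0
    rw [map_sub, map_mul, ha', ha1, hb1, sub_self]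
  rw [show a' * P.rel j = (a' - b1 * a1) * P.rel j + b1 * (a1 * P.rel j) by ring]
  refine add_mem (Submodule.mem_sup_right ?_) (Ideal.mul_mem_left _ _ (hkill a1 ha1 j hj))
  rw [pow_two]
  exact Ideal.mul_mem_mul hd (Ideal.subset_span ⟨j, rfl⟩)

/-- An algebra with a strictly standard element is finitely presented. -/
theorem finitePresentation_of_isStrictlyStandard {R A : Type u} [CommRing R] [CommRing A] [Algebra R A] {a : A}
    (h : IsStrictlyStandard R A a) : Algebra.FinitePresentation R A := by
  obtain ⟨P, -, -⟩ := h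
  refine Algebra.FinitePresentation.of_surjective (f := P.hom) P.surj ?_
  change (RingHom.ker P.hom.toRingHom).FG
  rw [P.ker_eq]
  exact Submodule.fg_span (Set.finite_range _)

/-- When the singular ideal generates the unit ideal, the map factors through a smooth algebra. -/
theorem exists_smooth_of_singRad_eq_top {R A Λ : Type u} [CommRing R] [IsNoetherianRing R] [CommRing A] [Algebra R A]
    [Algebra.FinitePresentation R A] [CommRing Λ] [Algebra R Λ] (φ : A →ₐ[R] Λ) (h : singRad R φ = ⊤) :
    ∃ (B : Type u) (_ : CommRing B) (_ : Algebra R B), Algebra.Smooth R B ∧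
      ∃ (g : A →ₐ[R] B) (hB : B →ₐ[R] Λ), hB.comp g = φ := by
  haveI : IsNoetherianRing A := Algebra.FiniteType.isNoetherianRing R A
  obtain ⟨t, a, ha⟩ := Submodule.fg_iff_exists_fin_generating_family.1 (IsNoetherian.noetherian (singularIdeal R A))
  have hI : (singularIdeal R A).map φ = Ideal.span (Set.range (φ ∘ a)) := by
    rw [← ha, Ideal.map_span, ← Set.range_comp]
  have h1 : (1 : Λ) ∈ Ideal.span (Set.range (φ ∘ a)) := by
    rw [← hI, Ideal.radical_eq_top.1 h]
    trivial
  obtain ⟨lam, hlam⟩ := Ideal.mem_span_range_iff_exists_fun.1 h1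
  have hamem : ∀ j, a j ∈ singularIdeal R A := fun j => by rw [← ha]; exact Submodule.subset_span ⟨j, rfl⟩
  have hsma : ∀ j, Algebra.Smooth R (Localization.Away (a j)) := fun j =>
    Algebra.basicOpen_subset_smoothLocus_iff_smooth.1 fun Q hQ => by
      by_contra hns
      have h := hamem j
      rw [singularIdeal, PrimeSpectrum.mem_vanishingIdeal] at h
      exact hQ (h Q hns)
  obtain ⟨A', _, _, _, _, hA', ι, -, hsmX, U, -, huniv⟩ := exists_param_univ (d := 1) a 1 hsma
  let one' : MvPolynomial (Fin 1) R →ₐ[R] R := aeval fun _ => (1 : R)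
  letI : Algebra (MvPolynomial (Fin 1) R) R := one'.toRingHom.toAlgebra
  letI : Algebra (MvPolynomial (Fin 1) R) Λ := ((algebraMap R Λ).comp one'.toRingHom).toAlgebra
  haveI : IsScalarTower (MvPolynomial (Fin 1) R) R Λ := IsScalarTower.of_algebraMap_eq fun _ => rfl
  haveI : IsScalarTower R (MvPolynomial (Fin 1) R) Λ := IsScalarTower.of_algebraMap_eq fun x => by
    change algebraMap R Λ x = algebraMap R Λ (one' (algebraMap R _ x))
    rw [one'.commutes]
    rfl
  have hX : algebraMap (MvPolynomial (Fin 1) R) R (X 0) = 1 := aeval_X _ _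
  obtain ⟨φ', hφ', -⟩ := huniv Λ φ (fun _ => lam) (fun i => by
    rw [IsScalarTower.algebraMap_apply (MvPolynomial (Fin 1) R) R Λ, Subsingleton.elim i 0, hX, map_one, one_pow,
      ← hlam]
    exact Finset.sum_congr rfl fun j _ => mul_comm _ _)
  let B := R ⊗[MvPolynomial (Fin 1) R] A'
  haveI hsmB : Algebra.Smooth R B := by
    haveI := hsmX 0
    haveI := Insep.smooth_away_baseChange (R := MvPolynomial (Fin 1) R) (R' := R)
      (algebraMap (MvPolynomial (Fin 1) R) A' (X 0))
    have hu : IsUnit ((1 : R) ⊗ₜ[MvPolynomial (Fin 1) R] algebraMap (MvPolynomial (Fin 1) R) A' (X 0)) := by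
      rw [← Algebra.TensorProduct.tmul_one_eq_one_tmul, hX]
      exact isUnit_one
    exact Algebra.Smooth.of_equiv ((IsLocalization.atUnit B
      (Localization.Away ((1 : R) ⊗ₜ[MvPolynomial (Fin 1) R] algebraMap (MvPolynomial (Fin 1) R) A' (X 0))) _ hu).restrictScalars R).symm
  let g : A →ₐ[R] B :=
    { toRingHom := (Algebra.TensorProduct.includeRight : A' →ₐ[MvPolynomial (Fin 1) R] B).toRingHom.comp ι.toRingHom
      commutes' := fun x => by
        change (Algebra.TensorProduct.includeRight : A' →ₐ[MvPolynomial (Fin 1) R] B) (ι (algebraMap R A x)) = _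
        rw [ι.commutes, IsScalarTower.algebraMap_apply R (MvPolynomial (Fin 1) R) A', AlgHom.commutes,
          IsScalarTower.algebraMap_apply (MvPolynomial (Fin 1) R) R B]
        congr 1
        exact one'.commutes x }
  refine ⟨B, inferInstance, inferInstance, hsmB, g,
    Algebra.TensorProduct.lift (Algebra.ofId R Λ) φ' (fun _ _ => Commute.all _ _), AlgHom.ext fun x => ?_⟩
  change algebraMap R Λ 1 * φ' (ι x) = φ x
  rw [map_one, one_mul, hφ']

/-- Resolvability everywhere implies ind-smoothness. -/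
theorem indSmooth_of_resolvable {R Λ : Type u} [CommRing R] [IsNoetherianRing R] [CommRing Λ] [Algebra R Λ]
    [IsNoetherianRing Λ]
    (h : ∀ (A : Type u) [CommRing A] [Algebra R A], Algebra.FinitePresentation R A → ∀ (φ : A →ₐ[R] Λ)
      (𝔮 : Ideal Λ) [𝔮.IsPrime], 𝔮 ∈ (singRad R φ).minimalPrimes → Resolvable R φ 𝔮) : IndSmooth R Λ := by
  have key : ∀ I : Ideal Λ, ∀ (A : Type u) [CommRing A] [Algebra R A] [Algebra.FinitePresentation R A]
      (φ : A →ₐ[R] Λ), singRad R φ = I →
      ∃ (B : Type u) (_ : CommRing B) (_ : Algebra R B), Algebra.Smooth R B ∧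
        ∃ (g : A →ₐ[R] B) (hB : B →ₐ[R] Λ), hB.comp g = φ := by
    intro I
    induction I using IsNoetherian.induction with
    | _ I ih =>
      intro A _ _ hA φ hI
      by_cases htop : I = ⊤
      · exact exists_smooth_of_singRad_eq_top φ (hI.trans htop)
      obtain ⟨𝔮, hq⟩ := Ideal.nonempty_minimalPrimes htop
      haveI := hq.1.1
      rw [← hI] at hq
      obtain ⟨B, _, _, hB, g, hh, hgh, hle, hnle⟩ := h A hA φ 𝔮 hq
      haveI := hB
      obtain ⟨C, _, _, hC, g', hC', hgh'⟩ := ih (singRad R hh) (lt_of_le_not_ge (hI ▸ hle)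
        (fun hle' => hnle (hle'.trans (hI ▸ hq.1.2)))) B hh rfl
      refine ⟨C, inferInstance, inferInstance, hC, g'.comp g, hC', ?_⟩
      rw [← AlgHom.comp_assoc, hgh', hgh]
  intro A _ _ hA f
  haveI := hA
  exact key _ A f rfl

/-- The case of a base field. -/
theorem indSmooth_of_geometricallyRegular {k Λ : Type u} [Field k] [CommRing Λ] [Algebra k Λ] [IsNoetherianRing Λ]
    (h : CAlg.IsGeometricallyRegular k Λ) : IndSmooth k Λ := by
  refine indSmooth_of_resolvable fun A _ _ hA φ 𝔮 _ hmin => ?_
  haveI := hA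
  obtain ⟨p, hp⟩ := CharP.exists k
  rcases CharP.char_is_prime_or_zero k p with hpr | rfl
  · haveI := Fact.mk hpr
    exact Insep.resolvable_inseparable p h φ 𝔮 hmin
  · haveI : CharZero k := CharP.charP_to_charZero k
    haveI : PerfectField k := PerfectField.ofCharZero
    haveI : IsNoetherianRing (Localization.AtPrime 𝔮) := IsLocalization.isNoetherianRing 𝔮.primeCompl _ inferInstance
    haveI : IsRegularLocalRing (Localization.AtPrime 𝔮) := (S2471.result.1
      (AdicFS.adic_iff_geometricallyRegular.2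
        (AdicFS.geometricallyRegular_localization h 𝔮.primeCompl (Localization.AtPrime 𝔮)))).1
    haveI : Algebra.IsGeometricallyReduced k 𝔮.ResidueField := FieldExtLib.isGeometricallyReduced_of_perfectField
    exact resolvable_regular φ 𝔮 hmin

/-- The step from the quotient by a power of a parameter. -/
theorem exists_smooth_of_standard {R A Λ : Type u} [CommRing R] [IsNoetherianRing R] [CommRing A] [Algebra R A]
    [Algebra.FinitePresentation R A] [CommRing Λ] [Algebra R Λ] (π : R)
    (hR : ∀ r : R, π ^ 2 * r = 0 → π * r = 0) (hΛ : ∀ x : Λ, π ^ 2 • x = 0 → π • x = 0) (φ : A →ₐ[R] Λ)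
    (hπ : IsStrictlyStandard R A (algebraMap R A π))
    (hind : IndSmooth (R ⧸ Ideal.span {π ^ 8}) (Λ ⧸ (Ideal.span {π ^ 8}).map (algebraMap R Λ))) :
    ∃ (B : Type u) (_ : CommRing B) (_ : Algebra R B), Algebra.Smooth R B ∧
      ∃ (g : A →ₐ[R] B) (hB : B →ₐ[R] Λ), hB.comp g = φ := by
  let J : Ideal R := Ideal.span {π ^ 8}
  have hJΛ : J.map (algebraMap R Λ) = Ideal.span {algebraMap R Λ (π ^ 8)} := by
    rw [Ideal.map_span, Set.image_singleton]
  let e : (Λ ⧸ J.map (algebraMap R Λ)) ≃ₐ[R] Λ ⧸ Ideal.span {algebraMap R Λ (π ^ 8)} :=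
    Ideal.quotientEquivAlgOfEq R hJΛ
  haveI : IsNoetherianRing A := Algebra.FiniteType.isNoetherianRing R A
  haveI : Algebra.FinitePresentation R (A ⧸ J.map (algebraMap R A)) :=
    Algebra.FinitePresentation.quotient (IsNoetherian.noetherian _)
  haveI : Algebra.FinitePresentation (R ⧸ J) (A ⧸ J.map (algebraMap R A)) :=
    Algebra.FinitePresentation.of_restrict_scalars_finitePresentation R _ _
  obtain ⟨C, _, _, hC, g, hh, hgh⟩ := hind (A ⧸ J.map (algebraMap R A)) inferInstance (quotMap φ J)
  haveI := hC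
  letI : Algebra R C := Algebra.compHom C (algebraMap R (R ⧸ J))
  haveI : IsScalarTower R (R ⧸ J) C := IsScalarTower.of_algebraMap_eq fun _ => rfl
  obtain ⟨B, _, _, hB, α, β, hαβ, hsm, hincl⟩ := desingularize_mod π hR hΛ φ hπ
    ((g.restrictScalars R).comp (Ideal.Quotient.mkₐ R (J.map (algebraMap R A))))
    (e.toAlgHom.comp (hh.restrictScalars R)) (fun a => by
      change e (hh (g (Ideal.Quotient.mk _ a))) = _
      rw [show hh (g (Ideal.Quotient.mk _ a)) = quotMap φ J (Ideal.Quotient.mk _ a) from AlgHom.congr_fun hgh _]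
      rfl)
  haveI := hB
  have htop : singRad R β = ⊤ := by
    have h1 : (singularIdeal (R ⧸ J) C) = ⊤ := by
      rw [singularIdeal, Algebra.smoothLocus_eq_univ, Set.compl_univ, PrimeSpectrum.vanishingIdeal_empty]
    rw [h1, Ideal.map_top, top_le_iff] at hincl
    have h2 := congrArg (Ideal.comap (Ideal.Quotient.mk (Ideal.span {algebraMap R Λ (π ^ 8)}))) hincl
    rw [Ideal.comap_map_of_surjective _ Ideal.Quotient.mk_surjective, ← RingHom.ker_eq_comap_bot, Ideal.mk_ker,
      Ideal.comap_top, sup_eq_left.2] at h2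
    · exact h2
    · rw [Ideal.span_singleton_le_iff_mem, map_pow]
      refine Ideal.pow_mem_of_mem _ (Ideal.le_radical ?_) 8 (by norm_num)
      rw [← β.commutes]
      refine Ideal.mem_map_of_mem _ ?_
      rw [singularIdeal, PrimeSpectrum.mem_vanishingIdeal]
      intro Q hQ
      by_contra hπQ
      exact hQ (hsm Q.asIdeal hπQ)
  obtain ⟨B', _, _, hB', g', hB'', hg'⟩ := exists_smooth_of_singRad_eq_top β htop
  refine ⟨B', inferInstance, inferInstance, hB', g'.comp α, hB'', ?_⟩
  rw [← AlgHom.comp_assoc, hg', hαβ]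

set_option maxHeartbeats 800000 in
/-- Popescu's theorem. -/
theorem indSmooth_of_isRegularHom {R Λ : Type u} [CommRing R] [IsNoetherianRing R] [CommRing Λ]
    [IsNoetherianRing Λ] [Algebra R Λ] (hreg : CAlg.IsRegularHom R Λ) : IndSmooth R Λ := by
  classical
  have key : ∀ I : Ideal R, IndSmooth (R ⧸ I) (Λ ⧸ Ideal.map (algebraMap R Λ) I) := by
    intro I
    induction I using IsNoetherian.induction with
    | _ I ih =>
      let eT : (R ⧸ I) ⊗[R] Λ ≃+* Λ ⧸ Ideal.map (algebraMap R Λ) I :=
        ((Algebra.TensorProduct.comm R (R ⧸ I) Λ).trans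
          ((Algebra.TensorProduct.quotIdealMapEquivTensorQuot Λ I).symm.restrictScalars R)).toRingEquiv
      haveI : IsNoetherianRing ((R ⧸ I) ⊗[R] Λ) := isNoetherianRing_of_ringEquiv _ eT.symm
      have hregI : CAlg.IsRegularHom (R ⧸ I) (Λ ⧸ Ideal.map (algebraMap R Λ) I) := by
        refine ExcLib.isRegularHom_of_ringEquiv (RingEquiv.refl (R ⧸ I)) eT (fun x => ?_)
          (RegDesc.isRegularHom_baseChange R Λ (R ⧸ I) hreg)
        obtain ⟨x, rfl⟩ := Ideal.Quotient.mk_surjective x
        simp only [RingEquiv.refl_apply]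
        change eT (algebraMap R (R ⧸ I) x ⊗ₜ[R] (1 : Λ)) = _
        rw [Algebra.TensorProduct.tmul_one_eq_one_tmul]
        simp [eT]
        rw [AlgEquiv.symm_apply_eq]
        exact (Algebra.TensorProduct.quotIdealMapEquivTensorQuot_mk Λ I (algebraMap R Λ x)).symm
      haveI := hregI.1
      -- the inductive hypothesis for quotients
      have ih' : ∀ K : Ideal (R ⧸ I), K ≠ ⊥ →
          IndSmooth ((R ⧸ I) ⧸ K) ((Λ ⧸ Ideal.map (algebraMap R Λ) I) ⧸ K.map (algebraMap (R ⧸ I) (Λ ⧸ Ideal.map (algebraMap R Λ) I))) := by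
        intro K hK
        let J : Ideal R := K.comap (Ideal.Quotient.mk I)
        have hIJ : I ≤ J := fun x hx => by
          rw [Ideal.mem_comap, Ideal.Quotient.eq_zero_iff_mem.2 hx]; exact zero_mem _
        have hlt : I < J := lt_of_le_not_ge hIJ fun hle => hK (eq_bot_iff.2 fun x hx => by
          obtain ⟨x, rfl⟩ := Ideal.Quotient.mk_surjective x
          exact Ideal.Quotient.eq_zero_iff_mem.2 (hle hx))
        have hKJ : J.map (Ideal.Quotient.mk I) = K := Ideal.map_comap_of_surjective _ Ideal.Quotient.mk_surjective K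
        let e : R ⧸ J →+* (R ⧸ I) ⧸ K := Ideal.quotientMap K (Ideal.Quotient.mk I) le_rfl
        have he : Function.Bijective e := ⟨Ideal.quotientMap_injective,
          Ideal.quotientMap_surjective Ideal.Quotient.mk_surjective⟩
        have hmapK : K.map (algebraMap (R ⧸ I) (Λ ⧸ Ideal.map (algebraMap R Λ) I)) =
            (J.map (algebraMap R Λ)).map (Ideal.Quotient.mk (Ideal.map (algebraMap R Λ) I)) := by
          rw [← hKJ, Ideal.map_map, Ideal.map_map]
          rfl
        have hle : J.map (algebraMap R Λ) ≤ (K.map (algebraMap (R ⧸ I) (Λ ⧸ Ideal.map (algebraMap R Λ) I))).comap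
            (Ideal.Quotient.mk (Ideal.map (algebraMap R Λ) I)) := hmapK ▸ Ideal.le_comap_map
        let ε : Λ ⧸ J.map (algebraMap R Λ) →+* (Λ ⧸ Ideal.map (algebraMap R Λ) I) ⧸ K.map (algebraMap (R ⧸ I) (Λ ⧸ Ideal.map (algebraMap R Λ) I)) :=
          Ideal.quotientMap _ (Ideal.Quotient.mk (Ideal.map (algebraMap R Λ) I)) hle
        have hε : Function.Bijective ε := ⟨Ideal.quotientMap_injective' (by
            rw [hmapK, Ideal.comap_map_of_surjective _ Ideal.Quotient.mk_surjective, ← RingHom.ker_eq_comap_bot,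
              Ideal.mk_ker, sup_eq_left.2 (Ideal.map_mono hIJ)]),
          Ideal.quotientMap_surjective Ideal.Quotient.mk_surjective⟩
        exact indSmooth_transfer e he (RingEquiv.ofBijective ε hε)
          (fun x => by obtain ⟨x, rfl⟩ := Ideal.Quotient.mk_surjective x; rfl) (ih J hlt)
      by_cases hItop : I = ⊤
      · intro A _ _ hA f
        haveI := hA
        subst hItop
        refine exists_smooth_of_singRad_eq_top f ?_
        have : Subsingleton (Λ ⧸ (⊤ : Ideal R).map (algebraMap R Λ)) :=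
          Ideal.Quotient.subsingleton_iff.2 (Ideal.map_top _)
        exact Subsingleton.elim _ _
      haveI : Nontrivial (R ⧸ I) := Ideal.Quotient.nontrivial_iff.2 hItop
      by_cases hN : nilradical (R ⧸ I) = ⊥
      swap
      · exact S2022.result (nilradical (R ⧸ I))
          (IsNoetherianRing.isNilpotent_nilradical _) (ih' _ hN)
      haveI : IsReduced (R ⧸ I) := ⟨fun x hx => by
        have : x ∈ nilradical (R ⧸ I) := hx
        rwa [hN] at this⟩
      intro A _ _ hA f
      haveI := hA
      obtain ⟨p, hp⟩ := Ideal.nonempty_minimalPrimes (I := (⊥ : Ideal (R ⧸ I))) bot_ne_top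
      haveI := hp.1.1
      have hfield : IsField (Localization.AtPrime p) := by
        haveI : Subsingleton (PrimeSpectrum (Localization.AtPrime p)) :=
          IsLocalization.subsingleton_primeSpectrum_of_mem_minimalPrimes p hp _
        rw [isField_iff_maximalIdeal_eq, eq_bot_iff, ← Ideal.zero_eq_bot, ← nilradical_eq_zero (Localization.AtPrime p), nilradical_eq_sInf]
        refine le_sInf fun Q (hQ : Q.IsPrime) => le_of_eq ?_
        exact congrArg PrimeSpectrum.asIdeal
          (Subsingleton.elim (IsLocalRing.closedPoint (Localization.AtPrime p)) ⟨Q, hQ⟩)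
      letI := hfield.toField
      haveI : IsLocalization p.primeCompl p.ResidueField := by
        refine IsLocalization.isLocalization_of_algEquiv p.primeCompl (AlgEquiv.ofBijective
          (IsScalarTower.toAlgHom (R ⧸ I) (Localization.AtPrime p) p.ResidueField) ⟨?_, residue_surjective⟩)
        exact RingHom.injective (algebraMap (Localization.AtPrime p) p.ResidueField)
      obtain ⟨hnoeth, hgeo⟩ := hregI.2 p
      haveI := hnoeth
      have hindK := indSmooth_of_geometricallyRegular hgeo
      obtain ⟨B', _, _, hB', g, h, hgh⟩ := hindK (p.ResidueField ⊗[R ⧸ I] A) inferInstance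
        (Algebra.TensorProduct.map (AlgHom.id p.ResidueField p.ResidueField) f)
      haveI := hB'
      obtain ⟨B, _, _, α, β, hαβ, s, hs, hstd⟩ := S2029.result f p.primeCompl g h hgh
      have hstd' := IsElementaryStandard.isStrictlyStandard hstd
      haveI := finitePresentation_of_isStrictlyStandard hstd'
      obtain ⟨M, hM⟩ := exists_stable_pow (⊥ : Ideal (R ⧸ I)) s
      let π := s ^ (M + 1)
      have hR2 : ∀ r : R ⧸ I, π ^ 2 * r = 0 → π * r = 0 := fun r hr =>
        (Submodule.mem_bot _).1 (hM (M + 1) (Nat.le_succ M) r ((Submodule.mem_bot _).2 hr))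
      have hΛ2 : ∀ x : Λ ⧸ Ideal.map (algebraMap R Λ) I, π ^ 2 • x = 0 → π • x = 0 := by
        let f2 : (R ⧸ I) →ₗ[R ⧸ I] R ⧸ I := LinearMap.lsmul (R ⧸ I) (R ⧸ I) (π ^ 2)
        let N := LinearMap.ker f2
        intro x hx
        have hex := Module.Flat.rTensor_exact (Λ ⧸ Ideal.map (algebraMap R Λ) I) (LinearMap.exact_subtype_ker_map f2)
        have h0 : f2.rTensor (Λ ⧸ Ideal.map (algebraMap R Λ) I) ((1 : R ⧸ I) ⊗ₜ x) = 0 := by
          rw [LinearMap.rTensor_tmul, LinearMap.lsmul_apply, ← TensorProduct.smul_tmul', ← TensorProduct.tmul_smul, hx,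
            TensorProduct.tmul_zero]
        obtain ⟨z, hz⟩ := (hex _).1 h0
        have h1 : π • ((1 : R ⧸ I) ⊗ₜ[R ⧸ I] x) = 0 := by
          rw [← hz, ← map_smul]
          suffices hz0 : ∀ z, (N.subtype.rTensor (Λ ⧸ Ideal.map (algebraMap R Λ) I)) (π • z) = 0 from hz0 z
          intro z
          induction z using TensorProduct.induction_on with
          | zero => rw [smul_zero, map_zero]
          | tmul n y =>
            rw [TensorProduct.smul_tmul', LinearMap.rTensor_tmul]
            change (π * (n : R ⧸ I)) ⊗ₜ y = 0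
            rw [hR2 _ n.2, TensorProduct.zero_tmul]
          | add y z hy hz => rw [smul_add, map_add, hy, hz, add_zero]
        have h2 := congrArg (TensorProduct.lid (R ⧸ I) (Λ ⧸ Ideal.map (algebraMap R Λ) I)) h1
        rwa [map_smul, TensorProduct.lid_tmul, one_smul, map_zero] at h2
      have hK : Ideal.span {π ^ 8} ≠ ⊥ := fun h0 => by
        rw [Ideal.span_singleton_eq_bot] at h0
        exact hs (Ideal.IsPrime.mem_of_pow_mem inferInstance ((M + 1) * 8) (by rw [pow_mul]; exact h0 ▸ p.zero_mem))
      have hπstd : IsStrictlyStandard (R ⧸ I) B (algebraMap (R ⧸ I) B π) := by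
        rw [map_pow, pow_succ]
        exact isStrictlyStandard_mul _ hstd'
      obtain ⟨C, _, _, hC, g', hC', hg'⟩ := exists_smooth_of_standard π hR2 hΛ2 β hπstd (ih' _ hK)
      refine ⟨C, inferInstance, inferInstance, hC, g'.comp α, hC', ?_⟩
      rw [← AlgHom.comp_assoc, hg', hαβ]
  have hbij : Function.Bijective (Ideal.Quotient.mk (⊥ : Ideal R)) :=
    ⟨fun x y h => sub_eq_zero.1 (by simpa using Ideal.Quotient.eq.1 h), Ideal.Quotient.mk_surjective⟩
  refine indSmooth_transfer (RingEquiv.ofBijective _ hbij).symm.toRingHom (RingEquiv.ofBijective _ hbij).symm.bijective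
    ((Ideal.quotEquivOfEq (Ideal.map_bot (f := algebraMap R Λ))).trans (RingEquiv.quotientBot Λ)) (fun x => ?_) (key ⊥)
  obtain ⟨x, rfl⟩ := Ideal.Quotient.mk_surjective x
  rw [show (RingEquiv.ofBijective _ hbij).symm.toRingHom (Ideal.Quotient.mk ⊥ x) = x from
    (RingEquiv.ofBijective _ hbij).symm_apply_apply x]
  rfl

end Groth.Agent.SmoothingLib
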