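import Groth.Agent.SmoothingLib.InsepLocal
import Groth.Agent.AdicFS.SepBase
import Groth.Agent.RegHomLib.Geometric

/-! Resolution at a prime in the inseparable case. -/

set_option autoImplicit false
set_option maxSynthPendingDepth 5
universe u

noncomputable section

namespace Groth.Agent.SmoothingLib.Insep

open MvPolynomial IsLocalRing TensorProduct Smoothing

/-- Smoothness of a basic open is stable under base change. -/
theorem smooth_away_baseChange {R R' A : Type u} [CommRing R] [CommRing R'] [CommRing A] [Algebra R R'] [Algebra R A]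
    (a : A) [Algebra.Smooth R (Localization.Away a)] :
    Algebra.Smooth R' (Localization.Away ((1 : R') ⊗ₜ[R] a)) := by
  letI : Algebra A (R' ⊗[R] A) := Algebra.TensorProduct.rightAlgebra
  letI : Algebra (R' ⊗[R] A) (R' ⊗[R] Localization.Away a) :=
    (Algebra.TensorProduct.map (AlgHom.id R R') (IsScalarTower.toAlgHom R A (Localization.Away a))).toRingHom.toAlgebra
  haveI hloc : IsLocalization (Algebra.algebraMapSubmonoid (R' ⊗[R] A) (Submonoid.powers a))
      (R' ⊗[R] Localization.Away a) :=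
    RegHomLib.isLocalization_tensor R R' A (Localization.Away a) (Submonoid.powers a)
  have hM : Algebra.algebraMapSubmonoid (R' ⊗[R] A) (Submonoid.powers a) = Submonoid.powers ((1 : R') ⊗ₜ[R] a) := by
    change Submonoid.map (algebraMap A (R' ⊗[R] A)).toMonoidHom _ = _
    rw [Submonoid.map_powers]
    rfl
  rw [hM] at hloc
  haveI : IsScalarTower R' (R' ⊗[R] A) (R' ⊗[R] Localization.Away a) := IsScalarTower.of_algebraMap_eq fun x => by
    change x ⊗ₜ[R] (1 : Localization.Away a) =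
      Algebra.TensorProduct.map (AlgHom.id R R') (IsScalarTower.toAlgHom R A (Localization.Away a)) (x ⊗ₜ[R] (1 : A))
    rw [Algebra.TensorProduct.map_tmul, map_one]
    rfl
  exact Algebra.Smooth.of_equiv ((IsLocalization.algEquiv (Submonoid.powers ((1 : R') ⊗ₜ[R] a))
    (R' ⊗[R] Localization.Away a) (Localization.Away ((1 : R') ⊗ₜ[R] a))).restrictScalars R')

/-- Syzygies localize. -/
theorem exists_syzygy {Λ S : Type u} [CommRing Λ] [CommRing S] [Algebra Λ S] (M : Submonoid Λ) [IsLocalization M S]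
    {t v : ℕ} (c : Fin t → Λ) (σ : Fin v → Fin t → Λ)
    (hσ : LinearMap.ker (Fintype.linearCombination Λ c) = Submodule.span Λ (Set.range σ))
    (δ : Fin t → S) (hδ : ∑ j, algebraMap Λ S (c j) * δ j = 0) :
    ∃ e : Fin v → S, ∀ j, δ j = ∑ l, e l * algebraMap Λ S (σ l j) := by
  obtain ⟨b, hb⟩ := IsLocalization.exist_integer_multiples_of_finite M δ
  choose z hz using hb
  have h0 : algebraMap Λ S (∑ j, c j * z j) = 0 := by
    simp only [map_sum, map_mul, hz, Algebra.smul_def]
    rw [show ∑ j, algebraMap Λ S (c j) * (algebraMap Λ S (b : Λ) * δ j) =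
      algebraMap Λ S (b : Λ) * ∑ j, algebraMap Λ S (c j) * δ j by
        rw [Finset.mul_sum]; exact Finset.sum_congr rfl fun j _ => by ring, hδ, mul_zero]
  obtain ⟨u, hu⟩ := (IsLocalization.map_eq_zero_iff M S _).1 h0
  have hmem : (fun j => (u : Λ) * z j) ∈ LinearMap.ker (Fintype.linearCombination Λ c) := by
    rw [LinearMap.mem_ker, Fintype.linearCombination_apply, ← hu, Finset.mul_sum]
    exact Finset.sum_congr rfl fun j _ => by rw [smul_eq_mul]; ring
  rw [hσ] at hmem
  obtain ⟨w, hw⟩ := (Submodule.mem_span_range_iff_exists_fun Λ).1 hmem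
  have hub : IsUnit (algebraMap Λ S ((u : Λ) * b)) := IsLocalization.map_units S (u * b)
  refine ⟨fun l => ↑hub.unit⁻¹ * algebraMap Λ S (w l), fun j => ?_⟩
  have h1 : algebraMap Λ S ((u : Λ) * b) * δ j = ∑ l, algebraMap Λ S (w l) * algebraMap Λ S (σ l j) := by
    have h := congrArg (fun f : Fin t → Λ => algebraMap Λ S (f j)) hw
    simp only [Finset.sum_apply, Pi.smul_apply, smul_eq_mul, map_sum, map_mul, hz] at h
    rw [Algebra.smul_def] at h
    rw [map_mul, mul_assoc, ← h]
  simp only [mul_assoc, ← Finset.mul_sum, ← h1]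
  rw [← mul_assoc, IsUnit.val_inv_mul, one_mul]

set_option maxHeartbeats 3200000 in
/-- Resolution at a prime of a geometrically regular algebra in positive characteristic. -/
theorem resolvable_inseparable {k A Λ : Type u} [Field k] (p : ℕ) [Fact p.Prime] [CharP k p] [CommRing A]
    [Algebra k A] [Algebra.FinitePresentation k A] [CommRing Λ] [Algebra k Λ] [IsNoetherianRing Λ]
    (hreg : CAlg.IsGeometricallyRegular k Λ) (φ : A →ₐ[k] Λ) (𝔮 : Ideal Λ) [𝔮.IsPrime]
    (hmin : 𝔮 ∈ (singRad k φ).minimalPrimes) : Resolvable k φ 𝔮 := by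
  classical
  let S := Localization.AtPrime 𝔮
  haveI : IsNoetherianRing S := IsLocalization.isNoetherianRing 𝔮.primeCompl _ inferInstance
  have hFS : CAlgX.IsAdicFormallySmooth k S (maximalIdeal S) :=
    AdicFS.adic_iff_geometricallyRegular.2 (AdicFS.geometricallyRegular_localization hreg 𝔮.primeCompl S)
  haveI : IsRegularLocalRing S := (S2471.result.1 hFS).1
  haveI : IsNoetherianRing A := Algebra.FiniteType.isNoetherianRing k A
  obtain ⟨t, a, ha⟩ := Submodule.fg_iff_exists_fin_generating_family.1 (IsNoetherian.noetherian (singularIdeal k A))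
  let I : Ideal Λ := (singularIdeal k A).map φ
  have hI : I = Ideal.span (Set.range (φ ∘ a)) := by
    change (singularIdeal k A).map φ = _
    rw [← ha, Ideal.map_span, ← Set.range_comp]
  have hamem : ∀ j, a j ∈ singularIdeal k A := fun j => by rw [← ha]; exact Submodule.subset_span ⟨j, rfl⟩
  have hsma : ∀ j, Algebra.Smooth k (Localization.Away (a j)) := fun j =>
    Algebra.basicOpen_subset_smoothLocus_iff_smooth.1 fun Q hQ => by
      by_contra hns
      have h := hamem j
      rw [singularIdeal, PrimeSpectrum.mem_vanishingIdeal] at h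
      exact hQ (h Q hns)
  have hIrad : maximalIdeal S ≤ (I.map (algebraMap Λ S)).radical := by
    rw [Ideal.radical_eq_sInf]
    refine le_sInf ?_
    rintro P ⟨hIP, hP⟩
    haveI := hP
    have hle : P.comap (algebraMap Λ S) ≤ 𝔮 := by
      intro z hz
      by_contra hzq
      exact hP.ne_top (Ideal.eq_top_of_isUnit_mem _ hz (IsLocalization.map_units S (⟨z, hzq⟩ : 𝔮.primeCompl)))
    have hge : 𝔮 ≤ P.comap (algebraMap Λ S) := hmin.2 ⟨Ideal.comap_isPrime _ _,
      (Ideal.IsPrime.radical_le_iff (Ideal.comap_isPrime _ _)).2 (Ideal.map_le_iff_le_comap.1 hIP)⟩ hle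
    rw [← IsLocalization.AtPrime.map_eq_maximalIdeal 𝔮 S]
    exact Ideal.map_le_iff_le_comap.2 hge
  obtain ⟨n, hn⟩ := Ideal.exists_pow_le_of_le_radical_of_fg hIrad (IsNoetherian.noetherian _)
  obtain ⟨n0, hn0⟩ := Ideal.exists_pow_le_of_le_radical_of_fg (I := I.radical) (J := I) le_rfl (IsNoetherian.noetherian _)
  let N := n + n0 + 1
  -- the element `s`
  obtain ⟨s, hsq, hs⟩ : ∃ s, s ∉ 𝔮 ∧ ∀ z ∈ 𝔮, s * z ∈ I.radical := by
    obtain ⟨e, w, hw⟩ := Submodule.fg_iff_exists_fin_generating_family.1 (IsNoetherian.noetherian 𝔮)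
    have hu : ∀ i, ∃ u : 𝔮.primeCompl, (u : Λ) * w i ∈ I.radical := fun i => by
      have hwi : algebraMap Λ S (w i) ∈ maximalIdeal S :=
        (IsLocalization.AtPrime.to_map_mem_maximal_iff S 𝔮 _).2 (hw ▸ Submodule.subset_span ⟨i, rfl⟩)
      have h1 : algebraMap Λ S (w i ^ (n + 1)) ∈ I.map (algebraMap Λ S) := by
        rw [map_pow]
        exact hn (Ideal.pow_le_pow_right (Nat.le_succ n) (Ideal.pow_mem_pow hwi (n + 1)))
      obtain ⟨u, hu, huI⟩ := (IsLocalization.algebraMap_mem_map_algebraMap_iff 𝔮.primeCompl S I _).1 h1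
      refine ⟨⟨u, hu⟩, n + 1, ?_⟩
      rw [mul_pow, pow_succ u, mul_assoc]
      exact I.mul_mem_left _ huI
    choose u hu using hu
    refine ⟨((∏ i, u i : 𝔮.primeCompl) : Λ), (∏ i, u i : 𝔮.primeCompl).2, fun z hz => ?_⟩
    rw [← hw] at hz
    obtain ⟨cz, rfl⟩ := (Submodule.mem_span_range_iff_exists_fun Λ).1 hz
    rw [Finset.mul_sum]
    refine Ideal.sum_mem _ fun i _ => ?_
    rw [smul_eq_mul, mul_left_comm, Submonoid.coe_finsetProd, ← Finset.prod_erase_mul _ _ (Finset.mem_univ i),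
      mul_assoc]
    exact Ideal.mul_mem_left _ _ (Ideal.mul_mem_left _ _ (hu i))
  -- syzygies
  obtain ⟨v, σ, hσ⟩ := Submodule.fg_iff_exists_fin_generating_family.1
    (IsNoetherian.noetherian (LinearMap.ker (Fintype.linearCombination Λ fun j => φ (a j))))
  have hσ0 : ∀ l, ∑ j, φ (a j) * σ l j = 0 := fun l => by
    have h : σ l ∈ LinearMap.ker (Fintype.linearCombination Λ fun j => φ (a j)) := by
      rw [← hσ]; exact Submodule.subset_span ⟨l, rfl⟩
    rw [LinearMap.mem_ker, Fintype.linearCombination_apply] at h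
    rw [← h]
    exact Finset.sum_congr rfl fun j _ => by rw [smul_eq_mul, mul_comm]
  -- the local factorization
  let φS : A →ₐ[k] S := (IsScalarTower.toAlgHom k Λ S).comp φ
  obtain ⟨ι, ζ, _, _, τ, r, g, q, _, B, _, ψ, gA, hB, U, σB, hq, hgq, hψ, hgS, hhψ, hhA, hgAC, hU, hσB0, hhσ⟩ :=
    exists_local_factor p hFS φS a hsma N n (Nat.succ_pos _) (by omega) (by
      refine hn.trans (le_of_eq ?_)
      rw [hI, Ideal.map_span, ← Set.range_comp]
      rfl) (fun l j => algebraMap Λ S (σ l j))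
      (fun l => by
        simp only [φS, AlgHom.comp_apply, IsScalarTower.toAlgHom_apply, ← map_mul, ← map_sum, hσ0 l, map_zero])
  letI : Algebra (Localization.AtPrime q) B := ψ.toAlgebra
  haveI : Algebra.Smooth (Localization.AtPrime q) B := hψ
  -- denominators
  obtain ⟨b, hb⟩ := IsLocalization.exist_integer_multiples_of_finite 𝔮.primeCompl τ
  choose x' hx' using hb
  let vden : Λ := (b : Λ) * s
  have hvq : vden ∉ 𝔮 := fun h => (Ideal.IsPrime.mem_or_mem inferInstance h).elim b.2 hsq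
  let xs : Option (ι ⊕ ζ) → Λ := fun o => o.elim vden (fun j => s * x' j)
  letI : Algebra (MvPolynomial (Option (ι ⊕ ζ)) k) Λ := (aeval xs).toRingHom.toAlgebra
  haveI : IsScalarTower k (MvPolynomial (Option (ι ⊕ ζ)) k) Λ :=
    IsScalarTower.of_algebraMap_eq fun c => ((aeval xs).commutes c).symm
  have hX : ∀ o, algebraMap (MvPolynomial (Option (ι ⊕ ζ)) k) Λ (X o) = xs o := fun o => aeval_X xs o
  let q' : Ideal (MvPolynomial (Option (ι ⊕ ζ)) k) := 𝔮.comap (algebraMap _ Λ)
  let Rq := Localization.AtPrime q'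
  haveI : IsNoetherianRing Rq := IsLocalization.isNoetherianRing q'.primeCompl _ inferInstance
  have huR : ∀ y : q'.primeCompl, IsUnit ((algebraMap Λ S).comp (algebraMap (MvPolynomial (Option (ι ⊕ ζ)) k) Λ) y) :=
    fun y => IsLocalization.map_units S (⟨_, y.2⟩ : 𝔮.primeCompl)
  let ηS : Rq →+* S := IsLocalization.lift huR
  have hηS : ∀ x, ηS (algebraMap _ Rq x) = algebraMap Λ S (algebraMap _ Λ x) := fun x => IsLocalization.lift_eq huR x
  have hηu : ∀ z : Rq, IsUnit (ηS z) → IsUnit z := fun z hz => by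
    obtain ⟨⟨x, y⟩, hxy⟩ := IsLocalization.surj q'.primeCompl z
    have h1 : IsUnit (ηS (algebraMap _ Rq x)) := by
      rw [← hxy, map_mul]
      exact hz.mul (by rw [hηS]; exact huR y)
    have h2 : IsUnit (algebraMap _ Rq x) := by
      refine IsLocalization.map_units Rq (⟨x, fun hx => ?_⟩ : q'.primeCompl)
      rw [hηS] at h1
      exact (IsLocalization.AtPrime.isUnit_to_map_iff S 𝔮 _).1 h1 hx
    rw [← hxy] at h2
    exact isUnit_of_mul_isUnit_left h2
  have hV : IsUnit (algebraMap _ Rq (X none : MvPolynomial (Option (ι ⊕ ζ)) k)) :=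
    IsLocalization.map_units Rq (⟨X none, fun h => hvq (by
      change algebraMap _ Λ (X none) ∈ 𝔮 at h
      rwa [hX] at h)⟩ : q'.primeCompl)
  let ψ2 : MvPolynomial (ι ⊕ ζ) k →ₐ[k] Rq :=
    aeval fun j => algebraMap (MvPolynomial (Option (ι ⊕ ζ)) k) Rq (X (some j)) * ↑hV.unit⁻¹
  have hψ2 : ∀ x, ηS (ψ2 x) = aeval τ x := by
    have hvS : IsUnit (algebraMap Λ S vden) := IsLocalization.map_units S (⟨vden, hvq⟩ : 𝔮.primeCompl)
    have : ηS.comp ψ2.toRingHom = (aeval τ : MvPolynomial (ι ⊕ ζ) k →ₐ[k] S).toRingHom := by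
      refine MvPolynomial.ringHom_ext (fun c => ?_) fun j => ?_
      · change ηS (ψ2 (C c)) = aeval τ (C c)
        rw [aeval_C]
        simp only [ψ2, aeval_C]
        rw [IsScalarTower.algebraMap_apply k (MvPolynomial (Option (ι ⊕ ζ)) k) Rq, hηS,
          ← IsScalarTower.algebraMap_apply, ← IsScalarTower.algebraMap_apply]
      · change ηS (ψ2 (X j)) = aeval τ (X j)
        simp only [ψ2, aeval_X, map_mul]
        refine hvS.mul_left_cancel ?_
        have h1 : ηS (↑hV.unit⁻¹) * algebraMap Λ S vden = 1 := by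
          rw [show algebraMap Λ S vden = ηS (algebraMap _ Rq (X none)) by rw [hηS, hX]; rfl, ← map_mul,
            IsUnit.val_inv_mul, map_one]
        rw [hηS, hX, ← mul_assoc, mul_comm (algebraMap Λ S vden), mul_assoc, mul_comm _ (ηS _), h1, mul_one]
        change algebraMap Λ S (s * x' j) = algebraMap Λ S ((b : Λ) * s) * τ j
        rw [map_mul, map_mul, hx', Algebra.smul_def]
        ring
    exact fun x => RingHom.congr_fun this x
  have hu2 : ∀ y : q.primeCompl, IsUnit (ψ2 y) := fun y => hηu _ (by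
    rw [hψ2]
    by_contra h
    exact y.2 (hq ▸ h))
  let ψ3 : Localization.AtPrime q →+* Rq := IsLocalization.lift (g := ψ2.toRingHom) hu2
  have hψ3 : ∀ x, ψ3 (algebraMap _ _ x) = ψ2 x := fun x => IsLocalization.lift_eq hu2 x
  -- the parameters
  have hsurjR : ∀ i : Fin r, ∃ x : MvPolynomial (Option (ι ⊕ ζ)) k × q'.primeCompl,
      ψ2 (g i) * algebraMap (MvPolynomial (Option (ι ⊕ ζ)) k) Rq x.2 = algebraMap _ Rq x.1 :=
    fun i => IsLocalization.surj q'.primeCompl (ψ2 (g i))
  choose num hnum using hsurjR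
  let π0 : Fin (r + 1) → MvPolynomial (Option (ι ⊕ ζ)) k := Fin.snoc (fun i => X none * (num i).1) 0
  let ω : Fin r → Rq := fun i => algebraMap _ Rq (X none : MvPolynomial (Option (ι ⊕ ζ)) k) * algebraMap _ Rq ((num i).2 : MvPolynomial (Option (ι ⊕ ζ)) k)
  have hωu : ∀ i, IsUnit (ω i) := fun i => hV.mul (IsLocalization.map_units Rq (num i).2)
  have hπR : ∀ i : Fin r, algebraMap _ Rq (π0 i.castSucc) = ω i * ψ2 (g i) := fun i => by
    simp only [π0, Fin.snoc_castSucc, map_mul, ω, ← hnum i]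
    ring
  have hgm : ∀ i, aeval τ (g i) ∈ maximalIdeal S := fun i => hgS ▸ Ideal.subset_span ⟨i, rfl⟩
  have hπJ : ∀ i, algebraMap _ Λ (π0 i) ∈ I.radical := fun i => by
    induction i using Fin.lastCases with
    | last => simp [π0]
    | cast i =>
      simp only [π0, Fin.snoc_castSucc, map_mul, hX]
      change (b : Λ) * s * _ ∈ _
      rw [mul_assoc]
      refine Ideal.mul_mem_left _ _ (hs _ ?_)
      have h1 : algebraMap Λ S (algebraMap _ Λ ((num i).1)) ∈ maximalIdeal S := by
        rw [← hηS, ← hnum i, map_mul, hψ2]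
        exact Ideal.mul_mem_right _ _ (hgm i)
      exact (IsLocalization.AtPrime.to_map_mem_maximal_iff S 𝔮 _).1 h1
  have hJq : I.radical ≤ 𝔮 := hmin.1.2
  have hπq : ∀ i, algebraMap _ Λ (π0 i) ∈ 𝔮 := fun i => hJq (hπJ i)
  choose lam0 hlam0 using fun i : Fin r => Ideal.mem_span_range_iff_exists_fun.1
    (hI ▸ hn0 (Ideal.pow_le_pow_right (show n0 ≤ N by omega) (Ideal.pow_mem_pow (hπJ i.castSucc) N)))
  let lamΛ : Fin (r + 1) → Fin t → Λ := Fin.snoc lam0 0
  have hlamΛ : ∀ i, algebraMap _ Λ (π0 i) ^ N = ∑ j, φ (a j) * lamΛ i j := fun i => by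
    induction i using Fin.lastCases with
    | last => simp [π0, lamΛ, N]
    | cast i =>
      rw [← hlam0 i]
      simp only [lamΛ, Fin.snoc_castSucc, Function.comp_apply]
      exact Finset.sum_congr rfl fun j _ => mul_comm _ _
  -- the universal algebra and exponents
  obtain ⟨C0, _, _, _, _, hC0, ι0, hsm0, ⟨lb, hlb⟩, U0, hU0, huniv⟩ :=
    exists_param_retract (k := k) a N (r + 1) hsma
  haveI := hC0
  obtain ⟨e, he1, he2, he3⟩ := exists_exponents (Λ := Λ × MvPolynomial (Option (ι ⊕ ζ)) k)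
    (fun i => (algebraMap _ Λ (π0 i), π0 i)) lb
  let π : Fin (r + 1) → MvPolynomial (Option (ι ⊕ ζ)) k := fun i => π0 i ^ e i
  let K : Ideal (MvPolynomial (Option (ι ⊕ ζ)) k) := Ideal.span (Set.range fun i => π i ^ 8)
  have hKq : K ≤ q' := by
    rw [Ideal.span_le]
    rintro _ ⟨i, rfl⟩
    change algebraMap _ Λ ((π0 i ^ e i) ^ 8) ∈ 𝔮
    rw [map_pow, map_pow, ← pow_mul]
    exact Ideal.pow_mem_of_mem _ (hπq i) _ (Nat.mul_pos (he2 i) (by norm_num))
  -- the localized quotient of the base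
  let pb : Ideal (MvPolynomial (Option (ι ⊕ ζ)) k ⧸ K) := q'.map (Ideal.Quotient.mk K)
  haveI : pb.IsPrime := Ideal.map_isPrime_of_surjective Ideal.Quotient.mk_surjective (by rwa [Ideal.mk_ker])
  let Pr := Localization.AtPrime pb
  have huP : ∀ y : q'.primeCompl, IsUnit ((algebraMap (MvPolynomial (Option (ι ⊕ ζ)) k ⧸ K) Pr).comp (Ideal.Quotient.mk K) y) :=
    fun y => IsLocalization.map_units Pr (⟨_, fun h => y.2 ((Ideal.mem_quotient_iff_mem hKq).1 h)⟩ : pb.primeCompl)
  let ηP : Rq →+* Pr := IsLocalization.lift huP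
  have hηP : ∀ x, ηP (algebraMap _ Rq x) = algebraMap _ Pr (Ideal.Quotient.mk K x) := fun x => IsLocalization.lift_eq huP x
  let KS : Ideal S := K.map (algebraMap (MvPolynomial (Option (ι ⊕ ζ)) k) S)
  have huS2 : ∀ y : pb.primeCompl, IsUnit (algebraMap (MvPolynomial (Option (ι ⊕ ζ)) k ⧸ K) (S ⧸ KS) y) := fun y => by
    obtain ⟨y0, hy0⟩ := Ideal.Quotient.mk_surjective (y : MvPolynomial (Option (ι ⊕ ζ)) k ⧸ K)
    rw [← hy0]
    change IsUnit (Ideal.Quotient.mk KS (algebraMap Λ S (algebraMap _ Λ y0)))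
    exact (huR ⟨y0, fun h => y.2 (hy0 ▸ Ideal.mem_map_of_mem _ h)⟩).map _
  letI : Algebra Pr (S ⧸ KS) := (IsLocalization.lift (S := Pr) huS2).toAlgebra
  haveI : IsScalarTower (MvPolynomial (Option (ι ⊕ ζ)) k) Pr (S ⧸ KS) := IsScalarTower.of_algebraMap_eq fun x => by
    change _ = IsLocalization.lift (S := Pr) huS2 (algebraMap (MvPolynomial (Option (ι ⊕ ζ)) k ⧸ K) Pr (Ideal.Quotient.mk K x))
    rw [IsLocalization.lift_eq]
    rfl
  have hηPS : ∀ z : Rq, algebraMap Pr (S ⧸ KS) (ηP z) = Ideal.Quotient.mk KS (ηS z) := by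
    have : (algebraMap Pr (S ⧸ KS)).comp ηP = (Ideal.Quotient.mk KS).comp ηS :=
      IsLocalization.ringHom_ext q'.primeCompl (RingHom.ext fun x => by
        change algebraMap Pr (S ⧸ KS) (ηP (algebraMap _ Rq x)) = Ideal.Quotient.mk KS (ηS (algebraMap _ Rq x))
        rw [hηP, hηS]
        exact (IsScalarTower.algebraMap_apply (MvPolynomial (Option (ι ⊕ ζ)) k) Pr (S ⧸ KS) x).symm)
    exact fun z => RingHom.congr_fun this z
  letI : Algebra (Localization.AtPrime q) Pr := (ηP.comp ψ3).toAlgebra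
  letI : Algebra (Localization.AtPrime q) (S ⧸ KS) :=
    ((algebraMap Pr (S ⧸ KS)).comp (algebraMap (Localization.AtPrime q) Pr)).toAlgebra
  haveI : IsScalarTower (Localization.AtPrime q) Pr (S ⧸ KS) := IsScalarTower.of_algebraMap_eq fun _ => rfl
  let hBK : B →ₐ[Localization.AtPrime q] S ⧸ KS :=
    { toRingHom := (Ideal.Quotient.mk KS).comp hB
      commutes' := by
        intro z
        have : ((Ideal.Quotient.mk KS).comp hB).comp ψ = algebraMap (Localization.AtPrime q) (S ⧸ KS) :=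
          IsLocalization.ringHom_ext q.primeCompl (RingHom.ext fun x => by
            change Ideal.Quotient.mk KS (hB (ψ (algebraMap _ _ x))) = algebraMap Pr (S ⧸ KS) (ηP (ψ3 (algebraMap _ _ x)))
            rw [hhψ, hψ3, hηPS, hψ2])
        exact RingHom.congr_fun this z }
  let B0 := Pr ⊗[Localization.AtPrime q] B
  let hB0 : B0 →ₐ[Pr] S ⧸ KS :=
    Algebra.TensorProduct.lift (Algebra.ofId Pr _) hBK (fun _ _ => Commute.all _ _)
  -- the syzygy coefficients
  have hE : ∀ i : Fin r, ∃ E : Fin v → S, ∀ j, algebraMap Λ S (lam0 i j) - ηS (ω i) ^ N * hB (U i j) =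
      ∑ l, E l * algebraMap Λ S (σ l j) := fun i => by
    refine exists_syzygy 𝔮.primeCompl (fun j => φ (a j)) σ hσ.symm _ ?_
    simp only [mul_sub, Finset.sum_sub_distrib, mul_left_comm _ (ηS (ω i) ^ N), ← Finset.mul_sum, ← map_mul,
      ← map_sum]
    have h1 : ∑ j, algebraMap Λ S (φ (a j)) * hB (U i j) = aeval τ (g i) ^ N := by
      rw [← hhψ, ← map_pow, hU i, map_sum]
      exact Finset.sum_congr rfl fun j _ => by rw [map_mul, hhA]; rfl
    have h2 : algebraMap Λ S (∑ j, φ (a j) * lam0 i j) = algebraMap Λ S (algebraMap _ Λ (π0 i.castSucc)) ^ N := by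
      rw [← map_pow, hlamΛ]
      simp [lamΛ]
    rw [h2, h1, ← hηS, hπR, map_mul, hψ2, mul_pow, sub_self]
  choose E hE using hE
  let BX := MvPolynomial (Fin r × Fin v) B0
  haveI : Algebra.Smooth B0 BX := ⟨inferInstance, inferInstance⟩
  haveI : Algebra.Smooth Pr B0 := inferInstance
  haveI : Algebra.Smooth Pr BX := Algebra.Smooth.comp Pr B0 BX
  letI : Algebra (S ⧸ KS) (S ⧸ KS) := Algebra.id _
  let hBX : BX →ₐ[Pr] S ⧸ KS := aevalTower hB0 fun p => Ideal.Quotient.mk KS (E p.1 p.2)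
  letI : Algebra (MvPolynomial (Option (ι ⊕ ζ)) k) BX := ((algebraMap Pr BX).comp (algebraMap _ Pr)).toAlgebra
  haveI : IsScalarTower (MvPolynomial (Option (ι ⊕ ζ)) k) Pr BX := IsScalarTower.of_algebraMap_eq fun _ => rfl
  let inB : B →+* BX := (algebraMap B0 BX).comp (Algebra.TensorProduct.includeRight : B →ₐ[Localization.AtPrime q] B0).toRingHom
  have hinB : ∀ z, inB (ψ z) = algebraMap Pr BX (ηP (ψ3 z)) := fun z => by
    change algebraMap B0 BX ((Algebra.TensorProduct.includeRight : B →ₐ[Localization.AtPrime q] B0) (algebraMap _ B z)) = _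
    rw [AlgHom.commutes, IsScalarTower.algebraMap_apply (Localization.AtPrime q) Pr B0,
      ← IsScalarTower.algebraMap_apply Pr B0 BX]
    rfl
  have hhin : ∀ z, hBX (inB z) = Ideal.Quotient.mk KS (hB z) := fun z => by
    change aevalTower hB0 _ (C ((Algebra.TensorProduct.includeRight : B →ₐ[Localization.AtPrime q] B0) z)) = _
    rw [aevalTower_C]
    change algebraMap Pr (S ⧸ KS) 1 * hBK z = _
    rw [map_one, one_mul]
    rfl
  letI : Algebra k BX := Algebra.compHom BX (algebraMap k (MvPolynomial (Option (ι ⊕ ζ)) k))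
  haveI : IsScalarTower k (MvPolynomial (Option (ι ⊕ ζ)) k) BX := IsScalarTower.of_algebraMap_eq fun _ => rfl
  let φX : A →ₐ[k] BX :=
    { toRingHom := inB.comp gA
      commutes' := fun c => by
        change inB (gA (algebraMap k A c)) = algebraMap Pr BX (algebraMap _ Pr (algebraMap k (MvPolynomial (Option (ι ⊕ ζ)) k) c))
        rw [hgAC, hinB, hψ3]
        simp only [ψ2, aeval_C]
        rw [IsScalarTower.algebraMap_apply k (MvPolynomial (Option (ι ⊕ ζ)) k) Rq, hηP]
        rfl }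
  let ωX : Fin r → BX := fun i => algebraMap Pr BX (ηP (ω i))
  let lamX : Fin (r + 1) → Fin t → BX :=
    Fin.snoc (fun i j => ωX i ^ N * inB (U i j) + ∑ l, X (i, l) * inB (σB l j)) 0
  have hlamX : ∀ i, algebraMap (MvPolynomial (Option (ι ⊕ ζ)) k) BX (π0 i) ^ N = ∑ j, φX (a j) * lamX i j := fun i => by
    induction i using Fin.lastCases with
    | last => simp [π0, lamX, N]
    | cast i =>
      simp only [lamX, Fin.snoc_castSucc, mul_add, Finset.sum_add_distrib, mul_left_comm _ (ωX i ^ N), ← Finset.mul_sum]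
      have hz : ∀ l, ∑ j, φX (a j) * inB (σB l j) = 0 := fun l => by
        have h := congrArg inB (hσB0 l)
        rw [map_sum, map_zero] at h
        rw [← h]
        exact Finset.sum_congr rfl fun j _ => (map_mul inB _ _).symm
      have hz2 : ∑ j, φX (a j) * ∑ l, X (i, l) * inB (σB l j) = 0 := by
        simp only [Finset.mul_sum]
        rw [Finset.sum_comm]
        refine Finset.sum_eq_zero fun l _ => ?_
        rw [← mul_zero (X (i, l) : BX), ← hz l, Finset.mul_sum]
        exact Finset.sum_congr rfl fun j _ => mul_left_comm _ _ _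
      have hu : ∑ j, φX (a j) * inB (U i j) = algebraMap Pr BX (ηP (ψ2 (g i))) ^ N := by
        rw [← hψ3, ← hinB, ← map_pow, hU i, map_sum]
        exact Finset.sum_congr rfl fun j _ => (map_mul inB _ _).symm
      rw [hz2, add_zero, hu]
      rw [← mul_pow, ← map_mul, ← map_mul, ← hπR, hηP]
      rfl
  -- the fibre product
  let mkΛ : Λ →ₐ[k] S ⧸ KS := (Ideal.Quotient.mkₐ k KS).comp (IsScalarTower.toAlgHom k Λ S)
  let hk : BX →ₐ[k] S ⧸ KS :=
    { toRingHom := hBX.toRingHom
      commutes' := fun c => by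
        change hBX (algebraMap Pr BX (algebraMap _ Pr (algebraMap k (MvPolynomial (Option (ι ⊕ ζ)) k) c))) = _
        rw [hBX.commutes, ← IsScalarTower.algebraMap_apply]
        change Ideal.Quotient.mk KS (algebraMap Λ S (algebraMap _ Λ (algebraMap k (MvPolynomial (Option (ι ⊕ ζ)) k) c))) = _
        rw [← IsScalarTower.algebraMap_apply, ← IsScalarTower.algebraMap_apply]
        rfl }
  let S3 : Subalgebra k (Λ × BX) := AlgHom.equalizer (mkΛ.comp (AlgHom.fst k Λ BX)) (hk.comp (AlgHom.snd k Λ BX))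
  have hmem : ∀ (x : Λ) (y : BX), Ideal.Quotient.mk KS (algebraMap Λ S x) = hBX y → (x, y) ∈ S3 := fun x y h => h
  have hmemA : ∀ x, (φ x, φX x) ∈ S3 := fun x => hmem _ _ (by
    change _ = hBX (inB (gA x))
    rw [hhin, hhA]
    rfl)
  let φ3 : A →ₐ[k] S3 := (φ.prod φX).codRestrict S3 hmemA
  have hmemR : ∀ x : MvPolynomial (Option (ι ⊕ ζ)) k, (algebraMap _ Λ x, algebraMap _ BX x) ∈ S3 := fun x => hmem _ _ (by
    change _ = hBX (algebraMap Pr BX (algebraMap _ Pr x))
    rw [hBX.commutes, ← IsScalarTower.algebraMap_apply (MvPolynomial (Option (ι ⊕ ζ)) k) Λ S]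
    exact IsScalarTower.algebraMap_apply (MvPolynomial (Option (ι ⊕ ζ)) k) Pr (S ⧸ KS) x)
  let lam3 : Fin (r + 1) → Fin t → S3 := fun i j => ⟨(lamΛ i j, lamX i j), hmem _ _ (by
    induction i using Fin.lastCases with
    | last => simp [lamΛ, lamX]
    | cast i =>
      simp only [lamΛ, lamX, Fin.snoc_castSucc, map_add, map_sum, map_mul, map_pow, hhin, hhσ]
      rw [show algebraMap Λ S (lam0 i j) = ηS (ω i) ^ N * hB (U i j) + ∑ l, E i l * algebraMap Λ S (σ l j) by
        rw [← hE i j]; ring]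
      simp [ωX, hηPS, hBX, aevalTower_X]
      exact Finset.sum_congr rfl fun l _ => congrArg (· * _) (aevalTower_X hB0 (fun p => Ideal.Quotient.mk KS (E p.1 p.2)) (i, l)).symm)⟩
  letI : Algebra (MvPolynomial (Fin (r + 1)) k) S3 :=
    (aeval fun i => (⟨_, hmemR (π0 i)⟩ : S3)).toRingHom.toAlgebra
  haveI : IsScalarTower k (MvPolynomial (Fin (r + 1)) k) S3 :=
    IsScalarTower.of_algebraMap_eq fun x => (AlgHom.commutes (aeval fun i => (⟨_, hmemR (π0 i)⟩ : S3)) x).symm
  obtain ⟨φ', hφ', -⟩ := huniv S3 φ3 lam3 (fun i => by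
    rw [show algebraMap (MvPolynomial (Fin (r + 1)) k) S3 (X i) = ⟨_, hmemR (π0 i)⟩ from aeval_X _ i]
    refine Subtype.ext (Prod.ext ?_ ?_)
    · simp only [SubmonoidClass.coe_pow, AddSubmonoidClass.coe_finsetSum, MulMemClass.coe_mul, Prod.pow_fst,
        Prod.fst_sum, Prod.fst_mul]
      exact hlamΛ i
    · simp only [SubmonoidClass.coe_pow, AddSubmonoidClass.coe_finsetSum, MulMemClass.coe_mul, Prod.pow_snd,
        Prod.snd_sum, Prod.snd_mul]
      exact hlamX i)
  -- base change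
  letI : Algebra (MvPolynomial (Fin (r + 1)) k) (MvPolynomial (Option (ι ⊕ ζ)) k) := (aeval π0).toRingHom.toAlgebra
  letI : Algebra (MvPolynomial (Fin (r + 1)) k) Λ :=
    ((algebraMap (MvPolynomial (Option (ι ⊕ ζ)) k) Λ).comp (algebraMap (MvPolynomial (Fin (r + 1)) k) _)).toAlgebra
  haveI : IsScalarTower (MvPolynomial (Fin (r + 1)) k) (MvPolynomial (Option (ι ⊕ ζ)) k) Λ :=
    IsScalarTower.of_algebraMap_eq fun _ => rfl
  letI : Algebra (MvPolynomial (Fin (r + 1)) k) BX :=
    ((algebraMap (MvPolynomial (Option (ι ⊕ ζ)) k) BX).comp (algebraMap (MvPolynomial (Fin (r + 1)) k) _)).toAlgebra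
  haveI : IsScalarTower (MvPolynomial (Fin (r + 1)) k) (MvPolynomial (Option (ι ⊕ ζ)) k) BX :=
    IsScalarTower.of_algebraMap_eq fun _ => rfl
  have hcomp : ∀ x, ((algebraMap (MvPolynomial (Fin (r + 1)) k) S3 x : Λ × BX)) =
      (algebraMap _ Λ (aeval π0 x), algebraMap _ BX (aeval π0 x)) := by
    intro x
    induction x using MvPolynomial.induction_on with
    | C c =>
      rw [aeval_C, ← MvPolynomial.algebraMap_eq, ← IsScalarTower.algebraMap_apply, ← IsScalarTower.algebraMap_apply,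
        ← IsScalarTower.algebraMap_apply]
      rfl
    | add y z hy hz => rw [map_add, Subalgebra.coe_add, hy, hz]; simp [map_add]
    | mul_X y i hy =>
      rw [map_mul, Subalgebra.coe_mul, hy, map_mul, aeval_X, map_mul, map_mul,
        show algebraMap (MvPolynomial (Fin (r + 1)) k) S3 (X i) = ⟨_, hmemR (π0 i)⟩ from aeval_X _ i]
      rfl
  let φΛ : C0 →ₐ[MvPolynomial (Fin (r + 1)) k] Λ :=
    { toRingHom := (RingHom.fst Λ BX).comp (S3.val.toRingHom.comp φ'.toRingHom)
      commutes' := fun x => by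
        change ((φ' (algebraMap _ C0 x) : S3) : Λ × BX).1 = _
        rw [φ'.commutes, hcomp]
        rfl }
  let φB : C0 →ₐ[MvPolynomial (Fin (r + 1)) k] BX :=
    { toRingHom := (RingHom.snd Λ BX).comp (S3.val.toRingHom.comp φ'.toRingHom)
      commutes' := fun x => by
        change ((φ' (algebraMap _ C0 x) : S3) : Λ × BX).2 = _
        rw [φ'.commutes, hcomp]
        rfl }
  let CR := MvPolynomial (Option (ι ⊕ ζ)) k ⊗[MvPolynomial (Fin (r + 1)) k] C0
  let φC : CR →ₐ[MvPolynomial (Option (ι ⊕ ζ)) k] Λ :=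
    Algebra.TensorProduct.lift (Algebra.ofId _ Λ) φΛ (fun _ _ => Commute.all _ _)
  let gC : CR →ₐ[MvPolynomial (Option (ι ⊕ ζ)) k] BX :=
    Algebra.TensorProduct.lift (Algebra.ofId _ BX) φB (fun _ _ => Commute.all _ _)
  have hagree : ∀ z : CR, hBX (gC z) = Ideal.Quotient.mk KS (algebraMap Λ S (φC z)) := by
    intro z
    induction z using TensorProduct.induction_on with
    | zero => simp
    | tmul x y =>
      have h1 : Ideal.Quotient.mk KS (algebraMap Λ S (φΛ y)) = hBX (φB y) := (φ' y).2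
      change hBX (algebraMap Pr BX (algebraMap _ Pr x) * φB y) = Ideal.Quotient.mk KS (algebraMap Λ S (algebraMap _ Λ x * φΛ y))
      rw [map_mul, hBX.commutes, ← IsScalarTower.algebraMap_apply, map_mul, map_mul, h1]
      rfl
    | add x y hx hy => simp only [map_add, hx, hy]
  have hres : Resolvable (MvPolynomial (Option (ι ⊕ ζ)) k ⧸ K) (quotMap φC K)
      (𝔮.map (Ideal.Quotient.mk (K.map (algebraMap _ Λ)))) := by
    refine resolvable_modStep φC 𝔮 S K (Ideal.map_le_iff_le_comap.2 hKq) ?_ pb (fun x => ?_) Pr BX gC hBX hagree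
    · rw [IsLocalization.AtPrime.map_eq_maximalIdeal 𝔮 S, ← hgS, Ideal.span_le]
      rintro _ ⟨i, rfl⟩
      refine ⟨e i.castSucc * 8, ?_⟩
      have h1 : algebraMap (MvPolynomial (Option (ι ⊕ ζ)) k) S (π i.castSucc ^ 8) ∈ KS :=
        Ideal.mem_map_of_mem _ (Ideal.subset_span ⟨_, rfl⟩)
      simp only [π, ← pow_mul, map_pow] at h1
      rw [IsScalarTower.algebraMap_apply (MvPolynomial (Option (ι ⊕ ζ)) k) Λ S, ← hηS, hπR, map_mul, hψ2, mul_pow] at h1
      exact (Ideal.unit_mul_mem_iff_mem _ (((hωu i).map ηS).pow _)).1 h1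
    · exact Ideal.mem_quotient_iff_mem hKq
  have hfin : Resolvable (MvPolynomial (Option (ι ⊕ ζ)) k) φC 𝔮 := by
    refine S6822.result φC 𝔮 (Nat.succ_pos r) π (fun i => ?_) (fun i x hx => ?_) (fun i x hx => ?_) (fun i => ?_)
      K rfl (quotMap φC K) (fun _ => rfl) hres
    · rw [map_pow]; exact Ideal.pow_mem_of_mem _ (hπq i) _ (he2 i)
    · obtain ⟨z, rfl⟩ := Ideal.Quotient.mk_surjective x
      rw [← map_pow, ← map_mul, Ideal.Quotient.eq_zero_iff_mem] at hx
      rw [← map_mul, Ideal.Quotient.eq_zero_iff_mem]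
      obtain ⟨w, hw⟩ := Ideal.mem_span_range_iff_exists_fun.1 hx
      obtain ⟨w', hw'⟩ := Ideal.mem_span_range_iff_exists_fun.1 (he3 i (0, z) (Ideal.mem_span_range_iff_exists_fun.2
        ⟨fun j => (0, w j), by refine Prod.ext ?_ ?_ <;> simp [π, Prod.fst_sum, Prod.snd_sum] at hw ⊢; exact hw⟩))
      refine Ideal.mem_span_range_iff_exists_fun.2 ⟨fun j => (w' j).2, ?_⟩
      have := congrArg Prod.snd hw'
      simpa [π, Prod.snd_sum] using this
    · obtain ⟨z, rfl⟩ := Ideal.Quotient.mk_surjective x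
      rw [← map_pow, ← map_mul, Ideal.Quotient.eq_zero_iff_mem] at hx
      rw [← map_mul, Ideal.Quotient.eq_zero_iff_mem]
      obtain ⟨w, hw⟩ := Ideal.mem_span_range_iff_exists_fun.1 hx
      obtain ⟨w', hw'⟩ := Ideal.mem_span_range_iff_exists_fun.1 (he3 i (z, 0) (Ideal.mem_span_range_iff_exists_fun.2
        ⟨fun j => (w j, 0), by refine Prod.ext ?_ ?_ <;> simp [π, Prod.fst_sum, Prod.snd_sum] at hw ⊢; exact hw⟩))
      refine Ideal.mem_span_range_iff_exists_fun.2 ⟨fun j => (w' j).1, ?_⟩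
      have := congrArg Prod.fst hw'
      simpa [π, Prod.fst_sum] using this
    · have h := (S6829.result (R' := MvPolynomial (Option (ι ⊕ ζ)) k)
        (algebraMap (MvPolynomial (Fin (r + 1)) k) C0 (X i) ^ e i)).2 (hlb i _ (he1 i))
      convert h using 1
      rw [← map_pow, ← Algebra.TensorProduct.tmul_one_eq_one_tmul, Algebra.TensorProduct.algebraMap_apply]
      congr 1
      rw [Algebra.algebraMap_self, RingHom.id_apply, RingHom.algebraMap_toAlgebra]
      simp [π]
  obtain ⟨B2, _, _, hB2, g2, h2, hgh, hle, hnle⟩ := hfin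
  letI : Algebra k B2 := Algebra.compHom B2 (algebraMap k (MvPolynomial (Option (ι ⊕ ζ)) k))
  haveI : IsScalarTower k (MvPolynomial (Option (ι ⊕ ζ)) k) B2 := IsScalarTower.of_algebraMap_eq fun _ => rfl
  have hsub : singRad (MvPolynomial (Option (ι ⊕ ζ)) k) h2 ≤ singRad k (h2.restrictScalars k) := by
    refine Ideal.radical_mono (Ideal.map_le_iff_le_comap.2 fun b hb => Ideal.mem_map_of_mem _ ?_)
    rw [singularIdeal, PrimeSpectrum.mem_vanishingIdeal] at hb ⊢
    intro Q hQ
    refine hb Q fun h => hQ ?_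
    haveI : Algebra.FormallySmooth (MvPolynomial (Option (ι ⊕ ζ)) k) (Localization.AtPrime Q.asIdeal) := h
    exact Algebra.FormallySmooth.comp k (MvPolynomial (Option (ι ⊕ ζ)) k) (Localization.AtPrime Q.asIdeal)
  let inC : A →ₐ[k] CR :=
    { toRingHom := (Algebra.TensorProduct.includeRight : C0 →ₐ[MvPolynomial (Fin (r + 1)) k] CR).toRingHom.comp ι0.toRingHom
      commutes' := fun c => by
        change (Algebra.TensorProduct.includeRight : C0 →ₐ[MvPolynomial (Fin (r + 1)) k] CR) (ι0 (algebraMap k A c)) = _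
        rw [ι0.commutes, IsScalarTower.algebraMap_apply k (MvPolynomial (Fin (r + 1)) k) C0, AlgHom.commutes,
          IsScalarTower.algebraMap_apply (MvPolynomial (Fin (r + 1)) k) (MvPolynomial (Option (ι ⊕ ζ)) k) CR,
          RingHom.algebraMap_toAlgebra]
        simp only [MvPolynomial.algebraMap_eq, AlgHom.toRingHom_eq_coe, RingHom.coe_coe, aeval_C]
        rfl }
  have hφinC : ∀ x, φC (inC x) = φ x := fun x => by
    change algebraMap _ Λ (1 : MvPolynomial (Option (ι ⊕ ζ)) k) * φΛ (ι0 x) = _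
    rw [map_one, one_mul]
    exact congrArg (fun z : S3 => (z : Λ × BX).1) (hφ' x)
  refine ⟨B2, inferInstance, inferInstance, Algebra.FinitePresentation.trans k (MvPolynomial (Option (ι ⊕ ζ)) k) B2,
    (g2.restrictScalars k).comp inC, h2.restrictScalars k, AlgHom.ext fun z => ?_, ?_, fun h => hnle (hsub.trans h)⟩
  · exact (AlgHom.congr_fun hgh (inC z)).trans (hφinC z)
  · refine le_trans ?_ (hle.trans hsub)
    refine (Ideal.IsRadical.radical_le_iff (Ideal.radical_isRadical _)).2 ?_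
    change I ≤ _
    rw [hI, Ideal.span_le]
    rintro _ ⟨j, rfl⟩
    refine Ideal.le_radical ?_
    change φ (a j) ∈ _
    rw [← hφinC]
    refine Ideal.mem_map_of_mem φC ?_
    haveI := hsm0 j
    haveI hsmC : Algebra.Smooth (MvPolynomial (Option (ι ⊕ ζ)) k) (Localization.Away (inC (a j))) :=
      smooth_away_baseChange (ι0 (a j))
    rw [singularIdeal, PrimeSpectrum.mem_vanishingIdeal]
    intro Q hQ
    by_contra hjQ
    exact hQ (Algebra.basicOpen_subset_smoothLocus_iff_smooth.2 hsmC hjQ)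

end Groth.Agent.SmoothingLib.Insep
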