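import Groth.Agent.SmoothingLib.InsepDiff
import Groth.Agent.RegHomLib.Basic
import Groth.Agent.RegLocal.Basic
import Groth.Agent.MiracleFlatLib.Basic

/-! Flat polynomial bases of local rings that are formally smooth over a field. -/

set_option autoImplicit false
set_option maxSynthPendingDepth 5
universe u

noncomputable section

namespace Groth.Agent.SmoothingLib.Insep

open MvPolynomial IsLocalRing TensorProduct
open KaehlerDifferential (D)

variable {k S : Type u} [Field k] [CommRing S] [IsRegularLocalRing S] [Algebra k S]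
  {ι ζ : Type u} [Fintype ι] [Fintype ζ] [DecidableEq ι] [DecidableEq ζ]

/-- Under the differential condition the base is regular of the same dimension and flat below. -/
theorem exists_parameters_flat (p : ℕ) [Fact p.Prime] [CharP k p]
    [Algebra (MvPolynomial (ι ⊕ ζ) k) S] [IsScalarTower k (MvPolynomial (ι ⊕ ζ) k) S]
    (hinj : Function.Injective (dK k S (ResidueField S)))
    (L : Type u) [Field L] [Algebra k L] [Algebra L (ResidueField S)] [IsScalarTower k L (ResidueField S)]
    (yb : ι → L) (hyb : ∀ i, algebraMap L (ResidueField S) (yb i) =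
      residue S (algebraMap (MvPolynomial (ι ⊕ ζ) k) S (X (Sum.inl i))))
    (hli : LinearIndependent L fun i => D k L (yb i))
    (hz : ∀ l, algebraMap (MvPolynomial (ι ⊕ ζ) k) S (X (Sum.inr l)) ∈ maximalIdeal S)
    (hzli : LinearIndependent (ResidueField S) fun l =>
      (relSpan (k := k) fun i => algebraMap (MvPolynomial (ι ⊕ ζ) k) S (X (Sum.inl i))).mkQ
        ((maximalIdeal S).toCotangent ⟨_, hz l⟩))
    (hspan : relSpan (k := k) (fun i => algebraMap (MvPolynomial (ι ⊕ ζ) k) S (X (Sum.inl i))) ⊔
      Submodule.span (ResidueField S) (Set.range fun l => (maximalIdeal S).toCotangent ⟨_, hz l⟩) = ⊤)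
    (q : Ideal (MvPolynomial (ι ⊕ ζ) k)) [q.IsPrime]
    (hq : q = (maximalIdeal S).comap (algebraMap (MvPolynomial (ι ⊕ ζ) k) S))
    (P : Type u) [CommRing P] [Algebra (MvPolynomial (ι ⊕ ζ) k) P] [IsLocalization.AtPrime P q]
    [Algebra P S] [IsScalarTower (MvPolynomial (ι ⊕ ζ) k) P S] :
    ∃ (r : ℕ) (g : Fin r → MvPolynomial (ι ⊕ ζ) k), (∀ i, g i ∈ q) ∧
      Ideal.span (Set.range fun i => algebraMap _ S (g i)) = maximalIdeal S ∧
      ringKrullDim S = r ∧ Module.Flat P S ∧
      Ideal.span (Set.range fun i => algebraMap _ P (g i)) = q.map (algebraMap _ P) ∧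
      RingTheory.Sequence.IsWeaklyRegular P (List.ofFn fun i => algebraMap _ P (g i)) := by
  classical
  haveI : CharP S p := charP_of_injective_algebraMap (algebraMap k S).injective p
  haveI : IsLocalRing P := IsLocalization.AtPrime.isLocalRing P q
  haveI : IsNoetherianRing P := IsLocalization.isNoetherianRing q.primeCompl _ inferInstance
  haveI : Algebra.Smooth k (MvPolynomial (ι ⊕ ζ) k) := ⟨inferInstance, inferInstance⟩
  haveI : IsRegularRing (MvPolynomial (ι ⊕ ζ) k) := RegHomLib.isRegularRing_of_smooth k _
  haveI : IsRegularLocalRing (Localization.AtPrime q) := IsRegularRing.isRegularLocalRing_localization q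
  haveI : IsRegularLocalRing P := IsRegularLocalRing.of_ringEquiv
    (IsLocalization.algEquiv q.primeCompl (Localization.AtPrime q) P).toRingEquiv
  letI : Algebra k P := Algebra.compHom P (algebraMap k (MvPolynomial (ι ⊕ ζ) k))
  haveI : IsScalarTower k (MvPolynomial (ι ⊕ ζ) k) P := IsScalarTower.of_algebraMap_eq fun _ => rfl
  haveI : CharP P p := charP_of_injective_algebraMap (algebraMap k P).injective p
  have hmax : maximalIdeal P = q.map (algebraMap (MvPolynomial (ι ⊕ ζ) k) P) :=
    (IsLocalization.AtPrime.map_eq_maximalIdeal q P).symm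
  haveI : IsLocalHom (algebraMap P S) := by
    refine ((IsLocalRing.local_hom_TFAE (algebraMap P S)).out 0 2 rfl rfl).mpr ?_
    rw [hmax, Ideal.map_map, ← IsScalarTower.algebraMap_eq, hq]
    exact Ideal.map_comap_le
  -- `q` generates the maximal ideal of `S`
  have hgenS : q.map (algebraMap (MvPolynomial (ι ⊕ ζ) k) S) = maximalIdeal S := by
    refine le_antisymm (hq ▸ Ideal.map_comap_le) ?_
    let s : Set (maximalIdeal S) := {x | (x : S) ∈ q.map (algebraMap (MvPolynomial (ι ⊕ ζ) k) S)}
    have h1 : Submodule.span (ResidueField S) ((maximalIdeal S).toCotangent '' s) = ⊤ := by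
      rw [eq_top_iff, ← hspan, sup_le_iff, relSpan, Submodule.span_le, Submodule.span_le]
      refine ⟨?_, ?_⟩
      · rintro _ ⟨g, hg, rfl⟩
        refine Submodule.subset_span ⟨⟨_, hg⟩, ?_, rfl⟩
        have h2 : ∀ g : MvPolynomial ι k, algebraMap (MvPolynomial (ι ⊕ ζ) k) S (rename Sum.inl g) =
            aeval (fun i => algebraMap (MvPolynomial (ι ⊕ ζ) k) S (X (Sum.inl i))) g := by
          have : (IsScalarTower.toAlgHom k (MvPolynomial (ι ⊕ ζ) k) S).comp (rename Sum.inl) =
              aeval (fun i => algebraMap (MvPolynomial (ι ⊕ ζ) k) S (X (Sum.inl i))) :=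
            MvPolynomial.algHom_ext fun i => by simp
          exact fun g => AlgHom.congr_fun this g
        change aeval _ g ∈ q.map _
        rw [← h2]
        refine Ideal.mem_map_of_mem _ ?_
        rw [hq, Ideal.mem_comap, h2]
        exact hg
      · rintro _ ⟨l, rfl⟩
        exact Submodule.subset_span ⟨⟨_, hz l⟩, Ideal.mem_map_of_mem _ (hq ▸ hz l), rfl⟩
    have h3 := IsLocalRing.CotangentSpace.span_image_eq_top_iff.1 h1
    intro x hx
    have h4 : (⟨x, hx⟩ : maximalIdeal S) ∈ Submodule.span S s := by rw [h3]; trivial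
    have h5 : Submodule.span S s ≤ Submodule.comap (maximalIdeal S).subtype (q.map (algebraMap _ S)) :=
      Submodule.span_le.2 fun y hy => hy
    exact h5 h4
  -- generators
  let n := (maximalIdeal P).spanFinrank
  obtain ⟨x, hx⟩ := RegLocal.exists_generators P
  choose num hnum using fun i => IsLocalization.surj q.primeCompl (x i)
  let g : Fin n → MvPolynomial (ι ⊕ ζ) k := fun i => (num i).1
  have hgP : Ideal.span (Set.range fun i => algebraMap _ P (g i)) = maximalIdeal P := by
    rw [← hx]
    refine le_antisymm (Ideal.span_le.2 ?_) (Ideal.span_le.2 ?_)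
    · rintro _ ⟨i, rfl⟩
      simp only [g, ← hnum i]
      exact Ideal.mul_mem_right _ _ (Ideal.subset_span ⟨i, rfl⟩)
    · rintro _ ⟨i, rfl⟩
      have h2 : algebraMap _ P (g i) ∈ Ideal.span (Set.range fun i => algebraMap _ P (g i)) :=
        Ideal.subset_span ⟨i, rfl⟩
      simp only [g, ← hnum i] at h2
      exact (Ideal.mul_unit_mem_iff_mem _ (IsLocalization.map_units P (num i).2)).1 h2
  have hgm : ∀ i, algebraMap _ P (g i) ∈ maximalIdeal P := fun i => hgP ▸ Ideal.subset_span ⟨i, rfl⟩
  have hgq : ∀ i, g i ∈ q := fun i => (IsLocalization.AtPrime.to_map_mem_maximal_iff P q _).1 (hgm i)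
  have hgS : Ideal.span (Set.range fun i => algebraMap _ S (g i)) = maximalIdeal S := by
    have h1 := congrArg (Ideal.map (algebraMap P S)) (hgP.trans hmax)
    rw [Ideal.map_map, ← IsScalarTower.algebraMap_eq, hgenS, Ideal.map_span, ← Set.range_comp] at h1
    rw [← h1]
    exact congrArg (fun f => Ideal.span (Set.range f))
      (funext fun i => IsScalarTower.algebraMap_apply (MvPolynomial (ι ⊕ ζ) k) P S (g i))
  have hmS : ∀ i, algebraMap _ S (g i) ∈ maximalIdeal S := fun i => hgS ▸ Ideal.subset_span ⟨i, rfl⟩
  -- cotangent independence downstairs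
  let vP : Fin n → CotangentSpace P := fun i => (maximalIdeal P).toCotangent ⟨_, hgm i⟩
  have hspanP : Submodule.span (ResidueField P) (Set.range vP) = ⊤ := by
    have : Set.range vP = (maximalIdeal P).toCotangent '' (Set.range fun i => (⟨_, hgm i⟩ : maximalIdeal P)) := by
      rw [← Set.range_comp]; rfl
    rw [this, IsLocalRing.CotangentSpace.span_image_eq_top_iff]
    apply Submodule.map_injective_of_injective (maximalIdeal P).injective_subtype
    rw [Submodule.map_span, ← Set.range_comp, Submodule.map_top, Submodule.range_subtype]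
    exact hgP
  have hliP : LinearIndependent (ResidueField P) vP :=
    linearIndependent_of_top_le_span_of_card_eq_finrank hspanP.ge
      (by rw [Fintype.card_fin]; exact spanFinrank_maximalIdeal_eq_finrank_cotangentSpace (R := P))
  let con := (FieldExtLib.conormal P).extendScalarsOfSurjective (R := P) (S := ResidueField P) residue_surjective
  have hliC : LinearIndependent (ResidueField P) (con ∘ vP) :=
    hliP.map' con (LinearMap.ker_eq_bot.2 (FieldExtLib.conormal_injective P p))
  have hliK := linearIndependent_tmul (K := ResidueField S) (con ∘ vP) hliC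
  let cbc := TensorProduct.AlgebraTensorModule.cancelBaseChange P (ResidueField P) (ResidueField S) (ResidueField S) Ω[P⁄ℤ]
  have hliK' := hliK.map' cbc.toLinearMap cbc.ker
  have hval : ∀ i, cbc.toLinearMap ((1 : ResidueField S) ⊗ₜ[ResidueField P] (con ∘ vP) i) =
      (1 : ResidueField S) ⊗ₜ[P] D ℤ P (algebraMap _ P (g i)) := fun i => by
    change cbc ((1 : ResidueField S) ⊗ₜ FieldExtLib.conormal P (vP i)) = _
    rw [FieldExtLib.conormal_toCotangent]
    simp [cbc]
  let vS : Fin n → CotangentSpace S := fun i => (maximalIdeal S).toCotangent ⟨_, hmS i⟩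
  have hliS : LinearIndependent (ResidueField S) vS := by
    rw [Fintype.linearIndependent_iff]
    intro c hc
    have h0 := eq_zero_of_cotangent p hinj L yb hyb hli hz hzli (n := ULift.{u} (Fin n)) (fun i => g i.down)
      (fun i => hmS i.down) (fun i => c i.down) (by
        rw [← hc]
        exact Fintype.sum_equiv Equiv.ulift _ _ fun _ => rfl)
    have h1 := congrArg (dK (MvPolynomial (ι ⊕ ζ) k) P (ResidueField S)) h0
    refine Fintype.linearIndependent_iff.1 hliK' c ?_
    refine (Fintype.sum_equiv Equiv.ulift _ _ fun i => ?_).symm.trans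
      ((map_sum _ _ _).symm.trans (h1.trans (map_zero _)))
    exact (LinearMap.map_smul _ _ _).trans (congrArg _ ((dK_tmul _ _ _ _ _).trans (hval i.down).symm))
  obtain ⟨d, hd⟩ := RegLocal.exists_nat_ringKrullDim (R := S)
  have hδ : (maximalIdeal S).spanFinrank = d := by
    have := IsRegularLocalRing.spanFinrank_maximalIdeal (R := S)
    rw [hd] at this
    exact_mod_cast this
  have hnd : n = d := by
    refine le_antisymm ?_ ?_
    · have := hliS.fintype_card_le_finrank
      rwa [Fintype.card_fin, ← spanFinrank_maximalIdeal_eq_finrank_cotangentSpace, hδ] at this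
    · rw [← hδ, ← hgS]
      refine (Submodule.spanFinrank_span_le_ncard_of_finite (Set.finite_range _)).trans ?_
      rw [← Set.image_univ]
      exact (Set.ncard_image_le Set.finite_univ).trans (by simp)
  have hdimS : ringKrullDim S = (n : ℕ) := by rw [hd, hnd]
  have hdimP : ringKrullDim P = (n : ℕ) := (IsRegularLocalRing.spanFinrank_maximalIdeal (R := P)).symm
  have hPreg : RingTheory.Sequence.IsWeaklyRegular P (List.ofFn fun i => algebraMap _ P (g i)) :=
    (RegLocal.isRegular_of_generators P hdimP _ hgP).toIsWeaklyRegular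
  have hflat : Module.Flat P S := by
    refine MiracleFlatLib.flat_of_isWeaklyRegular n P S (List.ofFn fun i => algebraMap _ P (g i))
      (List.length_ofFn) ?_ hPreg ?_
    · rw [← hgP, Ideal.ofList]
      congr 1
      ext z
      simp [List.mem_ofFn]
    · have h := (RegLocal.isRegular_of_generators S hdimS _ hgS).toIsWeaklyRegular
      rw [← RingTheory.Sequence.isWeaklyRegular_map_algebraMap_iff S S, List.map_ofFn]
      convert h using 2
      funext i
      exact (IsScalarTower.algebraMap_apply (MvPolynomial (ι ⊕ ζ) k) P S (g i)).symm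
  exact ⟨n, g, hgq, hgS, hdimS, hflat, hgP.trans hmax, hPreg⟩

end Groth.Agent.SmoothingLib.Insep
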