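import Groth.Agent.SmoothingLib.InsepBase
import Groth.Agent.CohenPresLib.Imperfect
import Groth.Agent.S6854

/-! A polynomial base adapted to an Artinian subalgebra. -/

set_option autoImplicit false
set_option maxSynthPendingDepth 5
universe u

noncomputable section

namespace Groth.Agent.SmoothingLib.Insep

open MvPolynomial IsLocalRing TensorProduct
open KaehlerDifferential (D)

/-- Formal smoothness gives injectivity on differentials. -/
theorem dK_injective {k S : Type u} [Field k] [CommRing S] [IsLocalRing S] [IsNoetherianRing S] [Algebra k S]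
    (hFS : CAlgX.IsAdicFormallySmooth k S (maximalIdeal S)) :
    Function.Injective (dK k S (ResidueField S)) := by
  have h := (CohenPresLib.diffBaseMap_injective_iff (k := k) (A := S) (K := ResidueField S) residue_surjective).1
    (S2471.result.1 hFS).2
  have e : dK k S (ResidueField S) = CohenPresLib.diffBaseMap (k := k) (K := ResidueField S) (A := S) :=
    hom_ext fun x => by
      rw [dK_tmul, CohenPresLib.diffBaseMap_tmul, KaehlerDifferential.map_D]
  rw [e]
  exact h

/-- The residue field of a formally smooth algebra has finite `H₁`. -/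
theorem h1Cotangent_finite {k S K : Type u} [Field k] [CommRing S] [IsLocalRing S] [IsNoetherianRing S] [Algebra k S]
    [Field K] [Algebra k K] [Algebra S K] [IsScalarTower k S K] (hsurj : Function.Surjective (algebraMap S K))
    (hFS : CAlgX.IsAdicFormallySmooth k S (maximalIdeal S)) : Module.Finite K (Algebra.H1Cotangent k K) := by
  haveI := CohenPresLib.imperfection_finite hsurj hFS
  obtain ⟨e⟩ := FieldExtLib.nonempty_h1_equiv_imperfection k K
  exact Module.Finite.equiv e.symm

/-- A separable piece: an extension generated up to differentials by elements of the base is separable. -/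
theorem isGeometricallyReduced_of_span {k F L : Type u} [Field k] [Field F] [Field L] [Algebra k F] [Algebra k L]
    [Algebra F L] [IsScalarTower k F L] [Algebra.EssFiniteType k L] {ι : Type u} (yb : ι → L)
    (hspan : Submodule.span L (Set.range fun i => D k L (yb i)) = ⊤)
    (hy : ∀ i, yb i ∈ Set.range (algebraMap F L)) : Algebra.IsGeometricallyReduced F L := by
  haveI : Algebra.EssFiniteType F L := Algebra.EssFiniteType.of_comp k F L
  haveI : Algebra.FormallyUnramified F L := by
    constructor
    refine subsingleton_of_forall_eq 0 fun ω => ?_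
    obtain ⟨ω', rfl⟩ := KaehlerDifferential.map_surjective_of_surjective k F L L Function.surjective_id ω
    have : ω' ∈ Submodule.span L (Set.range fun i => D k L (yb i)) := by rw [hspan]; trivial
    induction this using Submodule.span_induction with
    | mem x hx =>
      obtain ⟨i, rfl⟩ := hx
      obtain ⟨f, hf⟩ := hy i
      rw [KaehlerDifferential.map_D, ← hf]
      simp
    | zero => rw [map_zero]
    | add x y _ _ hx hy => rw [map_add, hx, hy, add_zero]
    | smul c x _ hx => rw [map_smul, hx, smul_zero]
  haveI : Algebra.IsSeparable F L := Algebra.FormallyUnramified.isSeparable F L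
  haveI : Algebra.FormallyEtale F L := Algebra.FormallyEtale.of_isSeparable F L
  exact FieldExtLib.formallySmooth_iff_isGeometricallyReduced.1 inferInstance

/-- A polynomial base adapted to a finite subset of an Artinian quotient. -/
theorem exists_data {k S : Type u} [Field k] (p : ℕ) [Fact p.Prime] [CharP k p] [CommRing S] [IsRegularLocalRing S]
    [Algebra k S] (hFS : CAlgX.IsAdicFormallySmooth k S (maximalIdeal S)) (M : ℕ) (hM : 2 ≤ M)
    (E : Finset (S ⧸ maximalIdeal S ^ M)) :
    ∃ (ι ζ : Type u) (_ : Fintype ι) (_ : Fintype ζ) (_ : DecidableEq ι) (_ : DecidableEq ζ) (τ : ι ⊕ ζ → S)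
      (A' : Subalgebra k (S ⧸ maximalIdeal S ^ M)) (_ : IsLocalRing A'),
      (↑E : Set (S ⧸ maximalIdeal S ^ M)) ⊆ A' ∧ Module.Flat A' (S ⧸ maximalIdeal S ^ M) ∧
      (maximalIdeal A').map (algebraMap A' (S ⧸ maximalIdeal S ^ M)) =
        (maximalIdeal S).map (Ideal.Quotient.mk _) ∧
      Algebra.EssFiniteType k (ResidueField A') ∧
      ∃ (hτ : ∀ j, Ideal.Quotient.mk _ (τ j) ∈ A'),
        Submodule.span (ResidueField A') (Set.range fun i => D k (ResidueField A')
          (residue A' ⟨_, hτ (Sum.inl i)⟩)) = ⊤ ∧
        (∀ (q : Ideal (MvPolynomial (ι ⊕ ζ) k)) [q.IsPrime] (_ : q = (maximalIdeal S).comap (aeval τ))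
          (P : Type u) [CommRing P] [Algebra (MvPolynomial (ι ⊕ ζ) k) P] [IsLocalization.AtPrime P q]
          [Algebra P S] (_ : ∀ x, algebraMap P S (algebraMap (MvPolynomial (ι ⊕ ζ) k) P x) = aeval τ x),
          ∃ (r : ℕ) (g : Fin r → MvPolynomial (ι ⊕ ζ) k), (∀ i, g i ∈ q) ∧
            Ideal.span (Set.range fun i => aeval τ (g i)) = maximalIdeal S ∧
            ringKrullDim S = r ∧ Module.Flat P S ∧
            Ideal.span (Set.range fun i => algebraMap _ P (g i)) = q.map (algebraMap _ P) ∧
            RingTheory.Sequence.IsWeaklyRegular P (List.ofFn fun i => algebraMap _ P (g i))) := by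
  classical
  let m := maximalIdeal S
  let T := S ⧸ m ^ M
  haveI : Nontrivial T := Ideal.Quotient.nontrivial_iff.2 fun h =>
    (maximalIdeal.isMaximal S).ne_top (top_le_iff.1 (h ▸ Ideal.pow_le_self (by omega)))
  haveI : IsLocalRing T := IsLocalRing.of_surjective' (Ideal.Quotient.mk (m ^ M)) Ideal.Quotient.mk_surjective
  have hmT : maximalIdeal T = m.map (Ideal.Quotient.mk (m ^ M)) :=
    ((IsLocalRing.eq_maximalIdeal (Ideal.map_eq_top_or_isMaximal_of_surjective _ Ideal.Quotient.mk_surjective
      (maximalIdeal.isMaximal S) |>.resolve_left fun h => by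
        rw [Ideal.eq_top_iff_one, Ideal.mem_map_iff_of_surjective _ Ideal.Quotient.mk_surjective] at h
        obtain ⟨x, hx, hx1⟩ := h
        rw [← map_one (Ideal.Quotient.mk (m ^ M)), Ideal.Quotient.eq] at hx1
        have := m.sub_mem hx (Ideal.pow_le_self (by omega) hx1)
        rw [sub_sub_cancel] at this
        exact (maximalIdeal.isMaximal S).ne_top ((Ideal.eq_top_iff_one _).2 this))).symm : _)
  haveI : IsArtinianRing T := by
    haveI : Ring.KrullDimLE 0 T := Ring.KrullDimLE.mk₀ fun P hP => by
      haveI := hP
      have : maximalIdeal T ≤ P := by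
        rw [hmT, Ideal.map_le_iff_le_comap]
        intro x hx
        refine (hP.comap (Ideal.Quotient.mk (m ^ M))).mem_of_pow_mem M ?_
        rw [Ideal.mem_comap, Ideal.Quotient.eq_zero_iff_mem.2 (Ideal.pow_mem_pow hx M)]
        exact zero_mem _
      rw [← (maximalIdeal.isMaximal T).eq_of_le hP.ne_top this]
      infer_instance
    exact IsNoetherianRing.isArtinianRing_of_krullDimLE_zero
  haveI : IsScalarTower k S (ResidueField T) := IsScalarTower.of_algebraMap_eq fun c => rfl
  have hH : Module.Finite (ResidueField T) (Algebra.H1Cotangent k (ResidueField T)) := by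
    refine h1Cotangent_finite (S := S) (fun x => ?_) hFS
    obtain ⟨x, rfl⟩ := residue_surjective x
    obtain ⟨x, rfl⟩ := Ideal.Quotient.mk_surjective x
    exact ⟨x, rfl⟩
  obtain ⟨A', hloc, hE, hArt, hflat, hess, hmax⟩ := S6854.result p hH E
  haveI := hess
  haveI := hflat
  -- the residue field inside `K`
  let K := ResidueField S
  let π : T →+* ResidueField S := Ideal.Quotient.lift (m ^ M) (residue S) fun x hx =>
    (residue_eq_zero_iff x).2 (Ideal.pow_le_self (by omega) hx)
  have hπ : ∀ x ∈ maximalIdeal T, π x = 0 := by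
    intro x hx
    rw [hmT, Ideal.mem_map_iff_of_surjective _ Ideal.Quotient.mk_surjective] at hx
    obtain ⟨y, hy, rfl⟩ := hx
    exact (residue_eq_zero_iff y).2 hy
  let πA : ResidueField A' →+* ResidueField S := Ideal.Quotient.lift (maximalIdeal A') (π.comp A'.val.toRingHom)
    fun x hx => hπ _ (hmax ▸ Ideal.mem_map_of_mem (algebraMap A' T) hx)
  letI : Algebra (ResidueField A') (ResidueField S) := πA.toAlgebra
  haveI : IsScalarTower k (ResidueField A') (ResidueField S) := IsScalarTower.of_algebraMap_eq fun c => rfl
  haveI : Algebra.EssFiniteType k (ResidueField A') := Algebra.EssFiniteType.comp k A' (ResidueField A')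
  -- the differential basis
  obtain ⟨b, hb, hbspan, hbli⟩ := exists_linearIndependent (ResidueField A') (Set.range (D k (ResidueField A')))
  rw [KaehlerDifferential.span_range_derivation] at hbspan
  haveI : Fintype b := hbli.setFinite.fintype
  choose yb hyb using fun i : b => hb i.2
  choose ya hya using fun i : b => residue_surjective (yb i)
  choose yS hyS using fun i : b => Ideal.Quotient.mk_surjective (ya i : T)
  have hspanD : Submodule.span (ResidueField A') (Set.range fun i => D k (ResidueField A') (yb i)) = ⊤ := by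
    rw [← hbspan]
    congr 1
    ext z
    simp [hyb]
  have hliD : LinearIndependent (ResidueField A') fun i => D k (ResidueField A') (yb i) := by
    simp only [hyb]
    exact hbli
  -- the complement
  haveI : IsArtinianRing A' := hArt
  obtain ⟨nw, w, hw⟩ := Submodule.fg_iff_exists_fin_generating_family.1 (IsNoetherian.noetherian (maximalIdeal A'))
  choose wS hwS using fun l => Ideal.Quotient.mk_surjective (w l : T)
  have hwm' : ∀ l, w l ∈ maximalIdeal A' := fun l => by rw [← hw]; exact Submodule.subset_span ⟨l, rfl⟩
  have hwm : ∀ l, wS l ∈ m := fun l => by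
    have h1 := hπ _ (hmax ▸ Ideal.mem_map_of_mem (algebraMap A' T) (hwm' l))
    change π (w l : T) = 0 at h1
    rw [← hwS l] at h1
    exact (residue_eq_zero_iff _).1 h1
  have hgen : m ≤ Ideal.span (Set.range wS) ⊔ m • m := by
    intro x hx
    have h1 : Ideal.Quotient.mk (m ^ M) x ∈ (maximalIdeal A').map (algebraMap A' T) := by
      rw [hmax, hmT]; exact Ideal.mem_map_of_mem _ hx
    rw [← hw, ← Ideal.span, Ideal.map_span, ← Set.range_comp] at h1
    have h2 : algebraMap A' T ∘ w = Ideal.Quotient.mk (m ^ M) ∘ wS := funext fun l => (hwS l).symm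
    rw [h2, Set.range_comp, ← Ideal.map_span, Ideal.mem_map_iff_of_surjective _ Ideal.Quotient.mk_surjective] at h1
    obtain ⟨y, hy, hyx⟩ := h1
    rw [Ideal.Quotient.eq] at hyx
    have h3 : y - x ∈ m • m := by
      rw [smul_eq_mul, ← pow_two]
      exact Ideal.pow_le_pow_right hM hyx
    have := Submodule.add_mem_sup hy (neg_mem h3)
    rwa [neg_sub, add_sub_cancel] at this
  let vS : Fin nw → CotangentSpace S := fun l => m.toCotangent ⟨wS l, hwm l⟩
  have hspanS : Submodule.span (ResidueField S) (Set.range vS) = ⊤ := by
    have : Set.range vS = m.toCotangent '' (Set.range fun l => (⟨wS l, hwm l⟩ : m)) := by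
      rw [← Set.range_comp]; rfl
    rw [this, IsLocalRing.CotangentSpace.span_image_eq_top_iff]
    apply Submodule.map_injective_of_injective m.injective_subtype
    rw [Submodule.map_span, ← Set.range_comp, Submodule.map_top, Submodule.range_subtype]
    refine le_antisymm (Submodule.span_le.2 ?_) ?_
    · rintro _ ⟨l, rfl⟩; exact hwm l
    · exact Submodule.le_of_le_smul_of_le_jacobson_bot (IsNoetherian.noetherian _)
        (IsLocalRing.maximalIdeal_le_jacobson ⊥) hgen
  let W : Submodule (ResidueField S) (CotangentSpace S) := relSpan (k := k) yS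
  obtain ⟨c, hcsub, hcspan, hcli⟩ := exists_linearIndependent (ResidueField S) (Set.range (W.mkQ ∘ vS))
  haveI : Fintype c := ((Set.finite_range _).subset hcsub).fintype
  choose idx hidx using fun l : c => hcsub l.2
  let τ : (b ⊕ c) → S := Sum.elim yS (fun l => wS (idx l))
  have hτ : ∀ j, Ideal.Quotient.mk (m ^ M) (τ j) ∈ A' := by
    rintro (i | l)
    · simp only [τ, Sum.elim_inl, hyS]; exact (ya i).2
    · simp only [τ, Sum.elim_inr, hwS]; exact (w (idx l)).2
  have hres : ∀ i, (residue A' ⟨_, hτ (Sum.inl i)⟩) = yb i := fun i => by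
    rw [← hya i]
    congr 1
    exact Subtype.ext (hyS i)
  refine ⟨b, c, inferInstance, inferInstance, inferInstance, inferInstance, τ, A', hloc, hE, hflat,
    hmax.trans hmT, inferInstance, hτ,
    (congrArg (Submodule.span _) (congrArg Set.range (funext fun i => congrArg _ (hres i)))).trans hspanD, fun q _ hq P _ _ _ _ hP => ?_⟩
  letI : Algebra (MvPolynomial (b ⊕ c) k) S := (aeval τ).toRingHom.toAlgebra
  haveI : IsScalarTower k (MvPolynomial (b ⊕ c) k) S :=
    IsScalarTower.of_algebraMap_eq fun x => ((aeval τ).commutes x).symm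
  haveI : IsScalarTower (MvPolynomial (b ⊕ c) k) P S := IsScalarTower.of_algebraMap_eq fun x => (hP x).symm
  have hX : ∀ j, algebraMap (MvPolynomial (b ⊕ c) k) S (X j) = τ j := fun j => aeval_X τ j
  have hy' : (fun i => algebraMap (MvPolynomial (b ⊕ c) k) S (X (Sum.inl i))) = yS := funext fun i => hX _
  have hz : ∀ l, algebraMap (MvPolynomial (b ⊕ c) k) S (X (Sum.inr l)) ∈ m := fun l => by
    rw [hX]; exact hwm _
  have hzv : ∀ l : c, W.mkQ (m.toCotangent ⟨_, hz l⟩) = (l : CotangentSpace S ⧸ W) := fun l => by
    rw [← hidx l]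
    exact congrArg (fun x => W.mkQ (m.toCotangent x)) (Subtype.ext (hX _))
  refine exists_parameters_flat p (dK_injective hFS) (ResidueField A') yb (fun i => ?_) hliD hz ?_ ?_ q hq P
  · rw [← hya i, hX]
    change π (ya i : T) = _
    rw [← hyS i]
    rfl
  · rw [hy']
    change LinearIndependent (ResidueField S) fun l => W.mkQ (m.toCotangent ⟨_, hz l⟩)
    simp only [hzv]
    exact hcli
  · rw [hy']
    have h1 : Submodule.map W.mkQ (Submodule.span (ResidueField S)
        (Set.range fun l => m.toCotangent ⟨_, hz l⟩)) = ⊤ := by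
      rw [Submodule.map_span, ← Set.range_comp]
      have : (W.mkQ ∘ fun l : c => m.toCotangent ⟨_, hz l⟩) = Subtype.val := funext hzv
      rw [this, Subtype.range_coe, hcspan, Set.range_comp, ← Submodule.map_span, hspanS, Submodule.map_top,
        Submodule.range_mkQ]
    have h2 := congrArg (Submodule.comap W.mkQ) h1
    rwa [Submodule.comap_map_eq, Submodule.ker_mkQ, Submodule.comap_top, sup_comm] at h2

end Groth.Agent.SmoothingLib.Insep
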