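import Groth.Agent.FieldExtLib.ResidueDiff
import Groth.Agent.SmoothingLib.Delocalize
import Mathlib

/-! Differentials along a polynomial ring mapping to a local algebra over a field. -/

set_option autoImplicit false
set_option maxSynthPendingDepth 5
universe u

noncomputable section

namespace Groth.Agent.SmoothingLib.Insep

open MvPolynomial IsLocalRing TensorProduct
open KaehlerDifferential (D)

section dK

variable (R S K : Type u) [CommRing R] [CommRing S] [CommRing K] [Algebra R S] [Algebra S K] [Algebra R K]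
  [IsScalarTower R S K]

/-- `K ⊗ Ω_R → K ⊗ Ω_S`. -/
def dK : K ⊗[R] Ω[R⁄ℤ] →ₗ[K] K ⊗[S] Ω[S⁄ℤ] :=
  LinearMap.liftBaseChange K
    { toFun := fun w => (1 : K) ⊗ₜ[S] KaehlerDifferential.map ℤ ℤ R S w
      map_add' := fun a b => by rw [map_add, TensorProduct.tmul_add]
      map_smul' := fun r w => by
        rw [RingHom.id_apply, LinearMap.map_smul, ← IsScalarTower.algebraMap_smul S r, TensorProduct.tmul_smul,
          IsScalarTower.algebraMap_smul] }

theorem dK_tmul (c : K) (x : R) : dK R S K (c ⊗ₜ[R] D ℤ R x) = c ⊗ₜ[S] D ℤ S (algebraMap R S x) := by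
  rw [dK, LinearMap.liftBaseChange_tmul]
  change c • ((1 : K) ⊗ₜ[S] KaehlerDifferential.map ℤ ℤ R S (D ℤ R x)) = _
  rw [KaehlerDifferential.map_D, TensorProduct.smul_tmul', smul_eq_mul, mul_one]

end dK

/-- Linear maps out of `K ⊗ Ω` are determined on differentials. -/
theorem hom_ext {R K M : Type u} [CommRing R] [CommRing K] [Algebra R K] [AddCommGroup M] [Module K M]
    {f g : K ⊗[R] Ω[R⁄ℤ] →ₗ[K] M} (h : ∀ x : R, f ((1 : K) ⊗ₜ[R] D ℤ R x) = g ((1 : K) ⊗ₜ[R] D ℤ R x)) :
    f = g := by
  letI : Module R M := Module.compHom M (algebraMap R K)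
  haveI : IsScalarTower R K M := IsScalarTower.of_algebraMap_smul fun _ _ => rfl
  refine TensorProduct.AlgebraTensorModule.curry_injective (LinearMap.ext_ring
    (LinearMap.ext_on (KaehlerDifferential.span_range_derivation ℤ R) ?_))
  rintro _ ⟨x, rfl⟩
  exact h x

theorem dK_comp (R S T K : Type u) [CommRing R] [CommRing S] [CommRing T] [CommRing K] [Algebra R S] [Algebra S T]
    [Algebra R T] [IsScalarTower R S T] [Algebra T K] [Algebra S K] [Algebra R K] [IsScalarTower R S K]
    [IsScalarTower S T K] [IsScalarTower R T K] (w : K ⊗[R] Ω[R⁄ℤ]) :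
    dK S T K (dK R S K w) = dK R T K w := by
  have : dK S T K ∘ₗ dK R S K = dK R T K := hom_ext fun x => by
    rw [LinearMap.comp_apply, dK_tmul, dK_tmul, dK_tmul, ← IsScalarTower.algebraMap_apply]
  exact LinearMap.congr_fun this w

/-- Linear independence survives extension of the field of scalars. -/
theorem linearIndependent_tmul {L K M : Type u} [Field L] [Field K] [Algebra L K] [AddCommGroup M] [Module L M]
    {ι : Type*} (v : ι → M) (hv : LinearIndependent L v) :
    LinearIndependent K fun i => (1 : K) ⊗ₜ[L] v i := by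
  classical
  rw [linearIndependent_iff']
  intro s c hc i hi
  let f : ((s → L)) →ₗ[L] M := Fintype.linearCombination L fun j : s => v j
  have hf : Function.Injective f :=
    linearIndependent_iff_injective_fintypeLinearCombination.1 (hv.comp _ Subtype.val_injective)
  obtain ⟨g, hg⟩ := f.exists_leftInverse_of_injective (LinearMap.ker_eq_bot.2 hf)
  let φ : M →ₗ[L] L := (LinearMap.proj ⟨i, hi⟩).comp g
  have hφ : ∀ j : s, φ (v j) = if j = ⟨i, hi⟩ then 1 else 0 := fun j => by
    have h1 : f (Pi.single j 1) = v j := by simp [f, Fintype.linearCombination_apply, Pi.single_apply]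
    rw [← h1]
    change g (f (Pi.single j 1)) ⟨i, hi⟩ = _
    rw [show g (f (Pi.single j 1)) = Pi.single j 1 from LinearMap.congr_fun hg _, Pi.single_apply]
    simp [eq_comm]
  have h2 := congrArg (((Algebra.linearMap L K).comp φ).liftBaseChange K) hc
  rw [map_sum, map_zero] at h2
  rw [Finset.sum_eq_single i] at h2
  · simpa [hφ ⟨i, hi⟩] using h2
  · intro j hj hne
    have : φ (v j) = 0 := by
      rw [hφ ⟨j, hj⟩, if_neg fun h => hne (congrArg Subtype.val h)]
    simp [this]
  · exact fun h => absurd hi h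

section poly

variable {k : Type u} [Field k] {σ : Type u} [Fintype σ] [DecidableEq σ] {K : Type u} [Field K]
  [Algebra k K] [Algebra (MvPolynomial σ k) K] [IsScalarTower k (MvPolynomial σ k) K]

/-- The `j`-th coordinate of a differential. -/
def coord (j : σ) : K ⊗[MvPolynomial σ k] Ω[MvPolynomial σ k⁄ℤ] →ₗ[K] K :=
  LinearMap.liftBaseChange K
    (((pderiv j : Derivation k (MvPolynomial σ k) (MvPolynomial σ k)).restrictScalars ℤ).liftKaehlerDifferential |>
      (Algebra.linearMap (MvPolynomial σ k) K).comp)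

theorem coord_D (j : σ) (x : MvPolynomial σ k) :
    coord (K := K) j ((1 : K) ⊗ₜ D ℤ _ x) = algebraMap (MvPolynomial σ k) K (pderiv j x) := by
  rw [coord, LinearMap.liftBaseChange_tmul, one_smul, LinearMap.comp_apply,
    Derivation.liftKaehlerDifferential_comp_D]
  rfl

theorem sub_coord_mem (w : K ⊗[MvPolynomial σ k] Ω[MvPolynomial σ k⁄ℤ]) :
    w - ∑ j, coord j w • ((1 : K) ⊗ₜ D ℤ (MvPolynomial σ k) (X j)) ∈
      LinearMap.range (dK k (MvPolynomial σ k) K) := by
  let N := LinearMap.range (dK k (MvPolynomial σ k) K)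
  let T : K ⊗[MvPolynomial σ k] Ω[MvPolynomial σ k⁄ℤ] →ₗ[K] K ⊗[MvPolynomial σ k] Ω[MvPolynomial σ k⁄ℤ] :=
    LinearMap.id - ∑ j, (coord j).smulRight ((1 : K) ⊗ₜ D ℤ (MvPolynomial σ k) (X j))
  have hT : ∀ w, T w = w - ∑ j, coord j w • ((1 : K) ⊗ₜ D ℤ (MvPolynomial σ k) (X j)) := fun w => by
    simp only [T, LinearMap.sub_apply, LinearMap.id_apply, LinearMap.sum_apply, LinearMap.smulRight_apply]
  have h1 : ∀ x, T ((1 : K) ⊗ₜ D ℤ _ x) ∈ N := by
    intro x
    induction x using MvPolynomial.induction_on with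
    | C a =>
      refine ⟨(1 : K) ⊗ₜ D ℤ k a, ?_⟩
      rw [hT, dK_tmul, Finset.sum_eq_zero (fun j _ => by rw [coord_D, pderiv_C, map_zero, zero_smul]), sub_zero]
      rfl
    | add p q hp hq =>
      rw [map_add, TensorProduct.tmul_add, map_add]
      exact add_mem hp hq
    | mul_X p l hp =>
      have h2 : (1 : K) ⊗ₜ[MvPolynomial σ k] D ℤ (MvPolynomial σ k) (p * X l) =
          algebraMap (MvPolynomial σ k) K p • ((1 : K) ⊗ₜ D ℤ (MvPolynomial σ k) (X l)) +
            algebraMap (MvPolynomial σ k) K (X l) • ((1 : K) ⊗ₜ D ℤ (MvPolynomial σ k) p) := by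
        rw [Derivation.leibniz, TensorProduct.tmul_add, IsScalarTower.algebraMap_smul,
          IsScalarTower.algebraMap_smul, TensorProduct.smul_tmul', TensorProduct.smul_tmul',
          TensorProduct.tmul_smul, TensorProduct.tmul_smul, TensorProduct.smul_tmul', TensorProduct.smul_tmul']
      have h3 : T ((1 : K) ⊗ₜ D ℤ (MvPolynomial σ k) (X l)) = 0 := by
        rw [hT, Finset.sum_eq_single l]
        · rw [coord_D, pderiv_X_self, map_one, one_smul, sub_self]
        · intro j _ hj
          rw [coord_D, pderiv_X_of_ne (Ne.symm hj), map_zero, zero_smul]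
        · exact fun h => absurd (Finset.mem_univ _) h
      rw [h2, map_add, map_smul, map_smul, h3, smul_zero, zero_add]
      exact N.smul_mem _ hp
  have hle : (⊤ : Submodule K (K ⊗[MvPolynomial σ k] Ω[MvPolynomial σ k⁄ℤ])) ≤ N.comap T := by
    intro z hz
    clear hz
    rw [Submodule.mem_comap]
    induction z using TensorProduct.induction_on with
    | zero => rw [map_zero]; exact zero_mem _
    | tmul c ω =>
      have hω : ω ∈ Submodule.span (MvPolynomial σ k) (Set.range (D ℤ (MvPolynomial σ k))) := by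
        rw [KaehlerDifferential.span_range_derivation]; trivial
      induction hω using Submodule.span_induction generalizing c with
      | mem y hy =>
        obtain ⟨x, rfl⟩ := hy
        rw [show c ⊗ₜ[MvPolynomial σ k] D ℤ (MvPolynomial σ k) x = c • ((1 : K) ⊗ₜ D ℤ (MvPolynomial σ k) x) by
          rw [TensorProduct.smul_tmul', smul_eq_mul, mul_one], map_smul]
        exact N.smul_mem _ (h1 x)
      | zero => rw [TensorProduct.tmul_zero, map_zero]; exact zero_mem _
      | add y z _ _ hy hz => rw [TensorProduct.tmul_add, map_add]; exact add_mem (hy c) (hz c)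
      | smul r y _ hy => rw [← TensorProduct.smul_tmul]; exact hy _
    | add a b ha hb => rw [map_add]; exact add_mem ha hb
  have := hle (Submodule.mem_top (x := w))
  rwa [Submodule.mem_comap, hT] at this

end poly

/-- The chain rule. -/
theorem D_aeval {k L : Type u} [Field k] [Field L] [Algebra k L] {ι : Type u} [Fintype ι] [DecidableEq ι] (y : ι → L)
    (g : MvPolynomial ι k) : D k L (aeval y g) = ∑ i, aeval y (pderiv i g) • D k L (y i) := by
  induction g using MvPolynomial.induction_on with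
  | C a => simp
  | add p q hp hq => simp [map_add, add_smul, Finset.sum_add_distrib, hp, hq]
  | mul_X p l hp =>
    rw [map_mul, Derivation.leibniz, aeval_X, hp, Finset.smul_sum]
    simp only [pderiv_mul, map_add, map_mul, aeval_X, add_smul, Finset.sum_add_distrib, smul_smul]
    rw [Finset.sum_eq_single (f := fun i => (aeval y p * aeval y (pderiv i (X l))) • D k L (y i)) l
      (fun i _ hi => by simp [pderiv_X_of_ne (Ne.symm hi)]) (fun h => absurd (Finset.mem_univ _) h),
      pderiv_X_self, map_one, mul_one, add_comm]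
    refine congrArg (· + _) (Finset.sum_congr rfl fun i _ => ?_)
    rw [mul_comm]

section main

variable {k S : Type u} [Field k] [CommRing S] [IsLocalRing S] [Algebra k S]
  {ι ζ : Type u} [Fintype ι] [Fintype ζ] [DecidableEq ι] [DecidableEq ζ]

/-- The span of the images of the relations between the first variables. -/
def relSpan (y : ι → S) : Submodule (ResidueField S) (CotangentSpace S) :=
  Submodule.span (ResidueField S)
    {v | ∃ (g : MvPolynomial ι k) (hg : aeval y g ∈ maximalIdeal S), v = (maximalIdeal S).toCotangent ⟨_, hg⟩}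

theorem exists_sub_mem (e : MvPolynomial (ι ⊕ ζ) k) :
    ∃ h : ζ → MvPolynomial (ι ⊕ ζ) k,
      e = rename Sum.inl (aeval (Sum.elim X (fun _ => 0)) e) + ∑ l, h l * X (Sum.inr l) := by
  have : e - rename Sum.inl (aeval (Sum.elim (X : ι → MvPolynomial ι k) (fun _ : ζ => 0)) e) ∈
      Ideal.span (Set.range fun l : ζ => (X (Sum.inr l) : MvPolynomial (ι ⊕ ζ) k)) := by
    induction e using MvPolynomial.induction_on with
    | C a => simp
    | add p q hp hq => rw [map_add, map_add, add_sub_add_comm]; exact add_mem hp hq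
    | mul_X p j hp =>
      rcases j with i | l
      · rw [map_mul, map_mul, aeval_X, Sum.elim_inl, rename_X, ← sub_mul]
        exact Ideal.mul_mem_right _ _ hp
      · rw [map_mul, map_mul, aeval_X, Sum.elim_inr, map_zero, mul_zero, sub_zero]
        exact Ideal.mul_mem_left _ _ (Ideal.subset_span ⟨l, rfl⟩)
  obtain ⟨h, hh⟩ := Ideal.mem_span_range_iff_exists_fun.1 this
  exact ⟨h, by rw [hh]; ring⟩

/-- The cotangent space of the source injects into the cotangent space of the target. -/
theorem eq_zero_of_cotangent (p : ℕ) [Fact p.Prime] [CharP S p]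
    [Algebra (MvPolynomial (ι ⊕ ζ) k) S] [IsScalarTower k (MvPolynomial (ι ⊕ ζ) k) S]
    (hinj : Function.Injective (dK k S (ResidueField S)))
    (L : Type u) [Field L] [Algebra k L] [Algebra L (ResidueField S)] [IsScalarTower k L (ResidueField S)]
    (yb : ι → L) (hyb : ∀ i, algebraMap L (ResidueField S) (yb i) =
      residue S (algebraMap (MvPolynomial (ι ⊕ ζ) k) S (X (Sum.inl i))))
    (hli : LinearIndependent L fun i => D k L (yb i))
    (hz : ∀ l, algebraMap (MvPolynomial (ι ⊕ ζ) k) S (X (Sum.inr l)) ∈ maximalIdeal S)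
    (hzli : LinearIndependent (ResidueField S) fun l =>
      (relSpan (k := k) fun i => algebraMap (MvPolynomial (ι ⊕ ζ) k) S (X (Sum.inl i))).mkQ
        ((maximalIdeal S).toCotangent ⟨_, hz l⟩))
    {n : Type u} [Fintype n] (e : n → MvPolynomial (ι ⊕ ζ) k)
    (he : ∀ m, algebraMap (MvPolynomial (ι ⊕ ζ) k) S (e m) ∈ maximalIdeal S) (c : n → ResidueField S)
    (hc : ∑ m, c m • (maximalIdeal S).toCotangent ⟨_, he m⟩ = 0) :
    ∑ m, c m • ((1 : ResidueField S) ⊗ₜ[MvPolynomial (ι ⊕ ζ) k] D ℤ (MvPolynomial (ι ⊕ ζ) k) (e m)) = 0 := by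
  classical
  let y : ι → S := fun i => algebraMap (MvPolynomial (ι ⊕ ζ) k) S (X (Sum.inl i))
  choose h hh using fun m => exists_sub_mem (k := k) (ι := ι) (ζ := ζ) (e m)
  let g : n → MvPolynomial ι k := fun m => aeval (Sum.elim X (fun _ => 0)) (e m)
  have hgy : ∀ q : MvPolynomial ι k, algebraMap (MvPolynomial (ι ⊕ ζ) k) S (rename Sum.inl q) = aeval y q := by
    have : (IsScalarTower.toAlgHom k (MvPolynomial (ι ⊕ ζ) k) S).comp (rename Sum.inl) = aeval y := MvPolynomial.algHom_ext fun i => by simp [y]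
    exact fun q => AlgHom.congr_fun this q
  let z : ζ → maximalIdeal S := fun l => ⟨algebraMap (MvPolynomial (ι ⊕ ζ) k) S (X (Sum.inr l)), hz l⟩
  have hsum : ∀ m, algebraMap (MvPolynomial (ι ⊕ ζ) k) S (e m) = aeval y (g m) + ∑ l, algebraMap (MvPolynomial (ι ⊕ ζ) k) S (h m l) * (z l : S) := fun m => by
    conv_lhs => rw [hh m]
    rw [map_add, map_sum, hgy]
    simp [z, g]
  have hgm : ∀ m, aeval y (g m) ∈ maximalIdeal S := fun m => by
    rw [eq_sub_iff_add_eq.2 (hsum m).symm]
    exact sub_mem (he m) (sum_mem fun l _ => Ideal.mul_mem_left _ _ (z l).2)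
  have hcot : ∀ m, (maximalIdeal S).toCotangent ⟨_, he m⟩ = (maximalIdeal S).toCotangent ⟨_, hgm m⟩ +
      ∑ l, residue S (algebraMap (MvPolynomial (ι ⊕ ζ) k) S (h m l)) • (maximalIdeal S).toCotangent (z l) := fun m => by
    have : (⟨_, he m⟩ : maximalIdeal S) = ⟨_, hgm m⟩ + ∑ l, algebraMap (MvPolynomial (ι ⊕ ζ) k) S (h m l) • z l :=
      Subtype.ext (by simp only [Submodule.coe_add, Submodule.coe_sum, SetLike.val_smul, smul_eq_mul]; exact hsum m)
    rw [this, map_add, map_sum]
    congr 1
  have hc' : ∑ m, c m • (maximalIdeal S).toCotangent ⟨_, hgm m⟩ +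
      ∑ l, (∑ m, c m * residue S (algebraMap (MvPolynomial (ι ⊕ ζ) k) S (h m l))) • (maximalIdeal S).toCotangent (z l) = 0 := by
    rw [← hc]
    simp only [hcot, smul_add, Finset.sum_add_distrib, Finset.smul_sum, smul_smul, Finset.sum_smul]
    rw [Finset.sum_comm]
  have hmem : ∀ m, (maximalIdeal S).toCotangent ⟨_, hgm m⟩ ∈ relSpan (k := k) y := fun m =>
    Submodule.subset_span ⟨g m, hgm m, rfl⟩
  have hcoef : ∀ l, ∑ m, c m * residue S (algebraMap (MvPolynomial (ι ⊕ ζ) k) S (h m l)) = 0 := by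
    have h1 := congrArg (relSpan (k := k) y).mkQ hc'
    have h0 : (relSpan (k := k) y).mkQ (∑ m, c m • (maximalIdeal S).toCotangent ⟨_, hgm m⟩) = 0 :=
      (Submodule.Quotient.mk_eq_zero _).2 (sum_mem fun m _ => Submodule.smul_mem _ _ (hmem m))
    rw [map_add, h0, zero_add, map_zero, map_sum] at h1
    simp only [map_smul] at h1
    exact Fintype.linearIndependent_iff.1 hzli _ h1
  have hc0 : ∑ m, c m • (maximalIdeal S).toCotangent ⟨_, hgm m⟩ = 0 := by
    simpa [hcoef] using hc'
  -- differentials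
  let e0 : n → (MvPolynomial (ι ⊕ ζ) k) := fun m => rename Sum.inl (g m)
  let ω : (ResidueField S) ⊗[(MvPolynomial (ι ⊕ ζ) k)] Ω[(MvPolynomial (ι ⊕ ζ) k)⁄ℤ] := ∑ m, c m • ((1 : (ResidueField S)) ⊗ₜ D ℤ (MvPolynomial (ι ⊕ ζ) k) (e0 m))
  have hzK : ∀ l, algebraMap (MvPolynomial (ι ⊕ ζ) k) (ResidueField S) (X (Sum.inr l)) = 0 := fun l => by
    rw [IsScalarTower.algebraMap_apply (MvPolynomial (ι ⊕ ζ) k) S (ResidueField S)]
    exact (residue_eq_zero_iff _).2 (hz l)
  have hω : ∑ m, c m • ((1 : (ResidueField S)) ⊗ₜ[(MvPolynomial (ι ⊕ ζ) k)] D ℤ (MvPolynomial (ι ⊕ ζ) k) (e m)) = ω := by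
    have h1 : ∀ m, (1 : (ResidueField S)) ⊗ₜ[(MvPolynomial (ι ⊕ ζ) k)] D ℤ (MvPolynomial (ι ⊕ ζ) k) (e m) = (1 : (ResidueField S)) ⊗ₜ D ℤ (MvPolynomial (ι ⊕ ζ) k) (e0 m) +
        ∑ l, residue S (algebraMap (MvPolynomial (ι ⊕ ζ) k) S (h m l)) • ((1 : (ResidueField S)) ⊗ₜ D ℤ (MvPolynomial (ι ⊕ ζ) k) (X (Sum.inr l))) := fun m => by
      conv_lhs => rw [hh m]
      rw [map_add, map_sum, TensorProduct.tmul_add, TensorProduct.tmul_sum]
      congr 1
      refine Finset.sum_congr rfl fun l _ => ?_
      rw [Derivation.leibniz, TensorProduct.tmul_add, TensorProduct.tmul_smul, TensorProduct.tmul_smul,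
        TensorProduct.smul_tmul', TensorProduct.smul_tmul', ← Algebra.algebraMap_eq_smul_one,
        ← Algebra.algebraMap_eq_smul_one, hzK, TensorProduct.zero_tmul, add_zero, TensorProduct.smul_tmul',
        smul_eq_mul, mul_one, IsScalarTower.algebraMap_apply (MvPolynomial (ι ⊕ ζ) k) S (ResidueField S)]
      rfl
    simp only [h1, smul_add, Finset.sum_add_distrib, Finset.smul_sum, smul_smul, ω]
    refine add_eq_left.2 ?_
    rw [Finset.sum_comm]
    exact Finset.sum_eq_zero fun l _ => by rw [← Finset.sum_smul, hcoef, zero_smul]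
  rw [hω]
  -- coordinates
  have hcoordr : ∀ l, coord (Sum.inr l) ω = 0 := fun l => by
    simp only [ω, map_sum, map_smul, coord_D, e0]
    refine Finset.sum_eq_zero fun m _ => ?_
    rw [NeronLib.pderiv_rename_of_notMem_range _ (fun i => Sum.inl_ne_inr), map_zero, smul_zero]
  have hbar : ∀ q : MvPolynomial ι k, algebraMap (MvPolynomial (ι ⊕ ζ) k) (ResidueField S) (rename Sum.inl q) = algebraMap L (ResidueField S) (aeval yb q) := by
    have : (IsScalarTower.toAlgHom k (MvPolynomial (ι ⊕ ζ) k) (ResidueField S)).comp (rename Sum.inl) = (IsScalarTower.toAlgHom k L (ResidueField S)).comp (aeval yb) :=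
      MvPolynomial.algHom_ext fun i => by
        simp only [AlgHom.comp_apply, rename_X, IsScalarTower.toAlgHom_apply, aeval_X, hyb]
        rfl
    exact fun q => AlgHom.congr_fun this q
  have hcoordl : ∀ i, coord (Sum.inl i) ω = ∑ m, c m • algebraMap L (ResidueField S) (aeval yb (pderiv i (g m))) := fun i => by
    simp only [ω, map_sum, map_smul, coord_D, e0]
    refine Finset.sum_congr rfl fun m _ => ?_
    rw [NeronLib.pderiv_rename_apply Sum.inl_injective, hbar]
  have hg0 : ∀ m, aeval yb (g m) = 0 := fun m => by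
    refine (algebraMap L (ResidueField S)).injective ?_
    rw [map_zero, ← hbar, IsScalarTower.algebraMap_apply (MvPolynomial (ι ⊕ ζ) k) S (ResidueField S), hgy]
    exact (residue_eq_zero_iff _).2 (hgm m)
  have hb : ∀ i, coord (Sum.inl i) ω = 0 := by
    refine Fintype.linearIndependent_iff.1 (linearIndependent_tmul (K := ResidueField S) _ hli) _ ?_
    simp only [hcoordl, Finset.sum_smul]
    rw [Finset.sum_comm]
    refine Finset.sum_eq_zero fun m _ => ?_
    have h1 := congrArg (fun w => c m • ((1 : (ResidueField S)) ⊗ₜ[L] w)) (D_aeval yb (g m))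
    simp only [hg0, map_zero, TensorProduct.tmul_zero, smul_zero, TensorProduct.tmul_sum, Finset.smul_sum] at h1
    rw [h1]
    refine Finset.sum_congr rfl fun i _ => ?_
    rw [TensorProduct.tmul_smul, ← IsScalarTower.algebraMap_smul (ResidueField S) (aeval yb (pderiv i (g m))), smul_smul, smul_eq_mul]
  obtain ⟨a, ha⟩ := sub_coord_mem ω
  replace ha : dK k (MvPolynomial (ι ⊕ ζ) k) (ResidueField S) a = ω :=
    ha.trans (sub_eq_self.2 (Finset.sum_eq_zero fun j _ => smul_eq_zero_of_left (by rcases j with i | l; exacts [hb i, hcoordr l]) _))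
  have hΦ : dK (MvPolynomial (ι ⊕ ζ) k) S (ResidueField S) ω = 0 := by
    let con := (FieldExtLib.conormal S).extendScalarsOfSurjective (R := S) (S := (ResidueField S)) residue_surjective
    have h1 : ∀ m, dK (MvPolynomial (ι ⊕ ζ) k) S (ResidueField S) ((1 : ResidueField S) ⊗ₜ D ℤ (MvPolynomial (ι ⊕ ζ) k) (e0 m)) = con ((maximalIdeal S).toCotangent ⟨_, hgm m⟩) := fun m => by
      refine (dK_tmul _ _ _ _ _).trans ?_
      refine Eq.trans ?_ (FieldExtLib.conormal_toCotangent S ⟨_, hgm m⟩).symm
      exact congrArg (fun x : S => (1 : ResidueField S) ⊗ₜ[S] D ℤ S x) (hgy (g m))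
    refine (map_sum _ _ _).trans ?_
    refine (Finset.sum_congr rfl fun m _ => (LinearMap.map_smul _ _ _).trans (congrArg _ (h1 m))).trans ?_
    refine ((map_sum con _ _).trans (Finset.sum_congr rfl fun m _ => LinearMap.map_smul con _ _)).symm.trans ?_
    exact (congrArg con hc0).trans (map_zero con)
  rw [← ha, dK_comp] at hΦ
  rw [← ha, hinj (hΦ.trans (map_zero _).symm)]
  exact map_zero _

end main

end Groth.Agent.SmoothingLib.Insep
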