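import Groth.Agent.SmoothingLib.ResolveRegular

/-! Resolution modulo an ideal of the base with zero-dimensional localized quotient. -/

set_option autoImplicit false
set_option maxSynthPendingDepth 5
universe u

noncomputable section

namespace Groth.Agent.SmoothingLib

open Smoothing IsLocalRing TensorProduct

/-- If modulo `K` the localized ring is zero-dimensional and the localized problem modulo `K` factors
through a smooth algebra, the problem modulo `K` can be resolved. -/
theorem resolvable_modStep {R C Λ : Type u} [CommRing R] [IsNoetherianRing R] [CommRing C] [Algebra R C]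
    [Algebra.FinitePresentation R C] [CommRing Λ] [Algebra R Λ] (φ : C →ₐ[R] Λ) (𝔮 : Ideal Λ) [𝔮.IsPrime]
    (S : Type u) [CommRing S] [Algebra Λ S] [IsLocalization.AtPrime S 𝔮] [Algebra R S] [IsScalarTower R Λ S]
    (K : Ideal R) (hK : K.map (algebraMap R Λ) ≤ 𝔮)
    (hnil : 𝔮.map (algebraMap Λ S) ≤ (K.map (algebraMap R S)).radical)
    (pb : Ideal (R ⧸ K)) [pb.IsPrime] (hpb : ∀ x : R, Ideal.Quotient.mk K x ∈ pb ↔ algebraMap R Λ x ∈ 𝔮)
    (P : Type u) [CommRing P] [Algebra (R ⧸ K) P] [IsLocalization.AtPrime P pb] [Algebra R P]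
    [IsScalarTower R (R ⧸ K) P] [Algebra P (S ⧸ K.map (algebraMap R S))]
    [IsScalarTower R P (S ⧸ K.map (algebraMap R S))]
    (B : Type u) [CommRing B] [Algebra P B] [Algebra R B] [IsScalarTower R P B] [Algebra.Smooth P B]
    (g : C →ₐ[R] B) (h : B →ₐ[P] S ⧸ K.map (algebraMap R S))
    (hgh : ∀ c, h (g c) = Ideal.Quotient.mk _ (algebraMap Λ S (φ c))) :
    Resolvable (R ⧸ K) (quotMap φ K) (𝔮.map (Ideal.Quotient.mk (K.map (algebraMap R Λ)))) := by
  classical
  let J : Ideal Λ := K.map (algebraMap R Λ)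
  let q' : Ideal (Λ ⧸ J) := 𝔮.map (Ideal.Quotient.mk J)
  haveI : q'.IsPrime := Ideal.map_isPrime_of_surjective Ideal.Quotient.mk_surjective (by rwa [Ideal.mk_ker])
  haveI : IsNoetherianRing C := Algebra.FiniteType.isNoetherianRing R C
  haveI : Algebra.FinitePresentation R (C ⧸ K.map (algebraMap R C)) :=
    Algebra.FinitePresentation.quotient (IsNoetherian.noetherian _)
  haveI hfpC : Algebra.FinitePresentation (R ⧸ K) (C ⧸ K.map (algebraMap R C)) :=
    Algebra.FinitePresentation.of_restrict_scalars_finitePresentation R _ _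
  by_cases hle : singRad (R ⧸ K) (quotMap φ K) ≤ q'
  swap
  · exact resolvable_self _ _ hle
  haveI : IsLocalRing S := IsLocalization.AtPrime.isLocalRing S 𝔮
  let KS : Ideal S := K.map (algebraMap R S)
  have hJS : J.map (algebraMap Λ S) = KS := by rw [Ideal.map_map, ← IsScalarTower.algebraMap_eq]
  have hKS : KS ≤ maximalIdeal S := by
    rw [← hJS, ← IsLocalization.AtPrime.map_eq_maximalIdeal 𝔮 S]
    exact Ideal.map_mono hK
  haveI : Nontrivial (S ⧸ KS) := Ideal.Quotient.nontrivial_iff.2 fun h =>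
    (maximalIdeal.isMaximal S).ne_top (top_le_iff.1 (h ▸ hKS))
  letI : Algebra (Λ ⧸ J) (S ⧸ KS) :=
    (Ideal.quotientMap KS (algebraMap Λ S) (Ideal.map_le_iff_le_comap.1 hJS.le)).toAlgebra
  haveI : IsScalarTower (R ⧸ K) (Λ ⧸ J) (S ⧸ KS) := IsScalarTower.of_algebraMap_eq fun x => by
    obtain ⟨x, rfl⟩ := Ideal.Quotient.mk_surjective x
    change Ideal.Quotient.mk KS (algebraMap R S x) = Ideal.Quotient.mk KS (algebraMap Λ S (algebraMap R Λ x))
    rw [← IsScalarTower.algebraMap_apply]
  haveI hloc : IsLocalization.AtPrime (S ⧸ KS) q' := isLocalization_quotient 𝔮 (S := S) (Ideal.Quotient.mk J)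
    Ideal.Quotient.mk_surjective (Ideal.Quotient.mk KS) Ideal.Quotient.mk_surjective (fun x => rfl)
    (by rw [Ideal.mk_ker, Ideal.mk_ker, hJS]) (by rw [Ideal.mk_ker]; exact hK) q' rfl
  haveI : IsLocalRing (S ⧸ KS) := IsLocalization.AtPrime.isLocalRing (S ⧸ KS) q'
  haveI hdim0 : Ring.KrullDimLE 0 (S ⧸ KS) := Ring.KrullDimLE.mk₀ fun P' hP => by
    haveI := hP
    have hP' : maximalIdeal (S ⧸ KS) ≤ P' := by
      intro z hz
      obtain ⟨z, rfl⟩ := Ideal.Quotient.mk_surjective z
      have hz' : z ∈ maximalIdeal S := fun hu => hz (hu.map (Ideal.Quotient.mk KS))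
      rw [← IsLocalization.AtPrime.map_eq_maximalIdeal 𝔮 S] at hz'
      obtain ⟨n, hn⟩ := hnil hz'
      refine hP.mem_of_pow_mem n ?_
      rw [← map_pow, Ideal.Quotient.eq_zero_iff_mem.2 hn]
      exact zero_mem _
    rw [← (maximalIdeal.isMaximal (S ⧸ KS)).eq_of_le hP.ne_top hP']
    infer_instance
  have hdim' : ringKrullDim (S ⧸ KS) = 0 :=
    le_antisymm (Ring.krullDimLE_iff.1 hdim0) ringKrullDim_nonneg_of_nontrivial
  have hmin : q' ∈ (singRad (R ⧸ K) (quotMap φ K)).minimalPrimes := by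
    refine ⟨⟨inferInstance, hle⟩, fun P hP hPq => ?_⟩
    haveI := hP.1
    intro z hz
    have hdisj : Disjoint (q'.primeCompl : Set (Λ ⧸ J)) P := Set.disjoint_left.2 fun y hy hyP => hy (hPq hyP)
    haveI := IsLocalization.isPrime_of_isPrime_disjoint q'.primeCompl (S ⧸ KS) P inferInstance hdisj
    have hPmax : P.map (algebraMap (Λ ⧸ J) (S ⧸ KS)) = maximalIdeal (S ⧸ KS) :=
      IsLocalRing.eq_maximalIdeal (Ideal.IsPrime.isMaximal' inferInstance)
    rw [← IsLocalization.comap_map_of_isPrime_disjoint q'.primeCompl (S ⧸ KS) inferInstance hdisj, hPmax,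
      ← IsLocalization.AtPrime.map_eq_maximalIdeal q' (S ⧸ KS)]
    exact Ideal.le_comap_map hz
  have hpb' : pb = q'.comap (algebraMap (R ⧸ K) (Λ ⧸ J)) := by
    ext x
    obtain ⟨x, rfl⟩ := Ideal.Quotient.mk_surjective x
    rw [hpb, Ideal.mem_comap]
    change _ ↔ Ideal.Quotient.mk J (algebraMap R Λ x) ∈ q'
    exact (Ideal.mem_quotient_iff_mem hK).symm
  subst hpb'
  haveI : IsScalarTower (R ⧸ K) P (S ⧸ KS) := IsScalarTower.of_algebraMap_eq fun x => by
    obtain ⟨x, rfl⟩ := Ideal.Quotient.mk_surjective x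
    change algebraMap R (S ⧸ KS) x = algebraMap P (S ⧸ KS) (algebraMap (R ⧸ K) P (algebraMap R (R ⧸ K) x))
    rw [← IsScalarTower.algebraMap_apply R (R ⧸ K) P, ← IsScalarTower.algebraMap_apply R P (S ⧸ KS)]
  refine S2034.result (Rₚ := P) (Λq := S ⧸ KS) (quotMap φ K) q' hmin hdim' ?_
  letI : Algebra (R ⧸ K) B := Algebra.compHom B (algebraMap (R ⧸ K) P)
  haveI : IsScalarTower (R ⧸ K) P B := IsScalarTower.of_algebraMap_eq fun _ => rfl
  haveI : IsScalarTower R (R ⧸ K) B := IsScalarTower.of_algebraMap_eq fun x => by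
    change algebraMap R B x = algebraMap P B (algebraMap (R ⧸ K) P (algebraMap R (R ⧸ K) x))
    rw [← IsScalarTower.algebraMap_apply R (R ⧸ K) P, ← IsScalarTower.algebraMap_apply R P B]
  have hg0 : ∀ x ∈ K.map (algebraMap R C), g x = 0 := fun x hx => by
    refine (show K.map (algebraMap R C) ≤ RingHom.ker g from Ideal.map_le_iff_le_comap.2 fun r hr => ?_) hx
    rw [Ideal.mem_comap, RingHom.mem_ker, g.commutes, IsScalarTower.algebraMap_apply R (R ⧸ K) B,
      Ideal.Quotient.algebraMap_eq, Ideal.Quotient.eq_zero_iff_mem.2 hr, map_zero]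
  let gK : (C ⧸ K.map (algebraMap R C)) →ₐ[R ⧸ K] B :=
    { toRingHom := Ideal.Quotient.lift _ g.toRingHom hg0
      commutes' := fun x => by
        obtain ⟨x, rfl⟩ := Ideal.Quotient.mk_surjective x
        change g (algebraMap R C x) = algebraMap (R ⧸ K) B (algebraMap R (R ⧸ K) x)
        rw [g.commutes, ← IsScalarTower.algebraMap_apply] }
  let g' : P ⊗[R ⧸ K] (C ⧸ K.map (algebraMap R C)) →ₐ[P] B :=
    Algebra.TensorProduct.lift (Algebra.ofId P B) gK (fun _ _ => Commute.all _ _)
  have htop : singularIdeal P B = ⊤ := by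
    rw [singularIdeal, Algebra.smoothLocus_eq_univ, Set.compl_univ, PrimeSpectrum.vanishingIdeal_empty]
  have htop' : singRad P h = ⊤ := by
    rw [singRad, htop, Ideal.map_top, Ideal.radical_top]
  refine ⟨B, inferInstance, inferInstance, inferInstance, g', h, ?_, by rw [htop']; exact le_top, ?_⟩
  · refine Algebra.TensorProduct.ext (AlgHom.ext fun x => by simp [g', KS]) (AlgHom.ext fun c => ?_)
    obtain ⟨c, rfl⟩ := Ideal.Quotient.mk_surjective c
    simp [g', gK]
    exact hgh c
  · rw [htop', top_le_iff, IsLocalization.AtPrime.map_eq_maximalIdeal q' (S ⧸ KS)]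
    exact (maximalIdeal.isMaximal _).ne_top

/-- A flat local algebra over a local ring with nilpotent maximal ideal and separable closed fibre field
is ind-smooth. -/
theorem indSmooth_of_flat_nilpotent {P T : Type u} [CommRing P] [IsLocalRing P] [CommRing T] [IsLocalRing T]
    [Algebra P T] [IsLocalHom (algebraMap P T)] [Module.Flat P T] (hnil : IsNilpotent (maximalIdeal P))
    (hmax : (maximalIdeal P).map (algebraMap P T) = maximalIdeal T)
    [Algebra.IsGeometricallyReduced (ResidueField P) (ResidueField T)] : IndSmooth P T := by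
  refine S2022.result (maximalIdeal P) hnil ?_
  haveI : ((maximalIdeal P).map (algebraMap P T)).IsMaximal := hmax ▸ maximalIdeal.isMaximal _
  letI : Field (T ⧸ (maximalIdeal P).map (algebraMap P T)) := Ideal.Quotient.field _
  let ε : ResidueField T ≃+* T ⧸ (maximalIdeal P).map (algebraMap P T) := Ideal.quotEquivOfEq hmax.symm
  refine indSmooth_transfer (k := ResidueField P) (k' := P ⧸ maximalIdeal P) (RingHom.id (ResidueField P))
    Function.bijective_id ε (fun x => ?_)
    (indSmooth_of_isGeometricallyReduced (k := ResidueField P) (F := ResidueField T))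
  obtain ⟨x, rfl⟩ := Ideal.Quotient.mk_surjective x
  rfl

end Groth.Agent.SmoothingLib
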