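import Groth.Agent.SmoothingLib.Parameters

/-! The algebra with parameters with its universal property. -/

set_option autoImplicit false
universe u

noncomputable section

namespace Groth.Agent.SmoothingLib

open MvPolynomial Smoothing

section param

variable {k A : Type u} [CommRing k] [CommRing A] [Algebra k A] {d t : ℕ} (a : Fin t → A) (N : ℕ)

/-- The algebra with parameters, together with its universal property. -/
theorem exists_param_univ [IsNoetherianRing k] [Algebra.FinitePresentation k A]
    (hsm : ∀ j, Algebra.Smooth k (Localization.Away (a j))) :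
    ∃ (A' : Type u) (_ : CommRing A') (_ : Algebra k A') (_ : Algebra (MvPolynomial (Fin d) k) A')
      (_ : IsScalarTower k (MvPolynomial (Fin d) k) A'),
      Algebra.FinitePresentation (MvPolynomial (Fin d) k) A' ∧
      ∃ ι : A →ₐ[k] A',
        (∀ j, Algebra.Smooth (MvPolynomial (Fin d) k) (Localization.Away (ι (a j)))) ∧
        (∀ i, Algebra.Smooth (MvPolynomial (Fin d) k)
          (Localization.Away (algebraMap (MvPolynomial (Fin d) k) A' (X i)))) ∧
        ∃ U : Fin d → Fin t → A',
        (∀ i, algebraMap (MvPolynomial (Fin d) k) A' (X i) ^ N = ∑ j, ι (a j) * U i j) ∧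
        ∀ (T : Type u) [CommRing T] [Algebra k T] [Algebra (MvPolynomial (Fin d) k) T]
          [IsScalarTower k (MvPolynomial (Fin d) k) T] (φ : A →ₐ[k] T) (lam : Fin d → Fin t → T),
          (∀ i, algebraMap (MvPolynomial (Fin d) k) T (X i) ^ N = ∑ j, φ (a j) * lam i j) →
          ∃ φ' : A' →ₐ[MvPolynomial (Fin d) k] T, (∀ x, φ' (ι x) = φ x) ∧ ∀ i j, φ' (U i j) = lam i j := by
  classical
  let mkA : MvPolynomial (Fin d ⊕ Fin d × Fin t) A →ₐ[k] ParamAlg a N d := Ideal.Quotient.mkₐ k _
  let x : Fin d → ParamAlg a N d := fun i => mkA (X (Sum.inl i))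
  letI : Algebra (MvPolynomial (Fin d) k) (ParamAlg a N d) := (aeval x).toRingHom.toAlgebra
  haveI : IsScalarTower k (MvPolynomial (Fin d) k) (ParamAlg a N d) :=
    IsScalarTower.of_algebraMap_eq fun c => ((aeval x).commutes c).symm
  have hX : ∀ i, algebraMap (MvPolynomial (Fin d) k) (ParamAlg a N d) (X i) = x i := fun i => aeval_X x i
  haveI : IsNoetherianRing A := Algebra.FiniteType.isNoetherianRing k A
  haveI : Algebra.FinitePresentation k (MvPolynomial (Fin d ⊕ Fin d × Fin t) A) :=
    Algebra.FinitePresentation.trans k A _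
  haveI : Algebra.FinitePresentation k (ParamAlg a N d) :=
    Algebra.FinitePresentation.quotient (IsNoetherian.noetherian _)
  haveI hfp : Algebra.FinitePresentation (MvPolynomial (Fin d) k) (ParamAlg a N d) :=
    Algebra.FinitePresentation.of_restrict_scalars_finitePresentation k _ _
  let ι : A →ₐ[k] ParamAlg a N d := mkA.comp (IsScalarTower.toAlgHom k A _)
  have hι : ∀ y, ι y = mkA (C y) := fun y => rfl
  have hrel : ∀ i, x i ^ N = ∑ j, ι (a j) * mkA (X (Sum.inr (i, j))) := fun i => by
    have h : mkA (paramRel a N i) = 0 := Ideal.Quotient.eq_zero_iff_mem.2 (Ideal.subset_span ⟨i, rfl⟩)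
    simp only [paramRel, map_sub, map_pow, map_sum, map_mul] at h
    exact sub_eq_zero.1 h
  -- smoothness where some `a j` is invertible
  have hsma : ∀ j₀, Algebra.Smooth (MvPolynomial (Fin d) k) (Localization.Away (ι (a j₀))) := by
    intro j₀
    haveI := hsm j₀
    haveI : Algebra.FinitePresentation (ParamAlg a N d) (Localization.Away (ι (a j₀))) :=
      IsLocalization.Away.finitePresentation (ι (a j₀))
    refine ⟨?_, Algebra.FinitePresentation.trans (MvPolynomial (Fin d) k) (ParamAlg a N d) _⟩
    rw [Algebra.FormallySmooth.iff_comp_surjective]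
    intro B _ _ I hI f
    letI : Algebra k B := Algebra.compHom B (algebraMap k (MvPolynomial (Fin d) k))
    haveI : IsScalarTower k (MvPolynomial (Fin d) k) B := IsScalarTower.of_algebraMap_eq fun _ => rfl
    haveI : IsScalarTower k (MvPolynomial (Fin d) k) (B ⧸ I) := IsScalarTower.of_algebraMap_eq fun _ => rfl
    let toE : ParamAlg a N d →ₐ[k] Localization.Away (ι (a j₀)) := IsScalarTower.toAlgHom k _ _
    let fA : A →ₐ[k] B ⧸ I := (f.restrictScalars k).comp (toE.comp ι)
    have hfu : IsUnit (fA (a j₀)) := (IsLocalization.Away.algebraMap_isUnit (ι (a j₀))).map f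
    let fa : Localization.Away (a j₀) →ₐ[k] B ⧸ I :=
      { toRingHom := IsLocalization.Away.lift (a j₀) (g := fA.toRingHom) hfu
        commutes' := fun c => by
          change IsLocalization.Away.lift (a j₀) hfu (algebraMap k _ c) = _
          rw [IsScalarTower.algebraMap_apply k A (Localization.Away (a j₀)), IsLocalization.Away.lift_eq]
          exact fA.commutes c }
    obtain ⟨g, hg⟩ := Algebra.FormallySmooth.comp_surjective k (Localization.Away (a j₀)) I hI fa
    let gA : A →ₐ[k] B := g.comp (IsScalarTower.toAlgHom k A (Localization.Away (a j₀)))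
    have hgA : ∀ y, Ideal.Quotient.mk I (gA y) = fA y := fun y =>
      (AlgHom.congr_fun hg (algebraMap A _ y)).trans (IsLocalization.Away.lift_eq (a j₀) hfu y)
    have hu : IsUnit (gA (a j₀)) := (IsLocalization.Away.algebraMap_isUnit (a j₀)).map g
    choose ζ hζ using fun p : Fin d × Fin t => Ideal.Quotient.mk_surjective (f (toE (mkA (X (Sum.inr p)))))
    let ζ' : Fin d × Fin t → B := fun p =>
      if p.2 = j₀ then ↑hu.unit⁻¹ * (algebraMap (MvPolynomial (Fin d) k) B (X p.1) ^ N -
        ∑ j ∈ Finset.univ.erase j₀, gA (a j) * ζ (p.1, j)) else ζ p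
    let vals : Fin d ⊕ Fin d × Fin t → B := Sum.elim (fun i => algebraMap (MvPolynomial (Fin d) k) B (X i)) ζ'
    let G0 : MvPolynomial (Fin d ⊕ Fin d × Fin t) A →ₐ[k] B := aevalTower gA vals
    have hG0 : ∀ y ∈ Ideal.span (Set.range (paramRel (d := d) a N)), G0 y = 0 := by
      intro y hy
      refine (show Ideal.span (Set.range (paramRel (d := d) a N)) ≤ RingHom.ker G0 from Ideal.span_le.2 ?_) hy
      rintro _ ⟨i, rfl⟩
      have hne : ∀ j ∈ Finset.univ.erase j₀, gA (a j) * ζ' (i, j) = gA (a j) * ζ (i, j) := fun j hj => by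
        simp only [ζ', if_neg (Finset.ne_of_mem_erase hj)]
      rw [SetLike.mem_coe, RingHom.mem_ker, paramRel, map_sub, map_pow, map_sum]
      simp only [G0, map_mul, aevalTower_C, aevalTower_X, vals, Sum.elim_inl, Sum.elim_inr]
      rw [← Finset.add_sum_erase _ _ (Finset.mem_univ j₀), Finset.sum_congr rfl hne]
      simp only [ζ', if_true]
      rw [← mul_assoc, IsUnit.mul_val_inv, one_mul]
      ring
    let G1 : ParamAlg a N d →ₐ[k] B := Ideal.Quotient.liftₐ _ G0 hG0
    have hG1u : IsUnit (G1 (ι (a j₀))) := by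
      change IsUnit (G0 (C (a j₀)))
      simpa [G0] using hu
    let G2 : Localization.Away (ι (a j₀)) →+* B := IsLocalization.Away.lift (ι (a j₀)) (g := G1.toRingHom) hG1u
    have hG2 : ∀ y, G2 (toE y) = G1 y := fun y => IsLocalization.Away.lift_eq _ hG1u y
    have hcommR : ∀ p, G2 (algebraMap (MvPolynomial (Fin d) k) _ p) = algebraMap (MvPolynomial (Fin d) k) B p := by
      intro p
      rw [IsScalarTower.algebraMap_apply (MvPolynomial (Fin d) k) (ParamAlg a N d) (Localization.Away (ι (a j₀)))]
      change G2 (toE _) = _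
      rw [hG2]
      have : G1.comp (IsScalarTower.toAlgHom k (MvPolynomial (Fin d) k) (ParamAlg a N d)) =
          IsScalarTower.toAlgHom k (MvPolynomial (Fin d) k) B := MvPolynomial.algHom_ext fun i => by
        change G1 (algebraMap _ _ (X i)) = algebraMap _ B (X i)
        rw [hX]
        change G0 (X (Sum.inl i)) = _
        simp [G0, vals]
      exact AlgHom.congr_fun this p
    refine ⟨{ G2 with commutes' := hcommR }, AlgHom.ext fun z => ?_⟩
    have key : ((Ideal.Quotient.mk I).comp G2) = f.toRingHom := by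
      refine IsLocalization.ringHom_ext (Submonoid.powers (ι (a j₀))) ?_
      refine Ideal.Quotient.ringHom_ext (MvPolynomial.ringHom_ext (fun y => ?_) fun o => ?_)
      · change Ideal.Quotient.mk I (G2 (toE (ι y))) = f (toE (ι y))
        rw [hG2]
        change Ideal.Quotient.mk I (G0 (C y)) = _
        simp only [G0, aevalTower_C]
        exact hgA y
      · change Ideal.Quotient.mk I (G2 (toE (mkA (X o)))) = f (toE (mkA (X o)))
        rw [hG2]
        change Ideal.Quotient.mk I (G0 (X o)) = _
        simp only [G0, aevalTower_X, vals]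
        have hx : ∀ i, Ideal.Quotient.mk I (algebraMap (MvPolynomial (Fin d) k) B (X i)) = f (toE (x i)) := fun i => by
          rw [← hX]
          change algebraMap (MvPolynomial (Fin d) k) (B ⧸ I) (X i) =
            f (algebraMap (ParamAlg a N d) _ (algebraMap (MvPolynomial (Fin d) k) _ (X i)))
          rw [← IsScalarTower.algebraMap_apply, AlgHom.commutes]
        rcases o with i | ⟨i, j⟩
        · exact hx i
        · simp only [Sum.elim_inr, ζ']
          split_ifs with h
          · subst h
            refine (hu.map (Ideal.Quotient.mk I)).mul_right_inj.1 ?_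
            rw [← map_mul, ← mul_assoc, IsUnit.mul_val_inv, one_mul, map_sub, map_pow, hx, map_sum]
            simp only [map_mul, hgA, hζ]
            rw [← map_pow, ← map_pow, hrel i, ← Finset.add_sum_erase _ _ (Finset.mem_univ j)]
            simp only [map_add, map_sum, map_mul]
            exact add_sub_cancel_right _ _
          · exact hζ (i, j)
    exact RingHom.congr_fun key z
  refine ⟨ParamAlg a N d, inferInstance, inferInstance, inferInstance, inferInstance, hfp, ι, hsma,
    fun i => ?_, fun i j => mkA (X (Sum.inr (i, j))), fun i => by rw [hX]; exact hrel i, fun T _ _ _ _ φ lam hlam => ?_⟩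
  · refine Algebra.basicOpen_subset_smoothLocus_iff_smooth.1 fun Q hQ => ?_
    have hex : ∃ j, ι (a j) ∉ Q.asIdeal := by
      by_contra hne
      simp only [not_exists, not_not] at hne
      refine hQ (Q.2.mem_of_pow_mem N ?_)
      rw [hX, hrel]
      exact Ideal.sum_mem _ fun j _ => Ideal.mul_mem_right _ _ (hne j)
    obtain ⟨j, hj⟩ := hex
    exact Algebra.basicOpen_subset_smoothLocus_iff_smooth.2 (hsma j) hj
  · let Φ0 : MvPolynomial (Fin d ⊕ Fin d × Fin t) A →ₐ[k] T :=
      aevalTower φ (Sum.elim (fun i => algebraMap (MvPolynomial (Fin d) k) T (X i)) fun p => lam p.1 p.2)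
    have hΦ0 : ∀ y ∈ Ideal.span (Set.range (paramRel (d := d) a N)), Φ0 y = 0 := by
      intro y hy
      refine (show Ideal.span (Set.range (paramRel (d := d) a N)) ≤ RingHom.ker Φ0 from Ideal.span_le.2 ?_) hy
      rintro _ ⟨i, rfl⟩
      rw [SetLike.mem_coe, RingHom.mem_ker, paramRel, map_sub, map_pow, map_sum, sub_eq_zero]
      simp only [Φ0, map_mul, aevalTower_C, aevalTower_X, Sum.elim_inl, Sum.elim_inr]
      exact hlam i
    let Φ1 : ParamAlg a N d →ₐ[k] T := Ideal.Quotient.liftₐ _ Φ0 hΦ0
    have hΦR : Φ1.comp (IsScalarTower.toAlgHom k (MvPolynomial (Fin d) k) (ParamAlg a N d)) =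
        IsScalarTower.toAlgHom k (MvPolynomial (Fin d) k) T := MvPolynomial.algHom_ext fun i => by
      change Φ1 (algebraMap _ _ (X i)) = algebraMap _ T (X i)
      rw [hX]
      change Φ0 (X (Sum.inl i)) = _
      simp [Φ0]
    refine ⟨{ toRingHom := Φ1.toRingHom, commutes' := fun p => AlgHom.congr_fun hΦR p },
      fun y => aevalTower_C _ _ y, fun i j => ?_⟩
    change Φ0 (X (Sum.inr (i, j))) = _
    simp [Φ0]

end param

/-- A retract with strictly standard powers of the parameters, independent of the target. -/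
theorem exists_param_retract {k A : Type u} [CommRing k] [IsNoetherianRing k] [CommRing A] [Algebra k A]
    [Algebra.FinitePresentation k A] {t : ℕ} (a : Fin t → A) (N d : ℕ)
    (hsm : ∀ j, Algebra.Smooth k (Localization.Away (a j))) :
    ∃ (C : Type u) (_ : CommRing C) (_ : Algebra k C) (_ : Algebra (MvPolynomial (Fin d) k) C)
      (_ : IsScalarTower k (MvPolynomial (Fin d) k) C),
      Algebra.FinitePresentation (MvPolynomial (Fin d) k) C ∧
      ∃ ι : A →ₐ[k] C,
        (∀ j, Algebra.Smooth (MvPolynomial (Fin d) k) (Localization.Away (ι (a j)))) ∧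
        (∃ lb : Fin d → ℕ, ∀ i n, lb i ≤ n →
          IsStrictlyStandard (MvPolynomial (Fin d) k) C (algebraMap (MvPolynomial (Fin d) k) C (X i) ^ n)) ∧
        ∃ U : Fin d → Fin t → C,
        (∀ i, algebraMap (MvPolynomial (Fin d) k) C (X i) ^ N = ∑ j, ι (a j) * U i j) ∧
        ∀ (T : Type u) [CommRing T] [Algebra k T] [Algebra (MvPolynomial (Fin d) k) T]
          [IsScalarTower k (MvPolynomial (Fin d) k) T] (φ : A →ₐ[k] T) (lam : Fin d → Fin t → T),
          (∀ i, algebraMap (MvPolynomial (Fin d) k) T (X i) ^ N = ∑ j, φ (a j) * lam i j) →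
          ∃ φ' : C →ₐ[MvPolynomial (Fin d) k] T, (∀ x, φ' (ι x) = φ x) ∧ ∀ i j, φ' (U i j) = lam i j := by
  obtain ⟨A', _, _, _, _, hA', ι, hsmj, hsmX, U, hU, huniv⟩ := exists_param_univ a N (d := d) hsm
  haveI := hA'
  obtain ⟨C, _, _, hC, ιC, ρC, hρ, hC2⟩ := exists_standard_retract (R := MvPolynomial (Fin d) k) (A := A')
  letI : Algebra k C := Algebra.compHom C (algebraMap k (MvPolynomial (Fin d) k))
  haveI : IsScalarTower k (MvPolynomial (Fin d) k) C := IsScalarTower.of_algebraMap_eq fun _ => rfl
  choose lb hlb using fun i => (hC2 _ (hsmX i)).2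
  refine ⟨C, inferInstance, inferInstance, inferInstance, inferInstance, hC, (ιC.restrictScalars k).comp ι,
    fun j => (hC2 _ (hsmj j)).1, ⟨lb, fun i n hn => ?_⟩, fun i j => ιC (U i j), fun i => ?_,
    fun T _ _ _ _ φ lam hlam => ?_⟩
  · have h := hlb i n hn
    rwa [AlgHom.commutes] at h
  · change _ = ∑ j, ιC (ι (a j)) * ιC (U i j)
    rw [← ιC.commutes, ← map_pow, hU, map_sum]
    exact Finset.sum_congr rfl fun j _ => map_mul ιC _ _
  · obtain ⟨φ', hφ', hφU⟩ := huniv T φ lam hlam
    exact ⟨φ'.comp ρC, fun x => (congrArg φ' (hρ (ι x))).trans (hφ' x),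
      fun i j => (congrArg φ' (hρ (U i j))).trans (hφU i j)⟩

end Groth.Agent.SmoothingLib
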