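import Groth.Agent.SmoothingLib.InsepData
import Groth.Agent.SmoothingLib.ModStep
import Groth.Agent.SmoothingLib.ParamUniv
import Groth.Agent.EtDescent.Scheme
import Groth.Agent.S2109
import Groth.Agent.S6822
import Groth.Agent.S6829

/-! The local lifting step in the inseparable case. -/

set_option autoImplicit false
set_option maxSynthPendingDepth 5
universe u

noncomputable section

namespace Groth.Agent.SmoothingLib.Insep

open MvPolynomial IsLocalRing TensorProduct Smoothing
open KaehlerDifferential (D)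

/-- A high power of an ideal lies in the ideal of powers of its generators. -/
theorem span_pow_le {R : Type u} [CommRing R] {r : ℕ} (y : Fin r → R) (e : ℕ) (he : 0 < e) :
    Ideal.span (Set.range y) ^ (r * e + 1) ≤ Ideal.span (Set.range fun i => y i ^ e) := by
  induction r with
  | zero =>
    rw [Set.range_eq_empty y, Ideal.span_empty, zero_mul, zero_add, pow_one]
    exact bot_le
  | succ r ih =>
    have h1 : Ideal.span (Set.range y) ≤ Ideal.span {y (Fin.last r)} ⊔ Ideal.span (Set.range fun i : Fin r => y i.castSucc) := by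
      rw [Ideal.span_le]
      rintro _ ⟨i, rfl⟩
      refine Fin.lastCases ?_ (fun j => ?_) i
      · exact Submodule.mem_sup_left (Ideal.subset_span rfl)
      · exact Submodule.mem_sup_right (Ideal.subset_span ⟨j, rfl⟩)
    refine (Ideal.pow_right_mono h1 _).trans ?_
    rw [show (r + 1) * e + 1 = e + (r * e + 1) by ring]
    refine (Ideal.sup_pow_add_le_pow_sup_pow).trans (sup_le ?_ ?_)
    · rw [Ideal.span_singleton_pow, Ideal.span_le, Set.singleton_subset_iff]
      exact Ideal.subset_span ⟨_, rfl⟩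
    · refine (ih _).trans (Ideal.span_le.2 ?_)
      rintro _ ⟨i, rfl⟩
      exact Ideal.subset_span ⟨_, rfl⟩

/-- Elements of a product of ideals as combinations with controlled coefficients. -/
theorem exists_coeff {R : Type u} [CommRing R] {t : ℕ} (f : Fin t → R) (J : Ideal R) {x : R}
    (hx : x ∈ J * Ideal.span (Set.range f)) : ∃ c : Fin t → R, (∀ j, c j ∈ J) ∧ x = ∑ j, f j * c j := by
  induction hx using Submodule.mul_induction_on' with
  | mem_mul_mem a ha b hb =>
    obtain ⟨w, rfl⟩ := Ideal.mem_span_range_iff_exists_fun.1 hb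
    exact ⟨fun j => a * w j, fun j => J.mul_mem_right _ ha, by
      rw [Finset.mul_sum]; exact Finset.sum_congr rfl fun j _ => by ring⟩
  | add a _ b _ ha hb =>
    obtain ⟨c, hc, rfl⟩ := ha
    obtain ⟨c', hc', rfl⟩ := hb
    exact ⟨fun j => c j + c' j, fun j => add_mem (hc j) (hc' j), by
      rw [← Finset.sum_add_distrib]; simp [mul_add]⟩

/-- A parameter is stable modulo high powers of the previous ones. -/
theorem stable_of_regular {R : Type u} [CommRing R] [IsLocalRing R] [IsNoetherianRing R] {r : ℕ} (y : Fin r → R)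
    (hy : ∀ i, y i ∈ maximalIdeal R) (hreg : RingTheory.Sequence.IsWeaklyRegular R (List.ofFn y)) (e : ℕ) (he : 0 < e)
    (i : Fin r) (M : ℕ) (x : R)
    (h : y i ^ M * x ∈ Ideal.span (Set.range fun j : {j : Fin r // (j : ℕ) < (i : ℕ)} => y j ^ e)) :
    x ∈ Ideal.span (Set.range fun j : {j : Fin r // (j : ℕ) < (i : ℕ)} => y j ^ e) := by
  induction M with
  | zero => simpa using h
  | succ M ih => exact ih (S2109.regular_mod_pow e he y hy hreg i _ (by rwa [pow_succ', mul_assoc] at h))

/-- The conditions of the lifting lemma for padded powers of a regular sequence. -/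
theorem stable_append {R : Type u} [CommRing R] [IsLocalRing R] [IsNoetherianRing R] {r v : ℕ} (y : Fin r → R)
    (hy : ∀ i, y i ∈ maximalIdeal R) (hreg : RingTheory.Sequence.IsWeaklyRegular R (List.ofFn y)) (m : ℕ) (hm : 0 < m)
    (π : Fin (r + v) → R) (hπl : ∀ i : Fin r, π (Fin.castAdd v i) = y i ^ m) (hπr : ∀ i : Fin v, π (Fin.natAdd r i) = 0)
    (i : Fin (r + v)) (x : R ⧸ Ideal.span (Set.range fun j : {j : Fin (r + v) // (j : ℕ) < (i : ℕ)} => π j ^ 8))
    (h : Ideal.Quotient.mk _ (π i) ^ 2 * x = 0) : Ideal.Quotient.mk _ (π i) * x = 0 := by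
  induction i using Fin.addCases with
  | right i => rw [hπr, map_zero, zero_mul]
  | left i =>
    obtain ⟨z, rfl⟩ := Ideal.Quotient.mk_surjective x
    rw [← map_pow, ← map_mul, Ideal.Quotient.eq_zero_iff_mem] at h
    rw [← map_mul, Ideal.Quotient.eq_zero_iff_mem]
    have hspan : Ideal.span (Set.range fun j : {j : Fin (r + v) // (j : ℕ) < ((Fin.castAdd v i : Fin (r + v)) : ℕ)} => π j ^ 8) =
        Ideal.span (Set.range fun j : {j : Fin r // (j : ℕ) < (i : ℕ)} => y j ^ (m * 8)) := by
      refine congrArg Ideal.span (Set.ext fun w => ⟨?_, ?_⟩)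
      · rintro ⟨⟨j, hj⟩, rfl⟩
        have hj' : (j : ℕ) < (i : ℕ) := hj
        refine ⟨⟨⟨j, lt_trans hj' i.2⟩, hj'⟩, ?_⟩
        have hje : j = Fin.castAdd v ⟨j, lt_trans hj' i.2⟩ := Fin.ext rfl
        change y _ ^ (m * 8) = π j ^ 8
        conv_rhs => rw [hje, hπl, ← pow_mul]
      · rintro ⟨⟨j, hj⟩, rfl⟩
        exact ⟨⟨Fin.castAdd v j, hj⟩, by simp only [hπl, ← pow_mul]⟩
    rw [hspan] at h ⊢
    rw [hπl] at h ⊢
    exact Ideal.mul_mem_left _ _ (stable_of_regular y hy hreg (m * 8) (by omega) i (m * 2) z (by rwa [pow_mul]))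

set_option maxHeartbeats 1600000 in
/-- The local factorization through a smooth algebra over an adapted regular base. -/
theorem exists_local_factor {k A S : Type u} [Field k] (p : ℕ) [Fact p.Prime] [CharP k p] [CommRing A] [Algebra k A]
    [Algebra.FinitePresentation k A] [CommRing S] [IsRegularLocalRing S] [Algebra k S]
    (hFS : CAlgX.IsAdicFormallySmooth k S (maximalIdeal S)) (φ : A →ₐ[k] S) {t : ℕ} (a : Fin t → A)
    (hsm : ∀ j, Algebra.Smooth k (Localization.Away (a j))) (N n : ℕ) (hN : 0 < N) (hnN : n ≤ N)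
    (hn : maximalIdeal S ^ n ≤ Ideal.span (Set.range fun j => φ (a j))) {v : ℕ} (σ : Fin v → Fin t → S)
    (hσ : ∀ l, ∑ j, φ (a j) * σ l j = 0) :
    ∃ (ι ζ : Type u) (_ : Fintype ι) (_ : Fintype ζ) (τ : ι ⊕ ζ → S) (r : ℕ)
      (g : Fin r → MvPolynomial (ι ⊕ ζ) k) (q : Ideal (MvPolynomial (ι ⊕ ζ) k)) (_ : q.IsPrime)
      (B : Type u) (_ : CommRing B) (ψ : Localization.AtPrime q →+* B) (gA : A →+* B) (h : B →+* S)
      (U : Fin r → Fin t → B) (σB : Fin v → Fin t → B),
      q = (maximalIdeal S).comap (aeval (R := k) τ) ∧ (∀ i, g i ∈ q) ∧ RingHom.Smooth ψ ∧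
      Ideal.span (Set.range fun i => aeval (R := k) τ (g i)) = maximalIdeal S ∧
      (∀ x, h (ψ (algebraMap _ _ x)) = aeval (R := k) τ x) ∧ (∀ x, h (gA x) = φ x) ∧
      (∀ c, gA (algebraMap k A c) = ψ (algebraMap (MvPolynomial (ι ⊕ ζ) k) _ (C c))) ∧
      (∀ i, ψ (algebraMap _ _ (g i)) ^ N = ∑ j, gA (a j) * U i j) ∧
      (∀ l, ∑ j, gA (a j) * σB l j = 0) ∧ ∀ l j, h (σB l j) = σ l j := by
  classical
  obtain ⟨r, hr⟩ := RegLocal.exists_nat_ringKrullDim (R := S)
  obtain ⟨C0, _, _, _, _, hC0, ι0, -, ⟨lb, hlb⟩, U0, hU0, huniv⟩ :=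
    exists_param_retract (k := k) a N (r + (v + 1)) hsm
  haveI := hC0
  let m0 := (∑ i, lb i) + 1
  have hm0 : ∀ i, lb i ≤ m0 := fun i => (Finset.single_le_sum (fun _ _ => Nat.zero_le _) (Finset.mem_univ i)).trans (Nat.le_succ _)
  let M := r * (m0 * 8) + 2
  let M' := M + n
  let m := maximalIdeal S
  obtain ⟨gens, hgens⟩ := (inferInstance : Algebra.FiniteType k A).out
  obtain ⟨ι, ζ, _, _, _, _, τ, A', _, hE, hflat, hmax, hess, hτ, hspanD, hpar⟩ :=
    exists_data p hFS M' (by omega)
      (gens.image (fun x => Ideal.Quotient.mk (m ^ M') (φ x)) ∪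
        Finset.univ.image (fun lj : Fin v × Fin t => Ideal.Quotient.mk (m ^ M') (σ lj.1 lj.2)))
  haveI := hflat
  haveI := hess
  let q : Ideal (MvPolynomial (ι ⊕ ζ) k) := (maximalIdeal S).comap (aeval τ)
  let P := Localization.AtPrime q
  have huS : ∀ y : q.primeCompl, IsUnit ((aeval τ : MvPolynomial (ι ⊕ ζ) k →ₐ[k] S) y) := fun y => by
    by_contra hy; exact y.2 hy
  letI : Algebra P S := (IsLocalization.lift (S := P) (g := (aeval τ).toRingHom) huS).toAlgebra
  have hPS : ∀ x, algebraMap P S (algebraMap (MvPolynomial (ι ⊕ ζ) k) P x) = aeval τ x := fun x =>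
    IsLocalization.lift_eq huS x
  obtain ⟨r', g, hgq, hgS, hdim, hflatPS, hgP, hregP⟩ := hpar q rfl P hPS
  haveI := hflatPS
  have hrr : r' = r := by
    have := hdim.symm.trans hr
    exact_mod_cast this
  subst hrr
  haveI : IsScalarTower k P S := IsScalarTower.of_algebraMap_eq fun c => by
    rw [IsScalarTower.algebraMap_apply k (MvPolynomial (ι ⊕ ζ) k) P, hPS]
    exact ((aeval τ).commutes c).symm
  have hmaxP : maximalIdeal P = q.map (algebraMap (MvPolynomial (ι ⊕ ζ) k) P) :=
    (IsLocalization.AtPrime.map_eq_maximalIdeal q P).symm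
  have hgP' : Ideal.span (Set.range fun i => algebraMap _ P (g i)) = maximalIdeal P := hgP.trans hmaxP.symm
  have hPmax : (maximalIdeal P).map (algebraMap P S) = m := by
    rw [← hgP', Ideal.map_span, ← Set.range_comp]
    exact (congrArg (fun f => Ideal.span (Set.range f)) (funext fun i => hPS (g i))).trans hgS
  haveI : IsLocalHom (algebraMap P S) :=
    ((IsLocalRing.local_hom_TFAE (algebraMap P S)).out 0 2 rfl rfl).mpr hPmax.le
  -- the quotient level
  let T := S ⧸ m ^ M'
  haveI : Nontrivial T := Ideal.Quotient.nontrivial_iff.2 fun h =>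
    (maximalIdeal.isMaximal S).ne_top (top_le_iff.1 (h ▸ Ideal.pow_le_self (by omega)))
  haveI : IsLocalRing T := IsLocalRing.of_surjective' (Ideal.Quotient.mk (m ^ M')) Ideal.Quotient.mk_surjective
  have hmT : m.map (Ideal.Quotient.mk (m ^ M')) ≤ maximalIdeal T := by
    rw [Ideal.map_le_iff_le_comap]
    intro x hx hu
    obtain ⟨y, hy⟩ := isUnit_iff_exists_inv.1 hu
    obtain ⟨y, rfl⟩ := Ideal.Quotient.mk_surjective y
    rw [← map_mul, ← map_one (Ideal.Quotient.mk (m ^ M')), Ideal.Quotient.eq] at hy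
    have := m.sub_mem (m.mul_mem_right y hx) (Ideal.pow_le_self (by omega) hy)
    rw [sub_sub_cancel] at this
    exact (maximalIdeal.isMaximal S).ne_top ((Ideal.eq_top_iff_one _).2 this)
  haveI : IsLocalHom (algebraMap A' T) :=
    ((IsLocalRing.local_hom_TFAE (algebraMap A' T)).out 0 2 rfl rfl).mpr (hmax.le.trans hmT)
  haveI : Module.FaithfullyFlat A' T := Module.FaithfullyFlat.of_flat_of_isLocalHom
  have hφA : ∀ x, Ideal.Quotient.mk (m ^ M') (φ x) ∈ A' := fun x => by
    have h1 : Algebra.adjoin k (gens : Set A) ≤ A'.comap ((Ideal.Quotient.mkₐ k (m ^ M')).comp φ) :=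
      Algebra.adjoin_le fun z hz => hE (Finset.mem_coe.2 (Finset.mem_union_left _ (Finset.mem_image_of_mem _ hz)))
    exact h1 (hgens ▸ Algebra.mem_top)
  let φA : A →ₐ[k] A' := ((Ideal.Quotient.mkₐ k (m ^ M')).comp φ).codRestrict A' hφA
  let τA : MvPolynomial (ι ⊕ ζ) k →ₐ[k] A' := aeval fun j => (⟨_, hτ j⟩ : A')
  have hτA : ∀ x, (τA x : T) = Ideal.Quotient.mk (m ^ M') (aeval τ x) := by
    have : A'.val.comp τA = (Ideal.Quotient.mkₐ k (m ^ M')).comp (aeval τ) := MvPolynomial.algHom_ext fun j => by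
      simp [τA]
      rfl
    exact fun x => AlgHom.congr_fun this x
  have huA : ∀ y : q.primeCompl, IsUnit (τA y) := fun y => by
    refine (isUnit_map_iff (algebraMap A' T) (τA y)).1 ?_
    change IsUnit (τA y : T)
    rw [hτA]
    exact (huS y).map _
  letI : Algebra P A' := (IsLocalization.lift (S := P) (g := τA.toRingHom) huA).toAlgebra
  have hPA : ∀ x, algebraMap P A' (algebraMap (MvPolynomial (ι ⊕ ζ) k) P x) = τA x := fun x =>
    IsLocalization.lift_eq huA x
  have hagree : ∀ x : P, (algebraMap P A' x : T) = Ideal.Quotient.mk (m ^ M') (algebraMap P S x) := by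
    have : (A'.val.toRingHom).comp (algebraMap P A') = (Ideal.Quotient.mk (m ^ M')).comp (algebraMap P S) :=
      IsLocalization.ringHom_ext q.primeCompl (RingHom.ext fun x => by
        change (algebraMap P A' (algebraMap _ P x) : T) = Ideal.Quotient.mk _ (algebraMap P S (algebraMap _ P x))
        rw [hPA, hPS, hτA])
    exact fun x => RingHom.congr_fun this x
  -- the coefficients
  let gS : Fin r' → S := fun i => aeval τ (g i)
  have hgSm : ∀ i, gS i ∈ m := fun i => by rw [show m = _ from hgS.symm]; exact Ideal.subset_span ⟨i, rfl⟩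
  have hgN : ∀ i, gS i ^ N ∈ Ideal.span (Set.range fun j => φ (a j)) := fun i =>
    hn (Ideal.pow_le_pow_right hnN (Ideal.pow_mem_pow (hgSm i) N))
  have hl2 : ∀ i, ∃ l : Fin t → A', τA (g i) ^ N = ∑ j, φA (a j) * l j := fun i => by
    have h1 : algebraMap A' T (τA (g i) ^ N) ∈ (Ideal.span (Set.range fun j => φA (a j))).map (algebraMap A' T) := by
      rw [Ideal.map_span, ← Set.range_comp, map_pow, show algebraMap A' T (τA (g i)) = _ from hτA (g i), ← map_pow]
      have h2 := Ideal.mem_map_of_mem (Ideal.Quotient.mk (m ^ M')) (hgN i)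
      rw [Ideal.map_span, ← Set.range_comp] at h2
      exact h2
    rw [← Ideal.mem_comap, Ideal.comap_map_eq_self_of_faithfullyFlat] at h1
    obtain ⟨l, hl⟩ := Ideal.mem_span_range_iff_exists_fun.1 h1
    exact ⟨l, by rw [← hl]; exact Finset.sum_congr rfl fun j _ => mul_comm _ _⟩
  choose l2 hl2 using hl2
  choose l1 hl1 using fun i j => Ideal.Quotient.mk_surjective (l2 i j : T)
  have herr : ∀ i, ∃ c : Fin t → S, (∀ j, c j ∈ m ^ M) ∧ gS i ^ N - ∑ j, φ (a j) * l1 i j = ∑ j, φ (a j) * c j :=
    fun i => by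
    refine exists_coeff _ _ (Ideal.mul_mono le_rfl hn ?_)
    rw [← pow_add, ← Ideal.Quotient.eq_zero_iff_mem, map_sub, map_pow, map_sum, sub_eq_zero]
    have h := congrArg (fun z : A' => (z : T)) (hl2 i)
    simp only [SubmonoidClass.coe_pow, AddSubmonoidClass.coe_finsetSum, MulMemClass.coe_mul, hτA] at h
    refine h.trans (Finset.sum_congr rfl fun j _ => ?_)
    rw [map_mul, hl1]
    rfl
  choose c hc hceq using herr
  -- the fibre product
  let mkM : S →ₐ[k] S ⧸ m ^ M := Ideal.Quotient.mkₐ k _
  let facM : T →ₐ[k] S ⧸ m ^ M := Ideal.Quotient.factorₐ k (Ideal.pow_le_pow_right (Nat.le_add_right M n))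
  let S2 : Subalgebra k (S × A') := AlgHom.equalizer (mkM.comp (AlgHom.fst k S A'))
    ((facM.comp A'.val).comp (AlgHom.snd k S A'))
  have hmem : ∀ (s : S) (x : A'), Ideal.Quotient.mk (m ^ M) s = facM (x : T) → (s, x) ∈ S2 := fun s x h => h
  have hmemA : ∀ (s : S) (hs : Ideal.Quotient.mk (m ^ M') s ∈ A'), (s, (⟨_, hs⟩ : A')) ∈ S2 := fun s hs => rfl
  let φ2 : A →ₐ[k] S2 := (φ.prod φA).codRestrict S2 fun x => hmemA _ (hφA x)
  have hσA : ∀ l j, Ideal.Quotient.mk (m ^ M') (σ l j) ∈ A' := fun l j =>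
    hE (Finset.mem_coe.2 (Finset.mem_union_right _
      (Finset.mem_image_of_mem (fun lj : Fin v × Fin t => Ideal.Quotient.mk (m ^ M') (σ lj.1 lj.2))
        (Finset.mem_univ (l, j)))))
  let π2 : Fin (r' + (v + 1)) → S2 := Fin.append
    (fun i => ⟨(gS i, τA (g i)), hmem _ _ (by rw [hτA]; rfl)⟩) (fun _ => 0)
  let σ2 : Fin (v + 1) → Fin t → S2 := Fin.snoc (fun l j => ⟨(σ l j, ⟨_, hσA l j⟩), hmemA _ _⟩) (fun _ => 0)
  let lam2 : Fin (r' + (v + 1)) → Fin t → S2 := Fin.append
    (fun i j => ⟨(l1 i j + c i j, l2 i j), hmem _ _ (by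
      rw [map_add, Ideal.Quotient.eq_zero_iff_mem.2 (hc i j), add_zero, ← hl1 i j]
      rfl)⟩) σ2
  letI : Algebra (MvPolynomial (Fin (r' + (v + 1))) k) S2 := (aeval π2).toRingHom.toAlgebra
  haveI : IsScalarTower k (MvPolynomial (Fin (r' + (v + 1))) k) S2 :=
    IsScalarTower.of_algebraMap_eq fun x => ((aeval π2).commutes x).symm
  obtain ⟨φ', hφ', hφU⟩ := huniv S2 φ2 lam2 (fun i => by
    rw [show algebraMap (MvPolynomial (Fin (r' + (v + 1))) k) S2 (X i) = π2 i from aeval_X π2 i]
    induction i using Fin.addCases with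
    | left i =>
      simp only [π2, lam2, Fin.append_left]
      refine Subtype.ext (Prod.ext ?_ ?_)
      · have := hceq i
        rw [sub_eq_iff_eq_add] at this
        simp only [SubmonoidClass.coe_pow, AddSubmonoidClass.coe_finsetSum, MulMemClass.coe_mul, Prod.pow_fst,
          Prod.fst_sum, Prod.fst_mul]
        rw [this, ← Finset.sum_add_distrib]
        exact Finset.sum_congr rfl fun j _ => by simp [φ2]; ring
      · simp only [SubmonoidClass.coe_pow, AddSubmonoidClass.coe_finsetSum, MulMemClass.coe_mul, Prod.pow_snd,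
          Prod.snd_sum, Prod.snd_mul]
        rw [hl2]
        rfl
    | right i =>
      simp only [π2, lam2, Fin.append_right, zero_pow hN.ne']
      induction i using Fin.lastCases with
      | last => simp [σ2]
      | cast l =>
        simp only [σ2, Fin.snoc_castSucc]
        refine Subtype.ext (Prod.ext ?_ (Subtype.ext ?_))
        · simp only [ZeroMemClass.coe_zero, Prod.fst_zero, AddSubmonoidClass.coe_finsetSum, MulMemClass.coe_mul,
            Prod.fst_sum, Prod.fst_mul]
          exact (hσ l).symm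
        · simp only [ZeroMemClass.coe_zero, Prod.snd_zero, AddSubmonoidClass.coe_finsetSum, MulMemClass.coe_mul,
            Prod.snd_sum, Prod.snd_mul]
          have h := congrArg (Ideal.Quotient.mk (m ^ M')) (hσ l)
          rw [map_sum, map_zero] at h
          exact (h.symm.trans (Finset.sum_congr rfl fun j _ => map_mul _ _ _)))
  -- base change to the regular base
  let π0 : Fin (r' + (v + 1)) → P := Fin.append (fun i => algebraMap _ P (g i)) (fun _ => 0)
  letI : Algebra (MvPolynomial (Fin (r' + (v + 1))) k) P := (aeval π0).toRingHom.toAlgebra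
  letI : Algebra (MvPolynomial (Fin (r' + (v + 1))) k) S :=
    ((algebraMap P S).comp (algebraMap (MvPolynomial (Fin (r' + (v + 1))) k) P)).toAlgebra
  haveI : IsScalarTower (MvPolynomial (Fin (r' + (v + 1))) k) P S := IsScalarTower.of_algebraMap_eq fun _ => rfl
  letI : Algebra (MvPolynomial (Fin (r' + (v + 1))) k) A' :=
    ((algebraMap P A').comp (algebraMap (MvPolynomial (Fin (r' + (v + 1))) k) P)).toAlgebra
  haveI : IsScalarTower (MvPolynomial (Fin (r' + (v + 1))) k) P A' := IsScalarTower.of_algebraMap_eq fun _ => rfl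
  have hcomp : ∀ x, ((algebraMap (MvPolynomial (Fin (r' + (v + 1))) k) S2 x : S × A')) =
      (algebraMap P S (aeval π0 x), algebraMap P A' (aeval π0 x)) := by
    intro x
    induction x using MvPolynomial.induction_on with
    | C b =>
      change ((aeval π2 (C b) : S2) : S × A') = _
      rw [aeval_C, aeval_C, IsScalarTower.algebraMap_apply k (MvPolynomial (ι ⊕ ζ) k) P, hPS, hPA]
      exact Prod.ext ((aeval τ).commutes b).symm (τA.commutes b).symm
    | add y z hy hz =>
      rw [map_add, Subalgebra.coe_add, hy, hz]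
      simp [map_add]
    | mul_X y i hy =>
      rw [map_mul, Subalgebra.coe_mul, hy, map_mul, aeval_X, map_mul, map_mul,
        show algebraMap (MvPolynomial (Fin (r' + (v + 1))) k) S2 (X i) = π2 i from aeval_X π2 i]
      induction i using Fin.addCases with
      | left i => simp [π2, π0, hPS, hPA, gS]
      | right i =>
        simp [π2, π0]
        rfl
  let φS : C0 →ₐ[MvPolynomial (Fin (r' + (v + 1))) k] S :=
    { toRingHom := (RingHom.fst S A').comp (S2.val.toRingHom.comp φ'.toRingHom)
      commutes' := fun x => by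
        change ((φ' (algebraMap _ C0 x) : S2) : S × A').1 = _
        rw [φ'.commutes, hcomp]
        rfl }
  let φT : C0 →ₐ[MvPolynomial (Fin (r' + (v + 1))) k] A' :=
    { toRingHom := (RingHom.snd S A').comp (S2.val.toRingHom.comp φ'.toRingHom)
      commutes' := fun x => by
        change ((φ' (algebraMap _ C0 x) : S2) : S × A').2 = _
        rw [φ'.commutes, hcomp]
        rfl }
  let CP := P ⊗[MvPolynomial (Fin (r' + (v + 1))) k] C0
  let φC : CP →ₐ[P] S := Algebra.TensorProduct.lift (Algebra.ofId P S) φS (fun _ _ => Commute.all _ _)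
  let φCA : CP →ₐ[P] A' := Algebra.TensorProduct.lift (Algebra.ofId P A') φT (fun _ _ => Commute.all _ _)
  have hagreeC : ∀ z : CP, Ideal.Quotient.mk (m ^ M) (φC z) = facM (φCA z : T) := by
    intro z
    induction z using TensorProduct.induction_on with
    | zero => simp
    | tmul x y =>
      have h1 : Ideal.Quotient.mk (m ^ M) (φS y) = facM (φT y : T) := (φ' y).2
      have h2 : Ideal.Quotient.mk (m ^ M) (algebraMap P S x) = facM (algebraMap P A' x : T) := by
        rw [hagree]; rfl
      change Ideal.Quotient.mk (m ^ M) (algebraMap P S x * φS y) = facM ((algebraMap P A' x * φT y : A') : T)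
      rw [MulMemClass.coe_mul, map_mul, map_mul, h1, h2]
    | add x y hx hy => simp only [map_add, AddMemClass.coe_add, hx, hy]
  -- the lifting lemma
  let π : Fin (r' + (v + 1)) → P := Fin.append (fun i => algebraMap _ P (g i) ^ m0) (fun _ => 0)
  let K : Ideal P := Ideal.span (Set.range fun i => π i ^ 8)
  have hgPm : ∀ i, algebraMap _ P (g i) ∈ maximalIdeal P := fun i => hgP' ▸ Ideal.subset_span ⟨i, rfl⟩
  have hπm : ∀ i, π i ∈ maximalIdeal P := fun i => by
    induction i using Fin.addCases with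
    | left i => simp only [π, Fin.append_left]; exact Ideal.pow_mem_of_mem _ (hgPm i) _ (Nat.succ_pos _)
    | right i => simp only [π, Fin.append_right]; exact zero_mem _
  have hKm : K ≤ maximalIdeal P := by
    rw [Ideal.span_le]; rintro _ ⟨i, rfl⟩; exact Ideal.pow_mem_of_mem _ (hπm i) 8 (by norm_num)
  have hPK : maximalIdeal P ^ (r' * (m0 * 8) + 1) ≤ K := by
    rw [← hgP']
    refine (span_pow_le _ (m0 * 8) (by omega)).trans (Ideal.span_le.2 ?_)
    rintro _ ⟨i, rfl⟩
    exact Ideal.subset_span ⟨Fin.castAdd (v + 1) i, by simp only [π, Fin.append_left, ← pow_mul]⟩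
  have hMK : m ^ M ≤ K.map (algebraMap P S) := by
    refine (Ideal.pow_le_pow_right (show r' * (m0 * 8) + 1 ≤ M from Nat.le_succ _)).trans ?_
    rw [← hPmax, ← Ideal.map_pow]
    exact Ideal.map_mono hPK
  haveI : IsNoetherianRing P := IsLocalization.isNoetherianRing q.primeCompl _ inferInstance
  let pb : Ideal (P ⧸ K) := (maximalIdeal P).map (Ideal.Quotient.mk K)
  haveI : pb.IsPrime := Ideal.map_isPrime_of_surjective Ideal.Quotient.mk_surjective (by rwa [Ideal.mk_ker])
  haveI : IsLocalization.AtPrime (P ⧸ K) pb := IsLocalization.self fun x hx => by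
    obtain ⟨x, rfl⟩ := Ideal.Quotient.mk_surjective x
    have hxm : x ∉ maximalIdeal P := fun h => hx (Ideal.mem_map_of_mem _ h)
    rw [IsLocalRing.mem_maximalIdeal, mem_nonunits_iff, not_not] at hxm
    exact hxm.map (Ideal.Quotient.mk K)
  haveI : IsLocalization.AtPrime S m := IsLocalization.self fun x hx => by
    by_contra h; exact hx h
  -- the mod step
  let P1 := P ⧸ maximalIdeal P ^ M'
  have hP1 : maximalIdeal P ^ M' ≤ K :=
    (Ideal.pow_le_pow_right (show r' * (m0 * 8) + 1 ≤ M' by omega)).trans hPK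
  haveI : Nontrivial P1 := Ideal.Quotient.nontrivial_iff.2 fun h =>
    (maximalIdeal.isMaximal P).ne_top (top_le_iff.1 (h ▸ Ideal.pow_le_self (by omega)))
  haveI : IsLocalRing P1 := IsLocalRing.of_surjective' (Ideal.Quotient.mk _) Ideal.Quotient.mk_surjective
  have hkerA : ∀ x ∈ maximalIdeal P ^ M', algebraMap P A' x = 0 := fun x hx => Subtype.ext (by
    rw [hagree, ZeroMemClass.coe_zero, Ideal.Quotient.eq_zero_iff_mem]
    have := Ideal.mem_map_of_mem (algebraMap P S) hx
    rwa [Ideal.map_pow, hPmax] at this)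
  letI : Algebra P1 A' := (Ideal.Quotient.lift _ (algebraMap P A') hkerA).toAlgebra
  haveI : IsScalarTower P P1 A' := IsScalarTower.of_algebraMap_eq fun _ => rfl
  letI : Algebra P1 T := ((algebraMap A' T).comp (algebraMap P1 A')).toAlgebra
  haveI : IsScalarTower P1 A' T := IsScalarTower.of_algebraMap_eq fun _ => rfl
  haveI : Module.Flat P1 T := by
    haveI := flat_quotient (R := P) (S := S) (maximalIdeal P ^ M')
    have hid : (maximalIdeal P ^ M').map (algebraMap P S) = m ^ M' := by rw [Ideal.map_pow, hPmax]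
    let e := Ideal.quotEquivOfEq hid
    refine Module.Flat.of_linearEquiv (M := S ⧸ (maximalIdeal P ^ M').map (algebraMap P S))
      ({ e.symm.toAddEquiv with
          map_smul' := fun x z => ?_ } : T ≃ₗ[P1] _)
    obtain ⟨x, rfl⟩ := Ideal.Quotient.mk_surjective x
    obtain ⟨z, rfl⟩ := Ideal.Quotient.mk_surjective z
    change e.symm ((algebraMap P A' x : T) * Ideal.Quotient.mk _ z) =
      Ideal.Quotient.mk _ (algebraMap P S x) * e.symm (Ideal.Quotient.mk _ z)
    rw [hagree, ← map_mul]
    rfl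
  haveI : Module.Flat P1 A' := EtDescent.flat_of_faithfullyFlat P1 A' T
  have hmax1 : (maximalIdeal P1).map (algebraMap P1 A') = maximalIdeal A' := by
    have h1 : maximalIdeal P1 = (maximalIdeal P).map (Ideal.Quotient.mk _) := by
      refine (IsLocalRing.eq_maximalIdeal ?_).symm
      refine (Ideal.map_eq_top_or_isMaximal_of_surjective _ Ideal.Quotient.mk_surjective (maximalIdeal.isMaximal P)).resolve_left fun h => ?_
      have := congrArg (Ideal.comap (Ideal.Quotient.mk (maximalIdeal P ^ M'))) h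
      rw [Ideal.comap_map_of_surjective _ Ideal.Quotient.mk_surjective, ← RingHom.ker_eq_comap_bot, Ideal.mk_ker,
        sup_eq_left.2 (Ideal.pow_le_self (by omega)), Ideal.comap_top] at this
      exact (maximalIdeal.isMaximal P).ne_top this
    rw [h1, Ideal.map_map]
    refine le_antisymm (Ideal.map_le_iff_le_comap.2 fun x hx hu => ?_) ?_
    · have h2 : algebraMap A' T (algebraMap P A' x) ∈ maximalIdeal T := by
        change (algebraMap P A' x : T) ∈ _
        rw [hagree]
        exact hmT (Ideal.mem_map_of_mem _ (hPmax ▸ Ideal.mem_map_of_mem _ hx))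
      exact h2 (hu.map _)
    · rw [← Ideal.comap_map_eq_self_of_faithfullyFlat (B := T) (Ideal.map ((algebraMap P1 A').comp _) (maximalIdeal P)),
        ← Ideal.map_le_iff_le_comap, hmax, Ideal.map_map]
      refine (le_of_eq ?_)
      refine (congrArg (Ideal.map (Ideal.Quotient.mk (m ^ M'))) hPmax).symm.trans ((Ideal.map_map _ _).trans ?_)
      exact congrArg (fun f : P →+* T => Ideal.map f (maximalIdeal P)) (RingHom.ext fun x => (hagree x).symm)
  haveI : IsLocalHom (algebraMap P1 A') :=
    ((IsLocalRing.local_hom_TFAE (algebraMap P1 A')).out 0 2 rfl rfl).mpr hmax1.le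
  have hnil1 : IsNilpotent (maximalIdeal P1) := by
    refine ⟨M', ?_⟩
    rw [Ideal.zero_eq_bot, eq_bot_iff]
    have h1 : maximalIdeal P1 ≤ (maximalIdeal P).map (Ideal.Quotient.mk _) := fun z hz => by
      obtain ⟨z, rfl⟩ := Ideal.Quotient.mk_surjective z
      refine Ideal.mem_map_of_mem _ fun hu => hz ?_
      exact hu.map _
    refine (Ideal.pow_right_mono h1 M').trans ?_
    rw [← Ideal.map_pow, Ideal.map_quotient_self]
  haveI : IsScalarTower k P1 A' := IsScalarTower.of_algebraMap_eq fun x => by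
    change algebraMap k A' x = algebraMap P A' (algebraMap k P x)
    rw [IsScalarTower.algebraMap_apply k (MvPolynomial (ι ⊕ ζ) k) P, hPA]
    exact (τA.commutes x).symm
  haveI : IsScalarTower k (ResidueField P1) (ResidueField A') := IsScalarTower.of_algebraMap_eq fun x => by
    change residue A' (algebraMap k A' x) = residue A' (algebraMap P1 A' (algebraMap k P1 x))
    rw [← IsScalarTower.algebraMap_apply]
  haveI : Algebra.IsGeometricallyReduced (ResidueField P1) (ResidueField A') :=
    isGeometricallyReduced_of_span (k := k) _ hspanD fun i =>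
      ⟨residue P1 (Ideal.Quotient.mk _ (algebraMap (MvPolynomial (ι ⊕ ζ) k) P (X (Sum.inl i)))), by
        change residue A' (algebraMap P A' (algebraMap (MvPolynomial (ι ⊕ ζ) k) P (X (Sum.inl i)))) = _
        rw [hPA]
        exact congrArg _ (aeval_X _ _)⟩
  have hind := indSmooth_of_flat_nilpotent hnil1 hmax1
  haveI : Algebra.FinitePresentation P CP := inferInstance
  let φ1 : P1 ⊗[P] CP →ₐ[P1] A' := Algebra.TensorProduct.lift (Algebra.ofId P1 A') φCA (fun _ _ => Commute.all _ _)
  obtain ⟨B1, _, _, hB1, g1, h1, hgh1⟩ := hind (P1 ⊗[P] CP) inferInstance φ1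
  haveI := hB1
  letI : Algebra P B1 := ((algebraMap P1 B1).comp (Ideal.Quotient.mk _)).toAlgebra
  haveI : IsScalarTower P P1 B1 := IsScalarTower.of_algebraMap_eq fun _ => rfl
  letI : Algebra P1 (P ⧸ K) := (Ideal.Quotient.factor hP1).toAlgebra
  haveI : IsScalarTower P P1 (P ⧸ K) := IsScalarTower.of_algebraMap_eq fun _ => rfl
  let facK : T →+* S ⧸ K.map (algebraMap P S) := (Ideal.Quotient.factor hMK).comp facM.toRingHom
  have hfacK : ∀ x : P, facK (algebraMap P A' x : T) = Ideal.Quotient.mk _ (algebraMap P S x) := fun x => by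
    rw [hagree]; rfl
  letI : Algebra P1 (S ⧸ K.map (algebraMap P S)) :=
    ((algebraMap (P ⧸ K) (S ⧸ K.map (algebraMap P S))).comp (algebraMap P1 (P ⧸ K))).toAlgebra
  haveI : IsScalarTower P1 (P ⧸ K) (S ⧸ K.map (algebraMap P S)) := IsScalarTower.of_algebraMap_eq fun _ => rfl
  let hB1S : B1 →ₐ[P1] S ⧸ K.map (algebraMap P S) :=
    { toRingHom := facK.comp (A'.val.toRingHom.comp h1.toRingHom)
      commutes' := fun x => by
        obtain ⟨x, rfl⟩ := Ideal.Quotient.mk_surjective x
        change facK ((h1 (algebraMap P1 B1 (Ideal.Quotient.mk _ x)) : A') : T) = _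
        rw [h1.commutes]
        exact hfacK x }
  let gC : CP →ₐ[P] (P ⧸ K) ⊗[P1] B1 :=
    { toRingHom := (Algebra.TensorProduct.includeRight : B1 →ₐ[P1] (P ⧸ K) ⊗[P1] B1).toRingHom.comp
        (g1.toRingHom.comp (Algebra.TensorProduct.includeRight : CP →ₐ[P] P1 ⊗[P] CP).toRingHom)
      commutes' := fun x => by
        change (Algebra.TensorProduct.includeRight : B1 →ₐ[P1] (P ⧸ K) ⊗[P1] B1)
          (g1 ((Algebra.TensorProduct.includeRight : CP →ₐ[P] P1 ⊗[P] CP) (algebraMap P CP x))) = _
        rw [AlgHom.commutes, IsScalarTower.algebraMap_apply P P1 (P1 ⊗[P] CP), g1.commutes, AlgHom.commutes,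
          ← IsScalarTower.algebraMap_apply] }
  have hres : Resolvable (P ⧸ K) (quotMap φC K) (m.map (Ideal.Quotient.mk (K.map (algebraMap P S)))) := by
    refine resolvable_modStep φC m S K (Ideal.map_le_iff_le_comap.2 fun x hx => ?_) ?_ pb (fun x => ?_)
      (P ⧸ K) ((P ⧸ K) ⊗[P1] B1) gC
      (Algebra.TensorProduct.lift (Algebra.ofId (P ⧸ K) _) hB1S (fun _ _ => Commute.all _ _)) fun z => ?_
    · exact hPmax ▸ Ideal.mem_map_of_mem _ (hKm hx)
    · rw [show algebraMap S S = RingHom.id S from rfl, Ideal.map_id]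
      intro x hx
      exact ⟨M, hMK (Ideal.pow_mem_pow hx M)⟩
    · have hiff : algebraMap P S x ∈ m ↔ x ∈ maximalIdeal P := by
        simp [m, IsLocalRing.mem_maximalIdeal, isUnit_map_iff]
      rw [hiff]
      exact Ideal.mem_quotient_iff_mem hKm
    · change Algebra.TensorProduct.lift (Algebra.ofId (P ⧸ K) _) hB1S _ ((1 : P ⧸ K) ⊗ₜ[P1] g1 ((1 : P1) ⊗ₜ[P] z)) = _
      rw [Algebra.TensorProduct.lift_tmul, map_one, one_mul]
      change facK ((h1 (g1 ((1 : P1) ⊗ₜ[P] z)) : A') : T) = _
      rw [show h1 (g1 ((1 : P1) ⊗ₜ[P] z)) = φ1 ((1 : P1) ⊗ₜ[P] z) from AlgHom.congr_fun hgh1 _]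
      simp only [φ1, Algebra.TensorProduct.lift_tmul, map_one, one_mul]
      change Ideal.Quotient.factor hMK (facM (φCA z : T)) = _
      rw [← hagreeC]
      rfl
  have hregS : RingTheory.Sequence.IsWeaklyRegular S (List.ofFn gS) :=
    (RegLocal.isRegular_of_generators S hdim _ hgS).toIsWeaklyRegular
  have hfin : Resolvable P φC m := by
    refine S6822.result φC m (show 0 < r' + (v + 1) by omega) π (fun i => ?_) (fun i x hx => ?_) (fun i x hx => ?_)
      (fun i => ?_) K rfl (quotMap φC K) (fun _ => rfl) hres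
    · exact hPmax ▸ Ideal.mem_map_of_mem _ (hπm i)
    · exact stable_append _ hgPm hregP m0 (Nat.succ_pos _) π (fun i => Fin.append_left _ _ i)
        (fun i => Fin.append_right _ _ i) i x hx
    · exact stable_append gS hgSm hregS m0 (Nat.succ_pos _) (fun i => algebraMap P S (π i))
        (fun i => by simp [π, hPS, gS]) (fun i => by simp [π]) i x hx
    · induction i using Fin.addCases with
      | left i =>
        have h := (S6829.result (R' := P) (algebraMap (MvPolynomial (Fin (r' + (v + 1))) k) C0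
          (X (Fin.castAdd (v + 1) i)) ^ m0)).2 (hlb _ _ (hm0 _))
        convert h using 1
        rw [← map_pow, ← Algebra.TensorProduct.tmul_one_eq_one_tmul, Algebra.TensorProduct.algebraMap_apply]
        congr 1
        simp only [π, Fin.append_left, map_pow, Algebra.algebraMap_self, RingHom.id_apply]
        congr 1
        rw [RingHom.algebraMap_toAlgebra]
        simp [π0]
      | right i =>
        simp only [π, Fin.append_right, map_zero]
        exact isStrictlyStandard_zero
  obtain ⟨B2, _, _, hB2, g2, h2, hgh2, -, hnle⟩ := hfin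
  obtain ⟨b, hbsing, hbm⟩ : ∃ b ∈ singularIdeal P B2, h2 b ∉ m := by
    by_contra hne
    simp only [not_exists, not_and, not_not] at hne
    exact hnle ((Ideal.IsPrime.radical_le_iff (maximalIdeal.isMaximal S).isPrime).2
      (Ideal.map_le_iff_le_comap.2 fun b hb => hne b hb))
  haveI hsmB : Algebra.Smooth P (Localization.Away b) :=
    Algebra.basicOpen_subset_smoothLocus_iff_smooth.1 fun Q hQ => by
      by_contra hns
      rw [singularIdeal, PrimeSpectrum.mem_vanishingIdeal] at hbsing
      exact hQ (hbsing Q hns)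
  have hbu : IsUnit (h2 b) := by
    by_contra h; exact hbm h
  let hB : Localization.Away b →+* S := IsLocalization.Away.lift b (g := h2.toRingHom) hbu
  have hhB : ∀ x, hB (algebraMap B2 _ x) = h2 x := fun x => IsLocalization.Away.lift_eq b hbu x
  let toB : CP →+* Localization.Away b := (algebraMap B2 (Localization.Away b)).comp g2.toRingHom
  let inC : C0 →+* CP := (Algebra.TensorProduct.includeRight : C0 →ₐ[MvPolynomial (Fin (r' + (v + 1))) k] CP).toRingHom
  let G : C0 →+* Localization.Away b := toB.comp inC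
  have hG : ∀ y : C0, hB (G y) = ((φ' y : S2) : S × A').1 := fun y => by
    change hB (algebraMap B2 _ (g2 ((1 : P) ⊗ₜ y))) = _
    rw [hhB, show h2 (g2 ((1 : P) ⊗ₜ y)) = φC ((1 : P) ⊗ₜ y) from AlgHom.congr_fun hgh2 _]
    change algebraMap P S 1 * φS y = _
    rw [map_one, one_mul]
    rfl
  have hGX : ∀ x, G (algebraMap (MvPolynomial (Fin (r' + (v + 1))) k) C0 x) =
      algebraMap P (Localization.Away b) (aeval π0 x) := fun x => by
    change algebraMap B2 _ (g2 ((1 : P) ⊗ₜ algebraMap (MvPolynomial (Fin (r' + (v + 1))) k) C0 x)) = _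
    rw [← Algebra.TensorProduct.tmul_one_eq_one_tmul, IsScalarTower.algebraMap_apply P B2 (Localization.Away b),
      ← g2.commutes]
    rfl
  refine ⟨ι, ζ, inferInstance, inferInstance, τ, r', g, q, inferInstance, Localization.Away b, inferInstance,
    algebraMap P (Localization.Away b), G.comp ι0.toRingHom, hB,
    fun i j => G (U0 (Fin.castAdd (v + 1) i) j), fun l j => G (U0 (Fin.natAdd r' l.castSucc) j),
    rfl, hgq, RingHom.smooth_algebraMap.2 hsmB, hgS, fun x => ?_, fun x => ?_, fun x => ?_, fun i => ?_, fun l => ?_,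
    fun l j => ?_⟩
  · rw [IsScalarTower.algebraMap_apply P B2 (Localization.Away b), hhB, h2.commutes, hPS]
  · change hB (G (ι0 x)) = _
    rw [hG, hφ']
    rfl
  · change G (ι0 (algebraMap k A x)) = _
    rw [ι0.commutes, IsScalarTower.algebraMap_apply k (MvPolynomial (Fin (r' + (v + 1))) k) C0, hGX,
      MvPolynomial.algebraMap_eq, aeval_C]
    rfl
  · have h := congrArg G (hU0 (Fin.castAdd (v + 1) i))
    rw [map_pow, hGX, aeval_X, map_sum] at h
    simp only [π0, Fin.append_left, map_mul] at h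
    exact h
  · have h := congrArg G (hU0 (Fin.natAdd r' l.castSucc))
    rw [map_pow, hGX, aeval_X, map_sum] at h
    simp only [π0, Fin.append_right, map_zero, zero_pow hN.ne', map_mul] at h
    exact h.symm
  · rw [hG, hφU]
    simp [lam2, σ2]

end Groth.Agent.SmoothingLib.Insep
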